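import Mathlib
set_option linter.all false

/-!
# FF-modules for a general prime `p`: basic notation

`X` a finite group acting on a finite elementary abelian `p`-group `V` (additive, `p • v = 0`).
* `fx V A` = `C_V(A)`, `fe V a` = `C_V(a)`, `cj g A` = `g A g⁻¹`, `mm V A` = `|A| |C_V(A)|`.

(The files `H263/FF/*` generalise `Mrg/Omega/FF/*` from `p = 2` to all primes.)
-/

set_option autoImplicit false
set_option linter.unusedSectionVars false

namespace Cfsg.Agent.H263.FF.Basic

/-! ### cardinalities -/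

section card

variable {W : Type*} [AddCommGroup W] [Finite W]

theorem card_mul_relIndex {H K : AddSubgroup W} (h : H ≤ K) :
    Nat.card H * H.relIndex K = Nat.card K := by
  rw [← AddSubgroup.relIndex_bot_left H, ← AddSubgroup.relIndex_bot_left K]
  exact AddSubgroup.relIndex_mul_relIndex _ _ _ bot_le h

theorem card_sup_inf (H K : AddSubgroup W) :
    Nat.card (H ⊔ K : AddSubgroup W) * Nat.card (H ⊓ K : AddSubgroup W) = Nat.card H * Nat.card K := by
  have h1 := card_mul_relIndex (le_sup_right : K ≤ H ⊔ K)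
  have h2 := card_mul_relIndex (inf_le_left : H ⊓ K ≤ H)
  rw [AddSubgroup.relIndex_sup_right] at h1
  rw [AddSubgroup.inf_relIndex_left] at h2
  rw [← h1, ← h2]; ring

theorem card_pos (H : AddSubgroup W) : 0 < Nat.card H := Nat.card_pos

theorem card_le {H K : AddSubgroup W} (h : H ≤ K) : Nat.card H ≤ Nat.card K :=
  Nat.card_le_card_of_injective (AddSubgroup.inclusion h) (AddSubgroup.inclusion_injective h)

theorem eq_of_card_le {H K : AddSubgroup W} (h : H ≤ K) (h' : Nat.card K ≤ Nat.card H) : H = K :=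
  AddSubgroup.eq_of_le_of_card_ge h h'

theorem card_top : Nat.card (⊤ : AddSubgroup W) = Nat.card W :=
  Nat.card_congr (Equiv.Set.univ W)

theorem card_le_top (H : AddSubgroup W) : Nat.card H ≤ Nat.card W := by
  rw [← card_top (W := W)]; exact card_le le_top

theorem mem_sup {H K : AddSubgroup W} {v : W} (h : v ∈ H ⊔ K) : ∃ a ∈ H, ∃ b ∈ K, a + b = v := by
  obtain ⟨a, ha, b, hb, e⟩ := AddSubgroup.mem_sup.1 h
  exact ⟨a, ha, b, hb, e⟩

end card

variable {X : Type*} [Group X] {V : Type*} [AddCommGroup V] [DistribMulAction X V]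

/-! ### fixed vectors -/

variable (V) in
/-- `C_V(A)` -/
def fx (A : Subgroup X) : AddSubgroup V where
  carrier := {v | ∀ a ∈ A, a • v = v}
  zero_mem' := fun a _ => smul_zero a
  add_mem' := fun {v w} hv hw a ha => by rw [smul_add, hv a ha, hw a ha]
  neg_mem' := fun {v} hv a ha => by rw [smul_neg, hv a ha]

variable (V) in
/-- `C_V(a)` -/
def fe (a : X) : AddSubgroup V where
  carrier := {v | a • v = v}
  zero_mem' := smul_zero a
  add_mem' := fun {v w} hv hw => by
    change a • (v + w) = v + w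
    rw [smul_add, hv, hw]
  neg_mem' := fun {v} hv => by
    change a • (-v) = -v
    rw [smul_neg, hv]

theorem mem_fx {A : Subgroup X} {v : V} : v ∈ fx V A ↔ ∀ a ∈ A, a • v = v := Iff.rfl

theorem mem_fe {a : X} {v : V} : v ∈ fe V a ↔ a • v = v := Iff.rfl

theorem fx_le_fe {A : Subgroup X} {a : X} (ha : a ∈ A) : fx V A ≤ fe V a := fun _ hv => hv a ha

theorem fx_anti {A B : Subgroup X} (h : A ≤ B) : fx V B ≤ fx V A := fun _ hv a ha => hv a (h ha)

theorem fx_sup (A B : Subgroup X) : fx V (A ⊔ B) = fx V A ⊓ fx V B := by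
  apply le_antisymm (le_inf (fx_anti le_sup_left) (fx_anti le_sup_right))
  rintro v ⟨h1, h2⟩
  intro a ha
  have : A ⊔ B ≤ MulAction.stabilizer X v :=
    sup_le (fun x hx => h1 x hx) (fun x hx => h2 x hx)
  exact this ha

theorem fx_bot : fx V (⊥ : Subgroup X) = ⊤ := by
  rw [eq_top_iff]; intro v _ a ha
  rw [Subgroup.mem_bot] at ha; rw [ha, one_smul]

theorem mem_fx_closure {S : Set X} {v : V} (h : ∀ a ∈ S, a • v = v) : v ∈ fx V (Subgroup.closure S) := by
  intro a ha
  have : Subgroup.closure S ≤ MulAction.stabilizer X v := (Subgroup.closure_le _).2 fun x hx => h x hx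
  exact this ha

theorem fe_inv (a : X) : fe V a⁻¹ = fe V a := by
  ext v; rw [mem_fe, mem_fe, inv_smul_eq_iff, eq_comm]

theorem le_stab {A : Subgroup X} {v : V} : A ≤ MulAction.stabilizer X v ↔ v ∈ fx V A := Iff.rfl

/-! ### conjugation -/

/-- `g A g⁻¹` -/
def cj (g : X) (A : Subgroup X) : Subgroup X := A.comap (MulAut.conj g⁻¹).toMonoidHom

theorem mem_cj {g x : X} {A : Subgroup X} : x ∈ cj g A ↔ g⁻¹ * x * g ∈ A := by
  rw [cj, Subgroup.mem_comap]
  simp

theorem mem_cj_of {g x : X} {A : Subgroup X} (h : x ∈ A) : g * x * g⁻¹ ∈ cj g A := by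
  rw [mem_cj]; convert h using 1; group

theorem cj_one (A : Subgroup X) : cj 1 A = A := by ext x; rw [mem_cj]; simp

theorem cj_cj (g h : X) (A : Subgroup X) : cj g (cj h A) = cj (g * h) A := by
  ext x; rw [mem_cj, mem_cj, mem_cj]; simp [mul_assoc]

theorem cj_inv_cj (g : X) (A : Subgroup X) : cj g⁻¹ (cj g A) = A := by
  rw [cj_cj, inv_mul_cancel, cj_one]

theorem cj_cj_inv (g : X) (A : Subgroup X) : cj g (cj g⁻¹ A) = A := by
  rw [cj_cj, mul_inv_cancel, cj_one]

theorem cj_mono (g : X) {A B : Subgroup X} (h : A ≤ B) : cj g A ≤ cj g B := by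
  intro x hx; rw [mem_cj] at *; exact h hx

theorem cj_le_iff {g : X} {A B : Subgroup X} : cj g A ≤ B ↔ ∀ a ∈ A, g * a * g⁻¹ ∈ B := by
  constructor
  · intro h a ha; exact h (mem_cj_of ha)
  · intro h x hx
    have := h _ (mem_cj.1 hx)
    convert this using 1; group

theorem cj_le_cj {g : X} {A B : Subgroup X} : cj g A ≤ cj g B ↔ A ≤ B := by
  refine ⟨fun h => ?_, cj_mono g⟩
  have := cj_mono g⁻¹ h
  rwa [cj_inv_cj, cj_inv_cj] at this

theorem cj_inj {g : X} {A B : Subgroup X} (h : cj g A = cj g B) : A = B := by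
  rw [← cj_inv_cj g A, h, cj_inv_cj]

theorem cj_sup (g : X) (A B : Subgroup X) : cj g (A ⊔ B) = cj g A ⊔ cj g B := by
  apply le_antisymm
  · have : A ⊔ B ≤ cj g⁻¹ (cj g A ⊔ cj g B) := by
      apply sup_le
      · have := cj_mono g⁻¹ (le_sup_left : cj g A ≤ cj g A ⊔ cj g B)
        rwa [cj_inv_cj] at this
      · have := cj_mono g⁻¹ (le_sup_right : cj g B ≤ cj g A ⊔ cj g B)
        rwa [cj_inv_cj] at this
    have := cj_mono g this
    rwa [cj_cj_inv] at this
  · exact sup_le (cj_mono g le_sup_left) (cj_mono g le_sup_right)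

theorem cj_bot (g : X) : cj g (⊥ : Subgroup X) = ⊥ := by
  rw [eq_bot_iff]; intro x hx
  rw [mem_cj, Subgroup.mem_bot] at hx
  rw [Subgroup.mem_bot]
  have : x = g * 1 * g⁻¹ := by rw [← hx]; group
  rw [this]; group

theorem cj_top (g : X) : cj g (⊤ : Subgroup X) = ⊤ := by
  rw [eq_top_iff]; intro x _
  rw [mem_cj]; trivial

/-- the isomorphism `A ≃ g A g⁻¹` as a bijection -/
theorem card_cj (g : X) (A : Subgroup X) : Nat.card (cj g A) = Nat.card A := by
  refine Nat.card_congr ⟨fun x => ⟨g⁻¹ * x * g, mem_cj.1 x.2⟩, fun x => ⟨g * x * g⁻¹, mem_cj_of x.2⟩,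
    fun x => ?_, fun x => ?_⟩
  · apply Subtype.ext; change g * (g⁻¹ * x * g) * g⁻¹ = x; group
  · apply Subtype.ext; change g⁻¹ * (g * x * g⁻¹) * g = x; group

theorem cj_eq_self_of_mem {g : X} {A : Subgroup X} (h : g ∈ A) : cj g A = A := by
  ext x; rw [mem_cj]
  constructor
  · intro hx
    have := A.mul_mem (A.mul_mem h hx) (A.inv_mem h)
    convert this using 1; group
  · intro hx; exact A.mul_mem (A.mul_mem (A.inv_mem h) hx) h

theorem cj_eq_iff_mem_normalizer {g : X} {A : Subgroup X} :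
    cj g A = A ↔ g ∈ Subgroup.normalizer (A : Set X) := by
  rw [Subgroup.mem_normalizer_iff]
  constructor
  · intro h x
    constructor
    · intro hx; rw [← h]; exact mem_cj_of hx
    · intro hx
      have hx' : g * x * g⁻¹ ∈ cj g A := by rw [h]; exact hx
      rw [mem_cj] at hx'
      convert hx' using 1; group
  · intro h
    ext x
    rw [mem_cj]
    have e : g * (g⁻¹ * x * g) * g⁻¹ = x := by group
    have := h (g⁻¹ * x * g)
    rw [e] at this
    exact this

theorem cj_eq_of_le [Finite X] {g : X} {A : Subgroup X} (h : cj g A ≤ A) : cj g A = A :=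
  Subgroup.eq_of_le_of_card_ge h (by rw [card_cj])

theorem isPGroup_cj {p : ℕ} {A : Subgroup X} (g : X) (h : IsPGroup p A) : IsPGroup p (cj g A) := by
  intro x
  obtain ⟨k, hk⟩ := h ⟨g⁻¹ * x * g, mem_cj.1 x.2⟩
  refine ⟨k, ?_⟩
  have h1 : (g⁻¹ * (x : X) * g) ^ p ^ k = 1 := by
    have := congrArg Subtype.val hk; simpa using this
  have h2 : (x : X) ^ p ^ k = 1 := by
    have e : (x : X) = g * (g⁻¹ * x * g) * g⁻¹ := by group
    rw [e, conj_pow, h1]; group
  exact Subtype.ext (by simpa using h2)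

theorem mem_fx_cj {g : X} {A : Subgroup X} {v : V} : v ∈ fx V (cj g A) ↔ g⁻¹ • v ∈ fx V A := by
  constructor
  · intro h a ha
    have := h _ (mem_cj_of (g := g) ha)
    rw [smul_smul, eq_inv_smul_iff, smul_smul]
    rw [← mul_assoc]; exact this
  · intro h x hx
    have := h _ (mem_cj.1 hx)
    rw [smul_smul, mul_assoc, mul_inv_cancel, mul_one, mul_smul] at this
    exact smul_left_cancel g⁻¹ this

theorem smul_mem_fx_cj {g : X} {A : Subgroup X} {v : V} (h : v ∈ fx V A) : g • v ∈ fx V (cj g A) := by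
  rw [mem_fx_cj, inv_smul_smul]; exact h

theorem mem_fe_conj {g a : X} {v : V} : v ∈ fe V (g * a * g⁻¹) ↔ g⁻¹ • v ∈ fe V a := by
  rw [mem_fe, mem_fe, eq_inv_smul_iff, smul_smul, smul_smul, mul_assoc]

theorem card_smul {H K : AddSubgroup V} (g : X) (h : ∀ v, v ∈ K ↔ g⁻¹ • v ∈ H) : Nat.card K = Nat.card H := by
  refine Nat.card_congr ⟨fun v => ⟨g⁻¹ • (v : V), (h _).1 v.2⟩,
    fun v => ⟨g • (v : V), (h _).2 (by rw [inv_smul_smul]; exact v.2)⟩, fun v => ?_, fun v => ?_⟩
  · apply Subtype.ext; change g • (g⁻¹ • (v : V)) = v; rw [smul_inv_smul]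
  · apply Subtype.ext; change g⁻¹ • (g • (v : V)) = v; rw [inv_smul_smul]

theorem card_fx_cj (g : X) (A : Subgroup X) : Nat.card (fx V (cj g A)) = Nat.card (fx V A) :=
  card_smul g fun _ => mem_fx_cj

/-! ### elementary abelian subgroups -/

/-- elementary abelian of exponent dividing `p` -/
def EA (p : ℕ) (A : Subgroup X) : Prop := (∀ a ∈ A, ∀ b ∈ A, a * b = b * a) ∧ ∀ a ∈ A, a ^ p = 1

section EA

variable {p : ℕ}

theorem EA.comm {A : Subgroup X} (h : EA p A) {a b : X} (ha : a ∈ A) (hb : b ∈ A) : a * b = b * a := h.1 a ha b hb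

theorem EA.pow {A : Subgroup X} (h : EA p A) {a : X} (ha : a ∈ A) : a ^ p = 1 := h.2 a ha

theorem EA.mono {A B : Subgroup X} (h : EA p B) (hAB : A ≤ B) : EA p A :=
  ⟨fun a ha b hb => h.1 a (hAB ha) b (hAB hb), fun a ha => h.2 a (hAB ha)⟩

theorem EA.bot : EA p (⊥ : Subgroup X) :=
  ⟨fun a ha b hb => by rw [Subgroup.mem_bot] at ha hb; rw [ha, hb], fun a ha => by
    rw [Subgroup.mem_bot] at ha; rw [ha, one_pow]⟩

theorem EA.cj {A : Subgroup X} (h : EA p A) (g : X) : EA p (cj g A) := by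
  constructor
  · intro x hx y hy
    have h1 := h.1 _ (mem_cj.1 hx) _ (mem_cj.1 hy)
    have e : x * y = g * ((g⁻¹ * x * g) * (g⁻¹ * y * g)) * g⁻¹ := by group
    rw [e, h1]; group
  · intro x hx
    have h1 := h.2 _ (mem_cj.1 hx)
    have e : x = g * (g⁻¹ * x * g) * g⁻¹ := by group
    rw [e, conj_pow, h1]; group

theorem EA.isPGroup {A : Subgroup X} (h : EA p A) : IsPGroup p A := by
  intro x
  refine ⟨1, Subtype.ext ?_⟩
  have := h.2 x x.2
  simpa using this

end EA

variable (V) in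
/-- `|A| |C_V(A)|` -/
noncomputable def mm (A : Subgroup X) : ℕ := Nat.card A * Nat.card (fx V A)

theorem mm_cj (g : X) (A : Subgroup X) : mm V (cj g A) = mm V A := by
  rw [mm, mm, card_cj, card_fx_cj]

theorem mm_bot : mm V (⊥ : Subgroup X) = Nat.card V := by
  rw [mm, fx_bot, Subgroup.card_bot, one_mul]; exact Nat.card_congr (Equiv.Set.univ V)

/-! ### counting by fibres -/

theorem card_fib [Finite X] [Finite V] {A S : Subgroup X} {C W : AddSubgroup V} (hCW : C ≤ W)
    (f : X → V) (hf : ∀ a ∈ A, f a ∈ W) (hfib : ∀ a ∈ A, ∀ b ∈ A, f a - f b ∈ C → b⁻¹ * a ∈ S) :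
    Nat.card A * Nat.card C ≤ Nat.card S * Nat.card W := by
  classical
  -- representative of a coset
  let P : V → X → Prop := fun v a => a ∈ A ∧ f a - v ∈ C
  let r : V ⧸ C → X := fun q => if h : ∃ a ∈ A, (QuotientAddGroup.mk (f a) : V ⧸ C) = q then h.choose else 1
  have hr : ∀ a ∈ A, r (QuotientAddGroup.mk (f a)) ∈ A ∧
      (QuotientAddGroup.mk (f (r (QuotientAddGroup.mk (f a)))) : V ⧸ C) = QuotientAddGroup.mk (f a) := by
    intro a ha
    have h : ∃ b ∈ A, (QuotientAddGroup.mk (f b) : V ⧸ C) = QuotientAddGroup.mk (f a) := ⟨a, ha, rfl⟩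
    have e : r (QuotientAddGroup.mk (f a)) = h.choose := dif_pos h
    rw [e]; exact h.choose_spec
  have hrS : ∀ a ∈ A, (r (QuotientAddGroup.mk (f a)))⁻¹ * a ∈ S := by
    intro a ha
    obtain ⟨h1, h2⟩ := hr a ha
    apply hfib a ha _ h1
    rw [QuotientAddGroup.eq] at h2
    rw [sub_eq_neg_add]; exact h2
  rw [← Nat.card_prod, ← Nat.card_prod]
  refine Nat.card_le_card_of_injective
    (fun x : A × C => ((⟨(r (QuotientAddGroup.mk (f x.1)))⁻¹ * x.1, hrS _ x.1.2⟩ : S),
      (⟨f x.1 + x.2, W.add_mem (hf _ x.1.2) (hCW x.2.2)⟩ : W))) ?_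
  rintro ⟨a, c⟩ ⟨a', c'⟩ h
  simp only [Prod.mk.injEq, Subtype.mk.injEq] at h
  obtain ⟨h1, h2⟩ := h
  have hq : (QuotientAddGroup.mk (f a) : V ⧸ C) = QuotientAddGroup.mk (f a') := by
    rw [QuotientAddGroup.eq]
    have e : -f a + f a' = (c : V) - c' := by
      have : f a' = f a + c - c' := by rw [h2]; abel
      rw [this]; abel
    rw [e]; exact C.sub_mem c.2 c'.2
  rw [hq] at h1
  have ha : (a : X) = a' := mul_left_cancel h1
  have hc : (c : V) = c' := by rw [ha] at h2; exact add_left_cancel h2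
  exact Prod.ext (Subtype.ext ha) (Subtype.ext hc)

/-! ### fixed points of p-groups -/

/-- the action on the quotient `V / K` -/
noncomputable def qact (K : AddSubgroup V) (t : X) (h : ∀ v ∈ K, t • v ∈ K) : V ⧸ K →+ V ⧸ K :=
  QuotientAddGroup.map K K (DistribSMul.toAddMonoidHom V t) fun v hv => h v hv

theorem exists_fixed {p : ℕ} [hp : Fact p.Prime] [Finite V] {T : Subgroup X} (hT : IsPGroup p T)
    {H K : AddSubgroup V} (h2 : ∀ v : V, p • v = 0)
    (hK : ∀ t ∈ T, ∀ v ∈ K, t • v ∈ K) (hH : ∀ t ∈ T, ∀ v ∈ H, t • v ∈ H) (hKH : K ≤ H) (hne : ¬ H ≤ K) :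
    ∃ v ∈ H, v ∉ K ∧ ∀ t ∈ T, t • v - v ∈ K := by
  classical
  let Q : AddSubgroup (V ⧸ K) := H.map (QuotientAddGroup.mk' K)
  have hQ : ∀ v : V, (QuotientAddGroup.mk v : V ⧸ K) ∈ Q → v ∈ H := by
    intro v hv
    obtain ⟨w, hw, e⟩ := hv
    have e' : (QuotientAddGroup.mk w : V ⧸ K) = QuotientAddGroup.mk v := e
    rw [QuotientAddGroup.eq] at e'
    have : v = w + (-w + v) := by abel
    rw [this]; exact H.add_mem hw (hKH e')
  have hQ' : ∀ v ∈ H, (QuotientAddGroup.mk v : V ⧸ K) ∈ Q := fun v hv => ⟨v, hv, rfl⟩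
  have key : ∀ (t : T) (v : V), qact K (t : X) (hK t t.2) (QuotientAddGroup.mk v) = QuotientAddGroup.mk ((t : X) • v) :=
    fun t v => rfl
  let act : MulAction T Q :=
    { smul := fun t q => ⟨qact K (t : X) (hK t t.2) q, by
        obtain ⟨q, hq⟩ := q
        induction q using QuotientAddGroup.induction_on with
        | H v => exact hQ' _ (hH t t.2 v (hQ v hq))⟩
      one_smul := by
        rintro ⟨q, hq⟩
        induction q using QuotientAddGroup.induction_on with
        | H v =>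
          apply Subtype.ext
          change qact K ((1 : T) : X) (hK (1 : T) (1 : T).2) (QuotientAddGroup.mk v) = QuotientAddGroup.mk v
          rw [key]; simp
      mul_smul := by
        rintro s t ⟨q, hq⟩
        induction q using QuotientAddGroup.induction_on with
        | H v =>
          apply Subtype.ext
          change qact K ((s * t : T) : X) (hK (s * t : T) (s * t : T).2) (QuotientAddGroup.mk v) =
            qact K (s : X) (hK s s.2) (qact K (t : X) (hK t t.2) (QuotientAddGroup.mk v))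
          rw [key, key, key]; simp [mul_smul] }
  have hcard : p ∣ Nat.card Q := by
    obtain ⟨w, hw, hwK⟩ := Set.not_subset.1 hne
    have ho : addOrderOf (⟨QuotientAddGroup.mk w, hQ' w hw⟩ : Q) = p := by
      apply addOrderOf_eq_prime
      · apply Subtype.ext
        change p • (QuotientAddGroup.mk w : V ⧸ K) = 0
        rw [← QuotientAddGroup.mk_nsmul, h2]; rfl
      · intro h
        have := congrArg Subtype.val h
        exact hwK ((QuotientAddGroup.eq_zero_iff w).1 this)
    rw [← ho]; exact addOrderOf_dvd_natCard _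
  have hfix := hT.card_modEq_card_fixedPoints Q
  have hmod : p ∣ Nat.card (MulAction.fixedPoints T Q) := (hfix.dvd_iff (dvd_refl p)).1 hcard
  have h0 : (0 : Q) ∈ MulAction.fixedPoints T Q := by
    intro t
    apply Subtype.ext
    change qact K (t : X) (hK t t.2) 0 = 0
    exact map_zero _
  have hlt : 1 < Nat.card (MulAction.fixedPoints T Q) := by
    have hpos : 0 < Nat.card (MulAction.fixedPoints T Q) := by
      have : Nonempty (MulAction.fixedPoints T Q) := ⟨⟨0, h0⟩⟩
      exact Nat.card_pos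
    exact lt_of_lt_of_le hp.out.one_lt (Nat.le_of_dvd hpos hmod)
  have := Finite.one_lt_card_iff_nontrivial.1 hlt
  obtain ⟨⟨q, hq⟩, hne'⟩ := exists_ne (⟨0, h0⟩ : MulAction.fixedPoints T Q)
  obtain ⟨q, hqQ⟩ := q
  induction q using QuotientAddGroup.induction_on with
  | H v =>
    refine ⟨v, hQ v hqQ, ?_, ?_⟩
    · intro hv
      apply hne'
      apply Subtype.ext
      apply Subtype.ext
      exact (QuotientAddGroup.eq_zero_iff v).2 hv
    · intro t ht
      have h1 := hq ⟨t, ht⟩
      have h3 : (QuotientAddGroup.mk (t • v) : V ⧸ K) = QuotientAddGroup.mk v := congrArg Subtype.val h1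
      rw [QuotientAddGroup.eq] at h3
      have h4 := K.neg_mem h3
      convert h4 using 1; abel

end Cfsg.Agent.H263.FF.Basic
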