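import Cfsg.Agent.H263.FF.Basic
import Cfsg.Prelude.Def_LocalEven
import Cfsg.Prelude.Def_Solvable
import Cfsg.Agent.H218.SpreadNat
import Cfsg.Prelude.Def_BaumannBlocks
import Cfsg.Prelude.Def_PLocal
set_option linter.all false

-- part: H263/FF/Quad
section
/-!
# FF-modules: minimal best offenders are quadratic (Timmesfeld replacement), any prime
-/

set_option autoImplicit false
set_option linter.unusedSectionVars false

namespace Cfsg.Agent.H263.FF.Quad

open Cfsg.Agent.H263.FF.Basic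

variable {X : Type*} [Group X] [Finite X] {V : Type*} [AddCommGroup V] [Finite V] [DistribMulAction X V]
  {p : ℕ} [hp : Fact p.Prime]

/-- `C_A([u, A])` -/
def st (A : Subgroup X) (u : V) : Subgroup X where
  carrier := {c | c ∈ A ∧ ∀ a ∈ A, c • (a • u - u) = a • u - u}
  one_mem' := ⟨A.one_mem, fun a _ => one_smul _ _⟩
  mul_mem' := fun {c d} hc hd => ⟨A.mul_mem hc.1 hd.1, fun a ha => by rw [mul_smul, hd.2 a ha, hc.2 a ha]⟩
  inv_mem' := fun {c} hc => ⟨A.inv_mem hc.1, fun a ha => by rw [inv_smul_eq_iff, hc.2 a ha]⟩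

theorem st_le (A : Subgroup X) (u : V) : st A u ≤ A := fun _ hc => hc.1

omit [Finite X] [Finite V] in
theorem mem_st_of {A : Subgroup X} (hA : ∀ a ∈ A, ∀ b ∈ A, a * b = b * a) (u : V) {a b : X} (ha : a ∈ A) (hb : b ∈ A)
    (h : (a • u - u) - (b • u - u) ∈ fx V A) : b⁻¹ * a ∈ st A u := by
  refine ⟨A.mul_mem (A.inv_mem hb) ha, fun d hd => ?_⟩
  -- `c = b⁻¹ a`, `c u - u ∈ C_V(A)`
  set c := b⁻¹ * a with hc
  have hcA : c ∈ A := A.mul_mem (A.inv_mem hb) ha
  have h1 : c • u - u ∈ fx V A := by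
    have h3 : (a • u - b • u : V) ∈ fx V A := by convert h using 1; abel
    have h4 := h3 b⁻¹ (A.inv_mem hb)
    have h5 : c • u - u = b⁻¹ • (a • u - b • u) := by
      rw [smul_sub, smul_smul, inv_smul_smul]
    rw [h5, h4]; exact h3
  have h2 : c • (d • u) = d • (c • u) := by
    rw [smul_smul, smul_smul, hA c hcA d hd]
  have h3 := h1 d hd
  rw [smul_sub] at h3
  rw [smul_sub, h2]
  have h4 : d • c • u = c • u - u + d • u := by rw [← h3]; abel
  rw [h4]; abel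

theorem mm_le_st {A : Subgroup X} (hA : ∀ a ∈ A, ∀ b ∈ A, a * b = b * a) (u : V) : mm V A ≤ mm V (st A u) := by
  have hsub : fx V A ≤ fx V (st A u) := fx_anti fun c hc => hc.1
  refine card_fib hsub (fun a => a • u - u) (fun a ha c hc => hc.2 a ha) ?_
  intro a ha b hb h
  exact mem_st_of hA u ha hb h

/-- if `a u = 2 u - c` with `a c = c`, `a ^ p = 1`, then `u = c` -/
theorem eq_of_double (h2 : ∀ v : V, p • v = 0) {a : X} (ha : a ^ p = 1) {u c : V} (h : a • u = (u + u) - c)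
    (hc : a • c = c) : u = c := by
  have key : ∀ n : ℕ, a ^ n • u = (2 : ℤ) ^ n • u - ((2 : ℤ) ^ n - 1) • c := by
    intro n
    induction n with
    | zero => simp
    | succ n ih =>
      rw [pow_succ', mul_smul, ih, smul_sub, smul_comm a, smul_comm a, h, hc, pow_succ]
      have e : (u + u : V) = (2 : ℤ) • u := by rw [two_zsmul]
      rw [e, smul_sub, smul_smul, sub_smul, sub_smul, mul_smul ((2 : ℤ) ^ n) 2 c, two_zsmul c, smul_add]
      abel
  have h3 := key p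
  rw [ha, one_smul] at h3
  obtain ⟨k, hk⟩ : (p : ℤ) ∣ (2 : ℤ) ^ p - 2 := by
    rw [← ZMod.intCast_zmod_eq_zero_iff_dvd]
    push_cast
    rw [ZMod.pow_card, sub_self]
  have hz : ∀ v : V, ((2 : ℤ) ^ p - 2) • v = 0 := by
    intro v
    rw [hk, mul_comm, mul_smul, natCast_zsmul, h2, smul_zero]
  have e1 : ((2 : ℤ) ^ p) • u = (2 : ℤ) • u := by
    have := hz u
    rw [sub_smul, sub_eq_zero] at this; exact this
  have e2 : ((2 : ℤ) ^ p - 1) • c = c := by
    have := hz c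
    have e : ((2 : ℤ) ^ p - 1) • c = ((2 : ℤ) ^ p - 2) • c + c := by
      rw [sub_smul, sub_smul, two_zsmul, one_zsmul]; abel
    rw [e, this, zero_add]
  rw [e1, e2, two_zsmul] at h3
  have : u + c = u + u := by
    nth_rewrite 1 [h3]; abel
  exact (add_left_cancel this).symm

/-- quadratic action of minimal offenders -/
theorem quad {A : Subgroup X} (h2 : ∀ v : V, p • v = 0) (hA : EA p A) (hne : A ≠ ⊥)
    (hoff : Nat.card V ≤ mm V A) (hmin : ∀ F < A, F ≠ ⊥ → mm V F < mm V A) :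
    ∀ a ∈ A, ∀ b ∈ A, ∀ v : V, b • (a • v - v) = a • v - v := by
  intro a ha b hb u
  have hle : st A u ≤ A := fun c hc => hc.1
  have h1 := mm_le_st hA.1 u
  by_cases hst : st A u = ⊥
  · exfalso
    -- `|A| |C| = |V|`
    have hA1 : mm V A = Nat.card V := by
      apply le_antisymm
      · rw [← mm_bot (V := V) (X := X), ← hst]; exact h1
      · exact hoff
    have hinj : ∀ a ∈ A, ∀ b ∈ A, (a • u - u) - (b • u - u) ∈ fx V A → a = b := by
      intro a ha b hb h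
      have := mem_st_of hA.1 u ha hb h
      rw [hst, Subgroup.mem_bot, inv_mul_eq_one] at this
      exact this.symm
    -- the map `A × C → V` is bijective
    have hbij : Function.Bijective (fun x : A × fx V A => ((x.1 : X) • u - u + (x.2 : V) : V)) := by
      rw [Nat.bijective_iff_injective_and_card]
      refine ⟨?_, ?_⟩
      · rintro ⟨a, c⟩ ⟨a', c'⟩ h
        have h' : (a : X) • u - u + (c : V) = (a' : X) • u - u + (c' : V) := h
        have e : (a : X) = a' := by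
          apply hinj a a.2 a' a'.2
          have : ((a : X) • u - u) - ((a' : X) • u - u) = (c' : V) - c := by
            have : (a : X) • u - u = (a' : X) • u - u + (c' : V) - c := by rw [← h']; abel
            rw [this]; abel
          rw [this]; exact (fx V A).sub_mem c'.2 c.2
        rw [e] at h'
        exact Prod.ext (Subtype.ext e) (Subtype.ext (add_left_cancel h'))
      · rw [Nat.card_prod]; exact hA1
    obtain ⟨⟨a, c⟩, hac⟩ := hbij.2 u
    have hac' : (a : X) • u - u + (c : V) = u := hac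
    have h3 : (a : X) • u = (u + u) - c := by rw [← sub_eq_zero] at hac' ⊢; rw [← hac']; abel
    have h5 : u ∈ fx V A := by
      rw [eq_of_double h2 (hA.pow a.2) h3 (c.2 a a.2)]; exact c.2
    apply hne
    rw [Subgroup.eq_bot_iff_forall]
    intro x hx
    apply hinj x hx 1 A.one_mem
    rw [h5 x hx, one_smul, sub_self]; exact (fx V A).zero_mem
  · have : st A u = A := by
      by_contra h
      exact absurd (hmin _ (lt_of_le_of_ne hle h) hst) (not_lt.2 h1)
    have hb' : b ∈ st A u := by rw [this]; exact hb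
    exact hb'.2 a ha

/-- existence of a minimal best offender -/
theorem exists_min (p : ℕ) (A₀ : Subgroup X) (h0 : EA p A₀) (hne : A₀ ≠ ⊥) (hoff : Nat.card V ≤ mm V A₀) :
    ∃ A : Subgroup X, EA p A ∧ A ≠ ⊥ ∧ (∀ F : Subgroup X, EA p F → mm V F ≤ mm V A) ∧
      (∀ F < A, F ≠ ⊥ → mm V F < mm V A) := by
  classical
  let S : Set (Subgroup X) := {A | EA p A ∧ A ≠ ⊥}
  have hS : S.Finite := Set.toFinite _
  obtain ⟨B, hB, hBmax⟩ := Set.exists_max_image S (fun A => mm V A) hS ⟨A₀, h0, hne⟩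
  let S' : Set (Subgroup X) := {A | (EA p A ∧ A ≠ ⊥) ∧ mm V A = mm V B}
  have hS' : S'.Finite := Set.toFinite _
  obtain ⟨A, hA, hAmin⟩ := Set.exists_min_image S' (fun A => Nat.card A) hS' ⟨B, hB, rfl⟩
  refine ⟨A, hA.1.1, hA.1.2, ?_, ?_⟩
  · intro F hF
    rw [hA.2]
    by_cases hF0 : F = ⊥
    · rw [hF0, mm_bot]
      exact hoff.trans (hBmax A₀ ⟨h0, hne⟩)
    · exact hBmax F ⟨hF, hF0⟩
  · intro F hF hF0
    have hFE : EA p F := hA.1.1.mono hF.le
    have h1 : mm V F ≤ mm V A := by rw [hA.2]; exact hBmax F ⟨hFE, hF0⟩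
    rcases h1.lt_or_eq with h | h
    · exact h
    · exfalso
      have h3 := hAmin F ⟨⟨hFE, hF0⟩, h.trans hA.2⟩
      exact hF.ne (Subgroup.eq_of_le_of_card_ge hF.le h3)

end Cfsg.Agent.H263.FF.Quad
end

-- part: H263/FF/Setup
section
/-!
# FF-modules: the hypotheses, points, and a Frattini lemma, any prime

`pt T` is the point of the Sylow subgroup `T` (in use the unique maximal subgroup over `T`, or a strongly embedded
subgroup).  `Hyp0` is the part of the hypotheses which suffices for the local theory of a pair; `Hyp` adds that the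
members of `𝒟` are best offenders and that normalisers of normal subgroups of `T` lie in the point of `T`.
-/

set_option autoImplicit false
set_option linter.unusedSectionVars false

namespace Cfsg.Agent.H263.FF.Setup

open Cfsg.Agent.H263.FF.Basic
open scoped Pointwise

variable {p : ℕ} [hp : Fact p.Prime]
variable {X : Type*} [Group X] [Finite X] {V : Type*} [AddCommGroup V] [Finite V] [DistribMulAction X V]

/-- `J(R)` -/
def J (𝒟 : Set (Subgroup X)) (R : Subgroup X) : Subgroup X := sSup {A | A ∈ 𝒟 ∧ A ≤ R}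

theorem coe_smul (g : X) (T : Sylow p X) : ((g • T : Sylow p X) : Subgroup X) = cj g (T : Subgroup X) := by
  ext x
  rw [mem_cj, Sylow.coe_subgroup_smul, Subgroup.mem_pointwise_smul_iff_inv_smul_mem]
  simp [MulAut.smul_def]

theorem J_le {𝒟 : Set (Subgroup X)} {R : Subgroup X} : J 𝒟 R ≤ R := sSup_le fun _ h => h.2

theorem le_J {𝒟 : Set (Subgroup X)} {R A : Subgroup X} (h : A ∈ 𝒟) (hR : A ≤ R) : A ≤ J 𝒟 R := le_sSup ⟨h, hR⟩

theorem J_mono {𝒟 : Set (Subgroup X)} {R R' : Subgroup X} (h : R ≤ R') : J 𝒟 R ≤ J 𝒟 R' :=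
  sSup_le fun _ hA => le_J hA.1 (hA.2.trans h)

theorem J_J {𝒟 : Set (Subgroup X)} {R : Subgroup X} : J 𝒟 (J 𝒟 R) = J 𝒟 R :=
  le_antisymm J_le (sSup_le fun _ hA => le_J hA.1 (le_J hA.1 hA.2))

theorem exists_sylow {P : Subgroup X} (h : IsPGroup p P) : ∃ T : Sylow p X, P ≤ T := h.exists_le_sylow

/-- Sylow subgroups inside `P` are conjugate in `P` -/
theorem exists_conj_of_le {P : Subgroup X} (T T' : Sylow p X) (h : (T : Subgroup X) ≤ P) (h' : (T' : Subgroup X) ≤ P) :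
    ∃ m ∈ P, cj m (T : Subgroup X) = T' := by
  obtain ⟨m, hm⟩ := MulAction.exists_smul_eq P (T.subtype h) (T'.subtype h')
  refine ⟨m, m.2, ?_⟩
  have h1 : ((m • T.subtype h : Sylow p P) : Subgroup P) = (T'.subtype h' : Subgroup P) := by rw [hm]
  ext x
  constructor
  · intro hx
    have hxP : x ∈ P := by
      rw [mem_cj] at hx
      have := P.mul_mem (P.mul_mem m.2 (h hx)) (P.inv_mem m.2)
      convert this using 1; group
    have : (⟨x, hxP⟩ : P) ∈ ((m • T.subtype h : Sylow p P) : Subgroup P) := by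
      rw [Sylow.coe_subgroup_smul, Subgroup.mem_pointwise_smul_iff_inv_smul_mem]
      change (((MulAut.conj m)⁻¹ • (⟨x, hxP⟩ : P) : P) : X) ∈ (T : Subgroup X)
      rw [mem_cj] at hx
      convert hx using 1
      simp [MulAut.smul_def]
    rw [h1] at this
    exact this
  · intro hx
    have hxP : x ∈ P := h' hx
    have h2 : (⟨x, hxP⟩ : P) ∈ (T'.subtype h' : Subgroup P) := hx
    rw [← h1, Sylow.coe_subgroup_smul, Subgroup.mem_pointwise_smul_iff_inv_smul_mem] at h2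
    have h3 : (((MulAut.conj m)⁻¹ • (⟨x, hxP⟩ : P) : P) : X) ∈ (T : Subgroup X) := h2
    rw [mem_cj]
    convert h3 using 1
    simp [MulAut.smul_def]

/-- The hypotheses for the local theory; `𝒟` is the class of a minimal offender, `pt T` the point of `T`. -/
structure Hyp0 (p : ℕ) [Fact p.Prime] (V : Type*) [AddCommGroup V] [DistribMulAction X V]
    (pt : Sylow p X → Subgroup X) (𝒟 : Set (Subgroup X)) : Prop where
  h2 : ∀ v : V, p • v = 0
  faith : ∀ x : X, (∀ v : V, x • v = v) → x = 1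
  le_pt : ∀ T : Sylow p X, (T : Subgroup X) ≤ pt T
  pt_smul : ∀ (g : X) (T : Sylow p X), pt (g • T) = cj g (pt T)
  pt_eq_of_le : ∀ T T' : Sylow p X, (T' : Subgroup X) ≤ pt T → pt T' = pt T
  mem_pt_of_cj : ∀ (g : X) (T : Sylow p X), cj g (pt T) = pt T → g ∈ pt T
  exists_ne_pt : ∃ T T' : Sylow p X, pt T ≠ pt T'
  vec : ∀ T : Sylow p X, ∃ v ∈ fx V (T : Subgroup X), MulAction.stabilizer X v ≤ pt T
  conj : ∀ A ∈ 𝒟, ∀ g : X, cj g A ∈ 𝒟
  tr : ∀ A ∈ 𝒟, ∀ B ∈ 𝒟, ∃ g : X, cj g A = B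
  ne : 𝒟.Nonempty
  ea : ∀ A ∈ 𝒟, EA p A
  nb : ∀ A ∈ 𝒟, A ≠ ⊥
  off : ∀ A ∈ 𝒟, Nat.card V ≤ mm V A
  min : ∀ A ∈ 𝒟, ∀ F < A, F ≠ ⊥ → mm V F < mm V A
  quad : ∀ A ∈ 𝒟, ∀ a ∈ A, ∀ b ∈ A, ∀ v : V, b • (a • v - v) = a • v - v

/-- The hypotheses for the global theory. -/
structure Hyp (p : ℕ) [Fact p.Prime] (V : Type*) [AddCommGroup V] [DistribMulAction X V]
    (pt : Sylow p X → Subgroup X) (𝒟 : Set (Subgroup X)) : Prop extends Hyp0 p V pt 𝒟 where
  nrm : ∀ (T : Sylow p X) (Q : Subgroup X), Q ≠ ⊥ → Q ≤ T → (T : Subgroup X) ≤ Subgroup.normalizer (Q : Set X) →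
    Subgroup.normalizer (Q : Set X) ≤ pt T
  max : ∀ A ∈ 𝒟, ∀ E : Subgroup X, EA p E → mm V E ≤ mm V A

namespace Hyp0

variable {pt : Sylow p X → Subgroup X} {𝒟 : Set (Subgroup X)} (h : Hyp0 p V pt 𝒟)
include h

theorem J_cj (g : X) (R : Subgroup X) : J 𝒟 (cj g R) = cj g (J 𝒟 R) := by
  apply le_antisymm
  · apply sSup_le
    rintro A ⟨hA, hAR⟩
    have h1 : cj g⁻¹ A ≤ J 𝒟 R := le_J (h.conj A hA _) (by
      have := cj_mono g⁻¹ hAR; rwa [cj_inv_cj] at this)
    have := cj_mono g h1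
    rwa [cj_cj_inv] at this
  · have : J 𝒟 R ≤ cj g⁻¹ (J 𝒟 (cj g R)) := by
      apply sSup_le
      rintro A ⟨hA, hAR⟩
      have h1 : cj g A ≤ J 𝒟 (cj g R) := le_J (h.conj A hA _) (cj_mono g hAR)
      have := cj_mono g⁻¹ h1
      rwa [cj_inv_cj] at this
    have := cj_mono g this
    rwa [cj_cj_inv] at this

theorem exists_le (T : Sylow p X) : ∃ A ∈ 𝒟, A ≤ (T : Subgroup X) := by
  obtain ⟨A, hA⟩ := h.ne
  obtain ⟨T', hT'⟩ := exists_sylow (h.ea A hA).isPGroup
  obtain ⟨g, hg⟩ := MulAction.exists_smul_eq X T' T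
  refine ⟨cj g A, h.conj A hA g, ?_⟩
  rw [← hg, coe_smul]; exact cj_mono g hT'

theorem cj_pt_iff {g : X} {T : Sylow p X} : cj g (pt T) = pt T ↔ g ∈ pt T :=
  ⟨h.mem_pt_of_cj g T, cj_eq_self_of_mem⟩

theorem card_eq {A B : Subgroup X} (hA : A ∈ 𝒟) (hB : B ∈ 𝒟) : Nat.card A = Nat.card B := by
  obtain ⟨g, hg⟩ := h.tr B hB A hA
  rw [← hg, card_cj]

theorem two_le {A : Subgroup X} (hA : A ∈ 𝒟) : 2 ≤ Nat.card A := by
  have := (Subgroup.one_lt_card_iff_ne_bot A).2 (h.nb A hA)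
  omega

end Hyp0

end Cfsg.Agent.H263.FF.Setup

namespace Cfsg.Agent.H263.FF.Frat

open Cfsg.Agent.H263.FF.Basic Cfsg.Agent.H263.FF.Setup
open scoped Pointwise

variable {p : ℕ} [hp : Fact p.Prime] {X : Type*} [Group X] [Finite X]

theorem smul_map {K : Subgroup X} (y : X) (hy : y ∈ Subgroup.normalizer (K : Set X)) (R : Sylow p K) :
    (((Subgroup.normalizerMonoidHom K ⟨y, hy⟩ : MulAut K) • R : Sylow p K) : Subgroup K).map K.subtype =
      cj y ((R : Subgroup K).map K.subtype) := by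
  ext x
  rw [mem_cj]
  constructor
  · rintro ⟨k, hk, rfl⟩
    obtain ⟨r, hr, e⟩ := hk
    refine ⟨r, hr, ?_⟩
    have e' : (y : X) * r * y⁻¹ = k := congrArg Subtype.val e
    change (r : X) = y⁻¹ * (k : X) * y
    rw [← e']; group
  · rintro ⟨r, hr, e⟩
    refine ⟨Subgroup.normalizerMonoidHom K ⟨y, hy⟩ r, ⟨r, hr, rfl⟩, ?_⟩
    have e' : (r : X) = y⁻¹ * x * y := e
    change (y : X) * r * y⁻¹ = x
    rw [e']; group

theorem frat {K Y E : Subgroup X} (hY : Y ≤ Subgroup.normalizer (K : Set X)) (hEY : E ≤ Y)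
    (hE : IsPGroup p E) : ∃ R : Subgroup X, R ≤ K ∧ IsPGroup p R ∧ E ≤ Subgroup.normalizer (R : Set X) ∧
      (∀ y ∈ Y, ∃ k ∈ K, k⁻¹ * y ∈ Subgroup.normalizer (R : Set X)) ∧
      (∀ Q ≤ K, IsPGroup p Q → ∃ k ∈ K, Q ≤ cj k R) := by
  classical
  have hEK : E ≤ Subgroup.normalizer (K : Set X) := hEY.trans hY
  let act : MulAction E (Sylow p K) :=
    MulAction.compHom (Sylow p K) ((Subgroup.normalizerMonoidHom K).comp (Subgroup.inclusion hEK))
  have hnd : ¬ p ∣ Nat.card (Sylow p K) := by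
    have := card_sylow_modEq_one p K
    intro hd
    have h3 : Nat.card (Sylow p K) ≡ 0 [MOD p] := (Nat.modEq_zero_iff_dvd).2 hd
    have h4 : p ∣ 1 := (Nat.modEq_zero_iff_dvd).1 (this.symm.trans h3)
    exact hp.out.one_lt.ne' (Nat.dvd_one.1 h4)
  obtain ⟨R', hR'⟩ := hE.nonempty_fixed_point_of_prime_not_dvd_card (Sylow p K) hnd
  let R : Subgroup X := (R' : Subgroup K).map K.subtype
  have hRK : R ≤ K := by
    rintro x ⟨k, _, rfl⟩; exact k.2
  refine ⟨R, hRK, R'.isPGroup'.map K.subtype, ?_, ?_, ?_⟩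
  · intro e he
    rw [← cj_eq_iff_mem_normalizer]
    have h1 : (Subgroup.normalizerMonoidHom K ⟨e, hEK he⟩ : MulAut K) • R' = R' := hR' ⟨e, he⟩
    rw [← smul_map e (hEK he) R', h1]
  · intro y hy
    obtain ⟨k, hk⟩ := MulAction.exists_smul_eq K R'
      ((Subgroup.normalizerMonoidHom K ⟨y, hY hy⟩ : MulAut K) • R')
    refine ⟨k, k.2, ?_⟩
    rw [← cj_eq_iff_mem_normalizer, ← cj_cj]
    have h1 := smul_map y (hY hy) R'
    rw [← hk] at h1
    have h2 : (((k • R' : Sylow p K)) : Subgroup K).map K.subtype = cj (k : X) R := by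
      ext x
      rw [mem_cj]
      constructor
      · rintro ⟨z, hz, rfl⟩
        obtain ⟨r, hr, e⟩ := hz
        refine ⟨r, hr, ?_⟩
        have e' : (k : X) * r * (k : X)⁻¹ = z := congrArg Subtype.val e
        change (r : X) = (k : X)⁻¹ * (z : X) * k
        rw [← e']; group
      · rintro ⟨r, hr, e⟩
        refine ⟨k * r * k⁻¹, ⟨r, hr, rfl⟩, ?_⟩
        have e' : (r : X) = (k : X)⁻¹ * x * k := e
        change (k : X) * r * (k : X)⁻¹ = x
        rw [e']; group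
    rw [h2] at h1
    rw [← h1, cj_inv_cj]
  · intro Q hQ hQ2
    obtain ⟨R'', hR''⟩ := (hQ2.comap_subtype (H := Q) (K := K) : IsPGroup p (Q.subgroupOf K)).exists_le_sylow
    obtain ⟨k, hk⟩ := MulAction.exists_smul_eq K R' R''
    refine ⟨k, k.2, ?_⟩
    intro x hx
    have h1 : (⟨x, hQ hx⟩ : K) ∈ (R'' : Subgroup K) := hR'' hx
    rw [← hk] at h1
    obtain ⟨r, hr, e⟩ := h1
    rw [mem_cj]
    refine ⟨r, hr, ?_⟩
    have e' : (k : X) * r * (k : X)⁻¹ = x := congrArg Subtype.val e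
    change (r : X) = (k : X)⁻¹ * (x : X) * k
    rw [← e']; group

/-- a `p`-subgroup of `P` lies in a conjugate of the Sylow subgroup `T ≤ P` -/
theorem exists_conj_ge {P Q : Subgroup X} (T : Sylow p X) (hT : (T : Subgroup X) ≤ P) (hQ : IsPGroup p Q) (hQP : Q ≤ P) :
    ∃ m ∈ P, Q ≤ cj m (T : Subgroup X) := by
  obtain ⟨R'', hR''⟩ := (hQ.comap_subtype (H := Q) (K := P) : IsPGroup p (Q.subgroupOf P)).exists_le_sylow
  obtain ⟨k, hk⟩ := MulAction.exists_smul_eq P (T.subtype hT) R''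
  refine ⟨k, k.2, ?_⟩
  intro x hx
  have h1 : (⟨x, hQP hx⟩ : P) ∈ (R'' : Subgroup P) := hR'' hx
  rw [← hk] at h1
  obtain ⟨r, hr, e⟩ := h1
  rw [mem_cj]
  have e' : (k : X) * r * (k : X)⁻¹ = x := congrArg Subtype.val e
  have e2 : (k : X)⁻¹ * x * k = r := by rw [← e']; group
  rw [e2]; exact hr

end Cfsg.Agent.H263.FF.Frat
end

-- part: H263/FF/PMin
section
/-!
# FF-modules: the hypotheses `Hyp` for `p`-minimal groups
-/

set_option autoImplicit false
set_option linter.unusedSectionVars false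
set_option linter.unusedVariables false

namespace Cfsg.Agent.H263.FF.PMin

open Cfsg.Agent.H263.FF.Basic Cfsg.Agent.H263.FF.Setup
open scoped Pointwise

variable {p : ℕ} [hp : Fact p.Prime]
variable {X : Type*} [Group X] [Finite X] {V : Type*} [AddCommGroup V] [Finite V] [DistribMulAction X V]

/-- the unique maximal subgroup over `T` -/
noncomputable def mx (hX : Cfsg.IsPMinimal p X) (T : Sylow p X) : Subgroup X := (hX T).2.choose

variable (hX : Cfsg.IsPMinimal p X)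
include hX

theorem mx_coatom (T : Sylow p X) : IsCoatom (mx hX T) := (hX T).2.choose_spec.1.1

theorem le_mx (T : Sylow p X) : (T : Subgroup X) ≤ mx hX T := (hX T).2.choose_spec.1.2

theorem eq_mx {T : Sylow p X} {M : Subgroup X} (hM : IsCoatom M) (hT : (T : Subgroup X) ≤ M) : M = mx hX T :=
  (hX T).2.choose_spec.2 M ⟨hM, hT⟩

theorem mx_ne_top (T : Sylow p X) : mx hX T ≠ ⊤ := (mx_coatom hX T).1

theorem max_mx (T : Sylow p X) (H : Subgroup X) (hH : (T : Subgroup X) ≤ H) : H ≤ mx hX T ∨ H = ⊤ := by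
  rcases eq_top_or_exists_le_coatom H with h | ⟨M, h1, h2⟩
  · exact Or.inr h
  · left
    rw [← eq_mx hX h1 (hH.trans h2)]; exact h2

theorem coatom_cj {M : Subgroup X} (hM : IsCoatom M) (g : X) : IsCoatom (cj g M) := by
  constructor
  · intro e
    apply hM.1
    rw [← cj_inv_cj g M, e, cj_top]
  · intro K hK
    have h1 : M < cj g⁻¹ K := by
      rw [← cj_inv_cj g M]
      exact lt_of_le_of_ne (cj_mono _ hK.le) fun e => hK.ne (cj_inj e)
    have h2 := hM.2 _ h1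
    rw [← cj_cj_inv g K, h2, cj_top]

theorem mx_smul (g : X) (T : Sylow p X) : mx hX (g • T) = cj g (mx hX T) := by
  symm
  apply eq_mx hX (coatom_cj hX (mx_coatom hX T) g)
  rw [coe_smul]; exact cj_mono g (le_mx hX T)

theorem mx_eq_of_le (T T' : Sylow p X) (h : (T' : Subgroup X) ≤ mx hX T) : mx hX T' = mx hX T :=
  (eq_mx hX (mx_coatom hX T) h).symm

theorem mem_mx_of_cj (g : X) (T : Sylow p X) (hg : cj g (mx hX T) = mx hX T) : g ∈ mx hX T := by
  have h1 : ((g • T : Sylow p X) : Subgroup X) ≤ mx hX T := by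
    rw [coe_smul, ← hg]; exact cj_mono g (le_mx hX T)
  obtain ⟨m, hm, e⟩ := exists_conj_of_le T (g • T) (le_mx hX T) h1
  have h2 : cj (m⁻¹ * g) (T : Subgroup X) = T := by
    rw [← cj_cj, ← coe_smul, ← e, cj_inv_cj]
  have hne : Subgroup.normalizer ((T : Subgroup X) : Set X) ≠ ⊤ := fun e =>
    (hX T).1 (Subgroup.normalizer_eq_top_iff.1 e)
  have h3 : m⁻¹ * g ∈ mx hX T :=
    ((max_mx hX T _ Subgroup.le_normalizer).resolve_right hne) (cj_eq_iff_mem_normalizer.1 h2)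
  have := Subgroup.mul_mem _ hm h3
  rwa [mul_inv_cancel_left] at this

theorem exists_ne_mx : ∃ T T' : Sylow p X, mx hX T ≠ mx hX T' := by
  obtain ⟨T⟩ : Nonempty (Sylow p X) := inferInstance
  obtain ⟨g, hg⟩ : ∃ g, g ∉ mx hX T := by
    by_contra hcon
    push Not at hcon
    exact mx_ne_top hX T (by rw [eq_top_iff]; intro x _; exact hcon x)
  refine ⟨T, g • T, fun e => hg ?_⟩
  apply mem_mx_of_cj hX
  rw [← mx_smul hX, ← e]

/-- a vector moved by `X` and fixed by `T` -/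
theorem vec_mx (hvec : ∃ T : Sylow p X, ∃ v : V, v ∈ fx V (T : Subgroup X) ∧ v ∉ fx V (⊤ : Subgroup X)) (T : Sylow p X) :
    ∃ v ∈ fx V (T : Subgroup X), MulAction.stabilizer X v ≤ mx hX T := by
  obtain ⟨T₀, v, hv, hv'⟩ := hvec
  obtain ⟨g, hg⟩ := MulAction.exists_smul_eq X T₀ T
  refine ⟨g • v, ?_, ?_⟩
  · rw [← hg, coe_smul]; exact smul_mem_fx_cj hv
  · have h1 : (T : Subgroup X) ≤ MulAction.stabilizer X (g • v) := by
      rw [le_stab, ← hg, coe_smul]; exact smul_mem_fx_cj hv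
    refine (max_mx hX T _ h1).resolve_right fun e => hv' ?_
    intro x _
    have h2 : g * x * g⁻¹ ∈ MulAction.stabilizer X (g • v) := by rw [e]; trivial
    have h3 : (g * x * g⁻¹) • g • v = g • v := h2
    rw [smul_smul, inv_mul_cancel_right, mul_smul] at h3
    exact smul_left_cancel g h3

/-- **the hypotheses hold for the class of a minimal best offender** -/
theorem exists_hyp (h2 : ∀ v : V, p • v = 0) (hf : ∀ x : X, (∀ v : V, x • v = v) → x = 1)
    (hcore : ∀ N : Subgroup X, N.Normal → IsPGroup p N → N = ⊥)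
    (hvec : ∃ T : Sylow p X, ∃ v : V, v ∈ fx V (T : Subgroup X) ∧ v ∉ fx V (⊤ : Subgroup X))
    {A₀ : Subgroup X} (h0 : EA p A₀) (hne : A₀ ≠ ⊥) (hoff : Nat.card V ≤ mm V A₀) :
    ∃ 𝒟 : Set (Subgroup X), Hyp p V (mx hX) 𝒟 := by
  obtain ⟨A, hA, hA1, hmax, hmin⟩ := Quad.exists_min p A₀ h0 hne hoff
  have hoffA : Nat.card V ≤ mm V A := hoff.trans (hmax A₀ h0)
  have hq := Quad.quad h2 hA hA1 hoffA hmin
  refine ⟨{B | ∃ g : X, B = cj g A}, ?_⟩
  exact
    { h2 := h2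
      faith := hf
      le_pt := le_mx hX
      pt_smul := mx_smul hX
      pt_eq_of_le := mx_eq_of_le hX
      mem_pt_of_cj := mem_mx_of_cj hX
      exists_ne_pt := exists_ne_mx hX
      vec := vec_mx hX hvec
      conj := by
        rintro _ ⟨g, rfl⟩ k
        exact ⟨k * g, cj_cj k g A⟩
      tr := by
        rintro _ ⟨g, rfl⟩ _ ⟨k, rfl⟩
        exact ⟨k * g⁻¹, by rw [cj_cj, inv_mul_cancel_right]⟩
      ne := ⟨A, 1, (cj_one A).symm⟩
      ea := by
        rintro _ ⟨g, rfl⟩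
        exact hA.cj g
      nb := by
        rintro _ ⟨g, rfl⟩ e
        apply hA1
        rw [← cj_inv_cj g A, e, cj_bot]
      off := by
        rintro _ ⟨g, rfl⟩
        rw [mm_cj]; exact hoffA
      min := by
        rintro _ ⟨g, rfl⟩ F hF hF0
        have h3 : cj g⁻¹ F < A := by
          refine lt_of_le_of_ne ?_ ?_
          · have := cj_mono g⁻¹ hF.le
            rwa [cj_inv_cj] at this
          · intro e
            apply hF.ne
            rw [← e, cj_cj_inv]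
        have h4 := hmin _ h3 (by
          intro e
          apply hF0
          rw [← cj_cj_inv g F, e, cj_bot])
        rw [mm_cj] at h4
        rw [mm_cj]; exact h4
      quad := by
        rintro _ ⟨g, rfl⟩ a ha b hb v
        rw [mem_cj] at ha hb
        have h3 := hq _ ha _ hb (g⁻¹ • v)
        have h4 := congrArg (fun w => g • w) h3
        simp only [smul_sub, smul_smul] at h4
        have e1 : g * (g⁻¹ * b * g * (g⁻¹ * a * g * g⁻¹)) = b * a := by group
        have e2 : g * (g⁻¹ * b * g * g⁻¹) = b := by group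
        have e3 : g * (g⁻¹ * a * g * g⁻¹) = a := by group
        rw [e1, e2, e3, mul_inv_cancel, one_smul] at h4
        rw [smul_sub, smul_smul]; exact h4
      nrm := by
        intro T Q hQ hQT hn
        refine (max_mx hX T _ hn).resolve_right fun e => hQ ?_
        exact hcore Q (Subgroup.normalizer_eq_top_iff.1 e) (T.isPGroup'.to_le hQT)
      max := by
        rintro _ ⟨g, rfl⟩ E hE
        rw [mm_cj]; exact hmax E hE }

end Cfsg.Agent.H263.FF.PMin
end

-- part: H263/FF/Min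
section
/-!
# FF-modules: the subgroup `D`, the family `𝒜_N` and minimal pairs, any prime
-/

set_option autoImplicit false
set_option linter.unusedSectionVars false

namespace Cfsg.Agent.H263.FF.Conf

open Cfsg.Agent.H263.FF.Basic Cfsg.Agent.H263.FF.Setup Cfsg.Agent.H263.FF.Frat
open scoped Pointwise

variable {p : ℕ} [hp : Fact p.Prime]
variable {X : Type*} [Group X] [Finite X] {V : Type*} [AddCommGroup V] [Finite V] [DistribMulAction X V]

/-- `𝒜_N`: members of `𝒟` normalising `D`, not contained in `D` -/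
def AN (𝒟 : Set (Subgroup X)) (D : Subgroup X) : Set (Subgroup X) :=
  {B | B ∈ 𝒟 ∧ B ≤ Subgroup.normalizer (D : Set X) ∧ ¬ B ≤ D}

/-- the subgroup `D` of step (1) -/
structure Cfg (p : ℕ) [Fact p.Prime] (pt : Sylow p X → Subgroup X) (𝒟 : Set (Subgroup X)) (D : Subgroup X) :
    Prop where
  pg : IsPGroup p D
  gen : J 𝒟 D = D
  uniq : ∀ B ∈ AN 𝒟 D, ∀ T T' : Sylow p X, D ⊔ B ≤ T → D ⊔ B ≤ T' → pt T = pt T'
  two : ∃ B ∈ AN 𝒟 D, ∃ C ∈ AN 𝒟 D, ∃ T T' : Sylow p X, D ⊔ B ≤ T ∧ D ⊔ C ≤ T' ∧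
    pt T ≠ pt T'

/-- the point of `B ∈ 𝒜_N` -/
noncomputable def pp (pt : Sylow p X → Subgroup X) (D B : Subgroup X) : Subgroup X := by
  classical
  exact if h : ∃ T : Sylow p X, D ⊔ B ≤ T then pt h.choose else ⊥

theorem isPGroup_sup {D B : Subgroup X} (hD : IsPGroup p D) (hB : IsPGroup p B)
    (hn : B ≤ Subgroup.normalizer (D : Set X)) : IsPGroup p (D ⊔ B : Subgroup X) :=
  hD.to_sup_of_normal_left' hB hn

section exist

variable {pt : Sylow p X → Subgroup X} {𝒟 : Set (Subgroup X)}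

theorem mem_AN_cj (h : Hyp0 p V pt 𝒟) {D B : Subgroup X} (hB : B ∈ AN 𝒟 D) {n : X} (hn : n ∈ Subgroup.normalizer (D : Set X)) :
    cj n B ∈ AN 𝒟 D := by
  refine ⟨h.conj B hB.1 n, ?_, ?_⟩
  · rw [← cj_eq_self_of_mem hn]; exact cj_mono n hB.2.1
  · intro e
    apply hB.2.2
    rw [← cj_le_cj (g := n), (cj_eq_iff_mem_normalizer.2 hn : cj n D = D)]; exact e

/-- (1) -/
theorem exists_cfg (h : Hyp p V pt 𝒟) : ∃ D : Subgroup X, Cfg p pt 𝒟 D := by
  classical
  let S : Set (Sylow p X × Sylow p X) := {x | pt x.1 ≠ pt x.2}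
  have hS : S.Finite := Set.toFinite _
  obtain ⟨T₀, T₀', h0⟩ := h.exists_ne_pt
  obtain ⟨⟨T, T'⟩, hT, hmax⟩ := Set.exists_max_image S
    (fun x => Nat.card (J 𝒟 ((x.1 : Subgroup X) ⊓ (x.2 : Subgroup X)))) hS ⟨(T₀, T₀'), h0⟩
  have hTT : pt T ≠ pt T' := hT
  set D := J 𝒟 ((T : Subgroup X) ⊓ (T' : Subgroup X)) with hD
  have hDT : D ≤ T := J_le.trans inf_le_left
  have hDT' : D ≤ T' := J_le.trans inf_le_right
  have hmax' : ∀ U U' : Sylow p X, pt U ≠ pt U' →
      Nat.card (J 𝒟 ((U : Subgroup X) ⊓ (U' : Subgroup X))) ≤ Nat.card D := fun U U' hU => hmax (U, U') hU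
  have hJD : J 𝒟 D = D := J_J
  have hDp : IsPGroup p D := T.isPGroup'.to_le hDT
  -- all Sylow subgroups have conjugate `J`
  have hcard : ∀ U U' : Sylow p X, Nat.card (J 𝒟 (U : Subgroup X)) = Nat.card (J 𝒟 (U' : Subgroup X)) := by
    intro U U'
    obtain ⟨g, hg⟩ := MulAction.exists_smul_eq X U U'
    rw [← hg, coe_smul, h.J_cj, card_cj]
  -- `D < J_U`
  have hlt : ∀ U U' : Sylow p X, D ≤ U → D ≤ U' → pt U ≠ pt U' →
      J 𝒟 (U : Subgroup X) ≠ D := by
    intro U U' hU hU' hne e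
    have e' : J 𝒟 (U' : Subgroup X) = D := by
      symm
      apply Subgroup.eq_of_le_of_card_ge
      · rw [← hJD]; exact J_mono hU'
      · rw [← hcard U U', e]
    have hDne : D ≠ ⊥ := by
      obtain ⟨A, hA, hAU⟩ := h.exists_le U
      intro e3
      have := le_J hA hAU
      rw [e, e3, le_bot_iff] at this
      exact h.nb A hA this
    have hn : ∀ W : Sylow p X, J 𝒟 (W : Subgroup X) = D → (W : Subgroup X) ≤ Subgroup.normalizer (D : Set X) := by
      intro W hW w hw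
      rw [← cj_eq_iff_mem_normalizer, ← hW, ← h.J_cj, cj_eq_self_of_mem hw]
    have h1 := h.nrm U D hDne hU (hn U e)
    exact hne (h.pt_eq_of_le _ _ ((hn U' e').trans h1)).symm
  -- there is a member of `𝒜_N` in `U`
  have hex : ∀ U : Sylow p X, D ≤ U → J 𝒟 (U : Subgroup X) ≠ D → ∃ B ∈ AN 𝒟 D, B ≤ U := by
    intro U hU hne
    by_contra hcon
    push Not at hcon
    apply hne
    set R := (U : Subgroup X) ⊓ Subgroup.normalizer (D : Set X) with hR
    have hDR : D ≤ R := le_inf hU Subgroup.le_normalizer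
    have h1 : J 𝒟 R = D := by
      apply le_antisymm
      · apply sSup_le
        rintro B ⟨hB, hBR⟩
        by_contra hBD
        exact hcon B ⟨hB, hBR.trans inf_le_right, hBD⟩ (hBR.trans inf_le_left)
      · rw [← hJD]; exact J_mono hDR
    have h2 : (U : Subgroup X) ⊓ Subgroup.normalizer (R : Set X) ≤ R := by
      intro u hu
      refine Subgroup.mem_inf.2 ⟨hu.1, ?_⟩
      rw [← cj_eq_iff_mem_normalizer, ← h1, ← h.J_cj, cj_eq_iff_mem_normalizer.2 hu.2]
    have h3 : R = U := by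
      by_contra hRU
      have hnil : Group.IsNilpotent U := U.isPGroup'.isNilpotent
      have hRlt : R.subgroupOf U < ⊤ := by
        rw [lt_top_iff_ne_top]
        intro e
        rw [Subgroup.subgroupOf_eq_top] at e
        exact hRU (le_antisymm inf_le_left e)
      have h4 := Group.normalizerCondition_of_isNilpotent (G := U) _ hRlt
      obtain ⟨_, h5⟩ := SetLike.lt_iff_le_and_exists.1 h4
      obtain ⟨u, hu, hu'⟩ := h5
      apply hu'
      rw [Subgroup.mem_subgroupOf]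
      apply h2
      refine Subgroup.mem_inf.2 ⟨u.2, ?_⟩
      rw [← cj_eq_iff_mem_normalizer]
      ext x
      rw [mem_cj]
      rw [Subgroup.mem_normalizer_iff] at hu
      constructor
      · intro hx
        have hxU : (u : X)⁻¹ * x * u ∈ (U : Subgroup X) := hx.1
        have h6 := (hu ⟨_, hxU⟩).1 (Subgroup.mem_subgroupOf.2 hx)
        have h7 : (u : X) * ((u : X)⁻¹ * x * u) * (u : X)⁻¹ ∈ R := h6
        convert h7 using 1; group
      · intro hx
        have hxU : (u : X)⁻¹ * x * u ∈ (U : Subgroup X) :=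
          Subgroup.mul_mem _ (Subgroup.mul_mem _ (Subgroup.inv_mem _ u.2) hx.1) u.2
        have h6 : (u * (⟨_, hxU⟩ : U) * u⁻¹ : U) ∈ R.subgroupOf U := by
          rw [Subgroup.mem_subgroupOf]
          have : ((u * (⟨_, hxU⟩ : U) * u⁻¹ : U) : X) = x := by
            change (u : X) * ((u : X)⁻¹ * x * u) * (u : X)⁻¹ = x; group
          rw [this]; exact hx
        exact (hu ⟨_, hxU⟩).2 h6
    rw [← h3]; exact h1
  refine ⟨D, hDp, hJD, ?_, ?_⟩
  · intro B hB U U' hU hU'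
    by_contra hne
    have h1 : D ⊔ B ≤ J 𝒟 ((U : Subgroup X) ⊓ (U' : Subgroup X)) := by
      apply sup_le
      · rw [← hJD]; exact J_mono (le_sup_left.trans (le_inf hU hU'))
      · exact le_J hB.1 (le_sup_right.trans (le_inf hU hU'))
    have h2 := hmax' U U' hne
    have h3 : D ⊔ B = D := by
      symm
      apply Subgroup.eq_of_le_of_card_ge le_sup_left
      exact (Nat.card_le_card_of_injective _ (Subgroup.inclusion_injective h1)).trans h2
    exact hB.2.2 (le_sup_right.trans h3.le)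
  · obtain ⟨B, hB, hBT⟩ := hex T hDT (hlt T T' hDT hDT' hTT)
    obtain ⟨C, hC, hCT⟩ := hex T' hDT' (hlt T' T hDT' hDT (Ne.symm hTT))
    exact ⟨B, hB, C, hC, T, T', sup_le hDT hBT, sup_le hDT' hCT, hTT⟩

end exist

end Cfsg.Agent.H263.FF.Conf

namespace Cfsg.Agent.H263.FF.Min

open Cfsg.Agent.H263.FF.Basic Cfsg.Agent.H263.FF.Setup Cfsg.Agent.H263.FF.Frat Cfsg.Agent.H263.FF.Conf
open scoped Pointwise

variable {p : ℕ} [hp : Fact p.Prime]
variable {X : Type*} [Group X] [Finite X] {V : Type*} [AddCommGroup V] [Finite V] [DistribMulAction X V]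

/-- minimal pair `(B, C)` -/
structure Mn (p : ℕ) [Fact p.Prime] (pt : Sylow p X → Subgroup X) (𝒟 : Set (Subgroup X)) (D B C : Subgroup X) :
    Prop where
  hB : B ∈ AN 𝒟 D
  hC : C ∈ AN 𝒟 D
  ne : pp pt D C ≠ pp pt D B
  min : ∀ C' ∈ AN 𝒟 D, pp pt D C' ≠ pp pt D B → C' ≤ D ⊔ B ⊔ C → C ≤ D ⊔ B ⊔ C'

variable {pt : Sylow p X → Subgroup X} {𝒟 : Set (Subgroup X)} {D B C : Subgroup X} (h : Hyp0 p V pt 𝒟)
  (c : Cfg p pt 𝒟 D)
include h c

theorem exists_syl (hB : B ∈ AN 𝒟 D) : ∃ T : Sylow p X, D ⊔ B ≤ T :=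
  exists_sylow (isPGroup_sup c.pg (h.ea B hB.1).isPGroup hB.2.1)

theorem pp_eq (hB : B ∈ AN 𝒟 D) {T : Sylow p X} (hT : D ⊔ B ≤ T) : pp pt D B = pt T := by
  have hex : ∃ T : Sylow p X, D ⊔ B ≤ T := ⟨T, hT⟩
  have h1 : pp pt D B = pt hex.choose := by
    rw [pp]; exact dif_pos hex
  rw [h1]
  exact c.uniq B hB _ _ hex.choose_spec hT

theorem le_pp (hB : B ∈ AN 𝒟 D) : D ⊔ B ≤ pp pt D B := by
  obtain ⟨T, hT⟩ := exists_syl h c hB
  rw [pp_eq h c hB hT]
  exact hT.trans (h.le_pt T)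

theorem pp_cj (hB : B ∈ AN 𝒟 D) {n : X} (hn : n ∈ Subgroup.normalizer (D : Set X)) :
    pp pt D (cj n B) = cj n (pp pt D B) := by
  obtain ⟨T, hT⟩ := exists_syl h c hB
  have h1 : D ⊔ cj n B ≤ ((n • T : Sylow p X) : Subgroup X) := by
    rw [coe_smul, ← (cj_eq_iff_mem_normalizer.2 hn : cj n D = D), ← cj_sup]
    exact cj_mono n hT
  rw [pp_eq h c (mem_AN_cj h hB hn) h1, h.pt_smul, pp_eq h c hB hT]

theorem mem_pp_of_cj (hB : B ∈ AN 𝒟 D) {g : X} (hg : cj g (pp pt D B) = pp pt D B) : g ∈ pp pt D B := by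
  obtain ⟨T, hT⟩ := exists_syl h c hB
  rw [pp_eq h c hB hT] at hg ⊢
  exact h.mem_pt_of_cj _ _ hg

theorem pt_eq_pp (hB : B ∈ AN 𝒟 D) {T' : Sylow p X} (hT' : D ⊔ B ≤ pt T') :
    pt T' = pp pt D B := by
  obtain ⟨m, hm, hle⟩ := exists_conj_ge T' (h.le_pt T') (isPGroup_sup c.pg (h.ea B hB.1).isPGroup hB.2.1) hT'
  have h1 : D ⊔ B ≤ ((m • T' : Sylow p X) : Subgroup X) := by rw [coe_smul]; exact hle
  rw [pp_eq h c hB h1, h.pt_smul, cj_eq_self_of_mem hm]

/-- `DB` lies in only one point -/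
theorem pp_eq_of_le {C : Subgroup X} (hB : B ∈ AN 𝒟 D) (hC : C ∈ AN 𝒟 D) (hle : D ⊔ B ≤ pp pt D C) : pp pt D C = pp pt D B := by
  obtain ⟨T, hT⟩ := exists_syl h c hC
  rw [pp_eq h c hC hT] at hle ⊢
  exact pt_eq_pp h c hB hle

theorem pp_eq_of_le_cj (hB : B ∈ AN 𝒟 D) {g : X} (hle : D ⊔ B ≤ cj g (pp pt D B)) : g ∈ pp pt D B := by
  obtain ⟨T, hT⟩ := exists_syl h c hB
  rw [pp_eq h c hB hT, ← h.pt_smul] at hle
  have h1 := pt_eq_pp h c hB hle
  rw [h.pt_smul, ← pp_eq h c hB hT] at h1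
  exact mem_pp_of_cj h c hB h1

theorem exists_two : ∃ B ∈ AN 𝒟 D, ∃ C ∈ AN 𝒟 D, pp pt D C ≠ pp pt D B := by
  obtain ⟨B, hB, C, hC, T, T', hT, hT', hne⟩ := c.two
  refine ⟨B, hB, C, hC, ?_⟩
  rw [pp_eq h c hB hT, pp_eq h c hC hT']
  exact Ne.symm hne

theorem exists_partner (B : Subgroup X) : ∃ C ∈ AN 𝒟 D, pp pt D C ≠ pp pt D B := by
  obtain ⟨B₁, hB₁, C₁, hC₁, hne⟩ := exists_two h c
  by_cases e : pp pt D B₁ = pp pt D B
  · exact ⟨C₁, hC₁, by rw [← e]; exact hne⟩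
  · exact ⟨B₁, hB₁, e⟩

omit h c in
/-- existence of minimal pairs below a given pair -/
theorem exists_mn {B C : Subgroup X} (hB : B ∈ AN 𝒟 D) (hC : C ∈ AN 𝒟 D) (hne : pp pt D C ≠ pp pt D B) :
    ∃ F, Mn p pt 𝒟 D B F ∧ F ≤ D ⊔ B ⊔ C := by
  classical
  let S : Set (Subgroup X) := {F | F ∈ AN 𝒟 D ∧ pp pt D F ≠ pp pt D B ∧ F ≤ D ⊔ B ⊔ C}
  have hS : S.Finite := Set.toFinite _
  obtain ⟨F, ⟨hF, hFB, hFC⟩, hmin⟩ := Set.exists_min_image S (fun F => Nat.card (D ⊔ B ⊔ F : Subgroup X)) hS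
    ⟨C, hC, hne, le_sup_right⟩
  refine ⟨F, ⟨hB, hF, hFB, ?_⟩, hFC⟩
  intro C' hC' hne' hle
  have h1 : D ⊔ B ⊔ C' ≤ D ⊔ B ⊔ F := sup_le le_sup_left hle
  have h2 : D ⊔ B ⊔ F ≤ D ⊔ B ⊔ C := sup_le le_sup_left hFC
  have h3 := hmin C' ⟨hC', hne', le_sup_right.trans (h1.trans h2)⟩
  have h4 : D ⊔ B ⊔ C' = D ⊔ B ⊔ F := Subgroup.eq_of_le_of_card_ge h1 h3
  rw [h4]; exact le_sup_right

variable (m : Mn p pt 𝒟 D B C)
include m

omit h c in
theorem Y_le : D ⊔ B ⊔ C ≤ Subgroup.normalizer (D : Set X) :=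
  sup_le (sup_le Subgroup.le_normalizer m.hB.2.1) m.hC.2.1

/-- proper subgroups over `DB` lie in the point of `B` -/
theorem le_P {H : Subgroup X} (hH : H ≤ D ⊔ B ⊔ C) (hDB : D ⊔ B ≤ H) (hC : ¬ C ≤ H) : H ≤ pp pt D B := by
  intro x hx
  apply mem_pp_of_cj h c m.hB
  by_contra hne
  have hxn : x ∈ Subgroup.normalizer (D : Set X) := Y_le m (hH hx)
  have h1 : cj x B ∈ AN 𝒟 D := mem_AN_cj h m.hB hxn
  have hxB : cj x B ≤ H := by
    rw [← cj_eq_self_of_mem hx]; exact cj_mono x (le_sup_right.trans hDB)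
  rw [← pp_cj h c m.hB hxn] at hne
  apply hC
  refine (m.min _ h1 hne (hxB.trans hH)).trans ?_
  exact sup_le hDB hxB

theorem C_not_le : ¬ C ≤ pp pt D B := by
  intro e
  apply m.ne
  have : D ⊔ C ≤ pp pt D B := sup_le (le_sup_left.trans (le_pp h c m.hB)) e
  exact (pp_eq_of_le h c m.hC m.hB this).symm

theorem C_le {x : X} (hx : x ∈ D ⊔ B ⊔ C) (hxP : x ∉ pp pt D B) : C ≤ D ⊔ B ⊔ cj x B := by
  have hxn : x ∈ Subgroup.normalizer (D : Set X) := Y_le m hx
  apply m.min _ (mem_AN_cj h m.hB hxn)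
  · rw [pp_cj h c m.hB hxn]
    intro e; exact hxP (mem_pp_of_cj h c m.hB e)
  · rw [← cj_eq_self_of_mem hx]; exact cj_mono x (le_sup_right.trans le_sup_left)

theorem Y_eq {x : X} (hx : x ∈ D ⊔ B ⊔ C) (hxP : x ∉ pp pt D B) : D ⊔ B ⊔ cj x B = D ⊔ B ⊔ C := by
  apply le_antisymm
  · apply sup_le le_sup_left
    rw [← cj_eq_self_of_mem hx]; exact cj_mono x (le_sup_right.trans le_sup_left)
  · exact sup_le le_sup_left (C_le h c m hx hxP)

theorem le_P' {H : Subgroup X} {x : X} (hx : x ∈ D ⊔ B ⊔ C) (hH : H ≤ D ⊔ B ⊔ C) (hDB : D ⊔ cj x B ≤ H)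
    (hC : ¬ D ⊔ B ⊔ C ≤ H) : H ≤ cj x (pp pt D B) := by
  have hxn : x ∈ Subgroup.normalizer (D : Set X) := Y_le m hx
  have h1 : cj x⁻¹ H ≤ pp pt D B := by
    apply le_P h c m
    · rw [← cj_eq_self_of_mem (Subgroup.inv_mem _ hx)]; exact cj_mono _ hH
    · have := cj_mono x⁻¹ hDB
      rw [cj_sup, cj_inv_cj, (cj_eq_iff_mem_normalizer.2 (Subgroup.inv_mem _ hxn) : cj x⁻¹ D = D)] at this
      exact this
    · intro hcon
      apply hC
      have h2 : D ⊔ B ⊔ C ≤ cj x⁻¹ H := by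
        apply sup_le _ hcon
        have := cj_mono x⁻¹ hDB
        rw [cj_sup, cj_inv_cj, (cj_eq_iff_mem_normalizer.2 (Subgroup.inv_mem _ hxn) : cj x⁻¹ D = D)] at this
        exact this
      have := cj_mono x h2
      rwa [cj_cj_inv, cj_eq_self_of_mem hx] at this
  have := cj_mono x h1
  rwa [cj_cj_inv] at this

/-- `O = O₂(Y)` (what we need of it) -/
theorem exists_O : ∃ O : Subgroup X, O ≤ D ⊔ B ⊔ C ∧ IsPGroup p O ∧ D ⊔ B ⊔ C ≤ Subgroup.normalizer (O : Set X) ∧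
    D ≤ O ∧ O ≤ pp pt D B ∧
    (∀ a ∈ B, a ∉ O → ∃ x ∈ D ⊔ B ⊔ C, x ∉ pp pt D B ∧ a ∉ cj x (pp pt D B)) := by
  classical
  set Y := D ⊔ B ⊔ C with hY
  set P := pp pt D B with hP
  let K : Subgroup X :=
    { carrier := {a | a ∈ Y ∧ ∀ x ∈ Y, a ∈ cj x P}
      one_mem' := ⟨Y.one_mem, fun x _ => (cj x P).one_mem⟩
      mul_mem' := fun ha hb => ⟨Y.mul_mem ha.1 hb.1, fun x hx => (cj x P).mul_mem (ha.2 x hx) (hb.2 x hx)⟩
      inv_mem' := fun ha => ⟨Y.inv_mem ha.1, fun x hx => (cj x P).inv_mem (ha.2 x hx)⟩ }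
  have hKY : K ≤ Y := fun a ha => ha.1
  have hKP : K ≤ P := fun a ha => by
    have := ha.2 1 Y.one_mem
    rwa [cj_one] at this
  have hYK : Y ≤ Subgroup.normalizer (K : Set X) := by
    intro y hy
    rw [← cj_eq_iff_mem_normalizer]
    apply cj_eq_of_le
    rw [cj_le_iff]
    intro a ha
    refine ⟨Y.mul_mem (Y.mul_mem hy ha.1) (Y.inv_mem hy), fun x hx => ?_⟩
    have h1 := ha.2 (y⁻¹ * x) (Y.mul_mem (Y.inv_mem hy) hx)
    rw [mem_cj] at h1 ⊢
    convert h1 using 1; group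
  have hDY : D ≤ Y := le_sup_left.trans le_sup_left
  have hBY : B ≤ Y := le_sup_right.trans le_sup_left
  have hDBY : D ⊔ B ≤ Y := le_sup_left
  have hDBP : D ⊔ B ≤ P := le_pp h c m.hB
  obtain ⟨R, hRK, hR2, hER, hfr, hsy⟩ := frat hYK hDBY (isPGroup_sup c.pg (h.ea B m.hB.1).isPGroup m.hB.2.1)
  have hYR : Y ≤ Subgroup.normalizer (R : Set X) := by
    by_contra hcon
    have hC : ¬ C ≤ Y ⊓ Subgroup.normalizer (R : Set X) := by
      intro e
      exact hcon (sup_le hER (e.trans inf_le_right))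
    have h1 : Y ⊓ Subgroup.normalizer (R : Set X) ≤ P :=
      le_P h c m inf_le_left (le_inf hDBY hER) hC
    apply C_not_le h c m
    refine le_trans (le_sup_right : C ≤ Y) ?_
    intro y hy
    obtain ⟨k, hk, hky⟩ := hfr y hy
    have h2 : k⁻¹ * y ∈ P := h1 (Subgroup.mem_inf.2 ⟨Y.mul_mem (Y.inv_mem (hKY hk)) hy, hky⟩)
    have := P.mul_mem (hKP hk) h2
    convert this using 1; group
  have hsy' : ∀ Q ≤ K, IsPGroup p Q → Q ≤ R := by
    intro Q hQ hQ2
    obtain ⟨k, hk, hle⟩ := hsy Q hQ hQ2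
    rwa [cj_eq_iff_mem_normalizer.2 (hYR (hKY hk))] at hle
  refine ⟨R, hRK.trans hKY, hR2, hYR, ?_, hRK.trans hKP, ?_⟩
  · apply hsy' D _ c.pg
    intro d hd
    refine ⟨hDY hd, fun x hx => ?_⟩
    have hxn : x ∈ Subgroup.normalizer (D : Set X) := Y_le m hx
    have h1 : D ≤ cj x P := by
      rw [← (cj_eq_iff_mem_normalizer.2 hxn : cj x D = D)]
      exact cj_mono x (le_sup_left.trans hDBP)
    exact h1 hd
  · intro a ha haR
    by_contra hcon
    push Not at hcon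
    apply haR
    have haK : a ∈ K := by
      refine ⟨hBY ha, fun x hx => ?_⟩
      by_cases hxP : x ∈ P
      · rw [cj_eq_self_of_mem hxP]; exact hDBP ((le_sup_right : B ≤ D ⊔ B) ha)
      · exact hcon x hx hxP
    have h1 : Subgroup.zpowers a ≤ K := Subgroup.zpowers_le.2 haK
    have h2 : IsPGroup p (Subgroup.zpowers a) := by
      apply (h.ea B m.hB.1).isPGroup.to_le
      exact Subgroup.zpowers_le.2 ha
    exact hsy' _ h1 h2 (Subgroup.mem_zpowers a)

end Cfsg.Agent.H263.FF.Min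
end

-- part: H263/FF/Chief
section
/-!
# FF-modules: the chief factor of a minimal pair, any prime
-/

set_option autoImplicit false
set_option linter.unusedSectionVars false

namespace Cfsg.Agent.H263.FF.Chief

open Cfsg.Agent.H263.FF.Basic Cfsg.Agent.H263.FF.Setup Cfsg.Agent.H263.FF.Frat Cfsg.Agent.H263.FF.Conf
open Cfsg.Agent.H263.FF.Min
open scoped Pointwise

variable {p : ℕ} [hp : Fact p.Prime]
variable {X : Type*} [Group X] [Finite X] {V : Type*} [AddCommGroup V] [Finite V] [DistribMulAction X V]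

/-- invariant under `Y` -/
def Iv (Y : Subgroup X) (H : AddSubgroup V) : Prop := ∀ y ∈ Y, ∀ v ∈ H, y • v ∈ H

/-- `{y ∈ Y | y v - v ∈ K}` -/
def sb (Y : Subgroup X) (K : AddSubgroup V) (hK : Iv Y K) (v : V) : Subgroup X where
  carrier := {y | y ∈ Y ∧ y • v - v ∈ K}
  one_mem' := ⟨Y.one_mem, by rw [one_smul, sub_self]; exact K.zero_mem⟩
  mul_mem' := fun {y z} hy hz => ⟨Y.mul_mem hy.1 hz.1, by
    have h1 := K.add_mem (hK y hy.1 _ hz.2) hy.2
    have e : (y * z) • v - v = y • (z • v - v) + (y • v - v) := by rw [mul_smul, smul_sub]; abel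
    rw [e]; exact h1⟩
  inv_mem' := fun {y} hy => ⟨Y.inv_mem hy.1, by
    have h1 := K.neg_mem (hK _ (Y.inv_mem hy.1) _ hy.2)
    have e : y⁻¹ • v - v = -(y⁻¹ • (y • v - v)) := by rw [smul_sub, inv_smul_smul]; abel
    rw [e]; exact h1⟩

/-- if the `p'`-elements and a Sylow `p`-subgroup of `Y` lie in `P` then `Y ≤ P` -/
theorem le_of_p' {Y P : Subgroup X} (hodd : ∀ y ∈ Y, ¬ p ∣ orderOf y → y ∈ P) (T : Sylow p Y)
    (hT : ∀ t ∈ (T : Subgroup Y), (t : X) ∈ P) : Y ≤ P := by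
  classical
  let K : Subgroup Y := Subgroup.closure {y | ¬ p ∣ orderOf y}
  have hKn : K.Normal := by
    constructor
    intro k hk g
    have : K ≤ K.comap (MulAut.conj g).toMonoidHom := by
      rw [Subgroup.closure_le]
      intro y hy
      apply Subgroup.subset_closure
      change ¬ p ∣ orderOf ((MulAut.conj g) y)
      rw [MulEquiv.orderOf_eq]; exact hy
    exact this hk
  have hQ : IsPGroup p (Y ⧸ K) := by
    intro q
    induction q using QuotientGroup.induction_on with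
    | H y =>
      obtain ⟨k, m, hm, e⟩ := Nat.exists_eq_pow_mul_and_not_dvd (orderOf_pos y).ne' p hp.out.ne_one
      have hpk : 0 < p ^ k := pow_pos hp.out.pos k
      refine ⟨k, ?_⟩
      rw [← QuotientGroup.mk_pow, QuotientGroup.eq_one_iff]
      apply Subgroup.subset_closure
      change ¬ p ∣ orderOf (y ^ p ^ k)
      rw [orderOf_pow_of_dvd hpk.ne' (by rw [e]; exact dvd_mul_right _ _), e,
        Nat.mul_div_cancel_left _ hpk]
      exact hm
  obtain ⟨j, hj⟩ := IsPGroup.iff_card.1 hQ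
  have hKi : K.index = p ^ j := hj
  let N : Subgroup Y := P.subgroupOf Y
  have hKN : K ≤ N := by
    rw [Subgroup.closure_le]
    intro y hy
    have : ¬ p ∣ orderOf (y : X) := by rw [Subgroup.orderOf_coe]; exact hy
    exact hodd y y.2 this
  have hTN : (T : Subgroup Y) ≤ N := fun t ht => hT t ht
  have h1 : N.index ∣ p ^ j := by rw [← hKi]; exact Subgroup.index_dvd_of_le hKN
  have h2 : N.index ∣ (T : Subgroup Y).index := Subgroup.index_dvd_of_le hTN
  have h3 : ¬ p ∣ (T : Subgroup Y).index := T.not_dvd_index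
  obtain ⟨i, _, hi⟩ := (Nat.dvd_prime_pow hp.out).1 h1
  have h4 : i = 0 := by
    by_contra hne
    apply h3
    refine dvd_trans ?_ h2
    rw [hi]; exact dvd_pow_self p hne
  rw [h4, pow_zero] at hi
  have h5 : N = ⊤ := Subgroup.index_eq_one.1 hi
  exact Subgroup.subgroupOf_eq_top.1 h5

omit hp [Finite X] [Finite V] in
theorem eq_zero_of_coprime [hp : Fact p.Prime] {w : V} (h2 : p • w = 0) {n : ℕ} (hn : ¬ p ∣ n) (hw : n • w = 0) : w = 0 := by
  have h1 : addOrderOf w ∣ p := addOrderOf_dvd_of_nsmul_eq_zero h2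
  have h3 : addOrderOf w ∣ n := addOrderOf_dvd_of_nsmul_eq_zero hw
  rcases (Nat.dvd_prime hp.out).1 h1 with h | h
  · exact AddMonoid.addOrderOf_eq_one_iff.1 h
  · exact absurd (h ▸ h3) hn

variable (V) in
/-- the outcome of steps (3), (4) for a minimal pair -/
structure Out (D B C : Subgroup X) (V₁ V₂ AB : AddSubgroup V) : Prop where
  mmB : mm V B = Nat.card V
  le12 : V₂ ≤ V₁
  le1 : V₁ ≤ fx V D
  inv1 : Iv (D ⊔ B ⊔ C) V₁
  inv2 : Iv (D ⊔ B ⊔ C) V₂
  fix : ∀ v ∈ V₁, (∀ y ∈ D ⊔ B ⊔ C, y • v = v) → v ∈ V₂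
  sup : V₁ ⊔ fx V B = ⊤
  inf : V₁ ⊓ fx V B = AB
  c1 : Nat.card AB = Nat.card B * Nat.card V₂
  c2 : Nat.card V₁ * Nat.card V₂ = Nat.card AB * Nat.card AB
  ti : ∀ a ∈ B, a ≠ 1 → ∀ v ∈ V₁, a • v - v ∈ V₂ → v ∈ fx V B

variable {pt : Sylow p X → Subgroup X} {𝒟 : Set (Subgroup X)} {D B C : Subgroup X} (h : Hyp0 p V pt 𝒟)
  (c : Cfg p pt 𝒟 D) (m : Mn p pt 𝒟 D B C)
include h c m

theorem out : ∃ V₁ V₂ AB : AddSubgroup V, Out V D B C V₁ V₂ AB := by
  classical
  obtain ⟨O, hOY, hO2, hYO, hDO, hOP, hOx⟩ := exists_O h c m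
  set Y := D ⊔ B ⊔ C with hY
  set P := pp pt D B with hP
  have hDY : D ≤ Y := le_sup_left.trans le_sup_left
  have hBY : B ≤ Y := le_sup_right.trans le_sup_left
  have hCY : C ≤ Y := le_sup_right
  have hDBY : D ⊔ B ≤ Y := le_sup_left
  have hDBP : D ⊔ B ≤ P := le_pp h c m.hB
  have hB2 : IsPGroup p B := (h.ea B m.hB.1).isPGroup
  -- `V₀`, `V₂`
  have hV0 : Iv Y (fx V O) := by
    intro y hy v hv o ho
    have h1 : y⁻¹ * o * y ∈ O := by
      have := (cj_eq_iff_mem_normalizer.2 (hYO hy) : cj y O = O)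
      rw [← this, mem_cj] at ho; exact ho
    have h3 : o • y • v = y • (y⁻¹ * o * y) • v := by rw [smul_smul, smul_smul]; congr 1; group
    rw [h3, hv _ h1]
  let V₂ : AddSubgroup V :=
    { carrier := {v | v ∈ fx V O ∧ ∀ y ∈ Y, ¬ p ∣ orderOf y → y • v = v}
      zero_mem' := ⟨(fx V O).zero_mem, fun y _ _ => smul_zero y⟩
      add_mem' := fun hv hw => ⟨(fx V O).add_mem hv.1 hw.1, fun y hy ho => by
        rw [smul_add, hv.2 y hy ho, hw.2 y hy ho]⟩
      neg_mem' := fun hv => ⟨(fx V O).neg_mem hv.1, fun y hy ho => by rw [smul_neg, hv.2 y hy ho]⟩ }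
  have hV2 : Iv Y V₂ := by
    intro y hy v hv
    refine ⟨hV0 y hy v hv.1, fun z hz ho => ?_⟩
    have h1 : (y⁻¹ * z * y) • v = v := by
      apply hv.2 _ (Y.mul_mem (Y.mul_mem (Y.inv_mem hy) hz) hy)
      have e : y⁻¹ * z * y = (MulAut.conj y⁻¹) z := by simp
      rw [e, MulEquiv.orderOf_eq]; exact ho
    have h3 : z • y • v = y • (y⁻¹ * z * y) • v := by rw [smul_smul, smul_smul]; congr 1; group
    rw [h3, h1]
  have hV20 : V₂ ≤ fx V O := fun v hv => hv.1
  -- (4a)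
  have h4a : ¬ fx V O ≤ V₂ := by
    intro hle
    have hBO : B ≤ Subgroup.normalizer (O : Set X) := hBY.trans hYO
    obtain ⟨T, hT⟩ := exists_sylow (isPGroup_sup hO2 hB2 hBO)
    have hDBT : D ⊔ B ≤ T := sup_le (hDO.trans (le_sup_left.trans hT)) (le_sup_right.trans hT)
    obtain ⟨v, hv, hst⟩ := h.vec T
    rw [← pp_eq h c m.hB hDBT] at hst
    have hvO : v ∈ V₂ := hle (fx_anti (le_sup_left.trans hT) hv)
    have hodd : ∀ y ∈ Y, ¬ p ∣ orderOf y → y ∈ P := fun y hy ho => hst (hvO.2 y hy ho)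
    -- a Sylow subgroup of `Y` over `DB`
    obtain ⟨TY, hTY⟩ := ((isPGroup_sup c.pg hB2 m.hB.2.1).comap_subtype (K := Y) :
      IsPGroup p ((D ⊔ B).subgroupOf Y)).exists_le_sylow
    have hTP : ∀ t ∈ (TY : Subgroup Y), (t : X) ∈ P := by
      let H : Subgroup X := (TY : Subgroup Y).map Y.subtype
      have hHY : H ≤ Y := by rintro x ⟨k, _, rfl⟩; exact k.2
      have hDBH : D ⊔ B ≤ H := by
        intro x hx
        exact ⟨⟨x, hDBY hx⟩, hTY hx, rfl⟩
      have hCH : ¬ C ≤ H := by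
        intro e
        have hH2 : IsPGroup p H := TY.isPGroup'.map Y.subtype
        obtain ⟨U, hU⟩ := exists_sylow hH2
        apply m.ne
        rw [pp_eq h c m.hB (hDBH.trans hU),
          pp_eq h c m.hC (sup_le (le_sup_left.trans (hDBH.trans hU)) (e.trans hU))]
      have := le_P h c m hHY hDBH hCH
      intro t ht
      exact this ⟨t, ht, rfl⟩
    exact C_not_le h c m (hCY.trans (le_of_p' hodd TY hTP))
  -- `V₁`
  obtain ⟨V₁, ⟨h1inv, h21, h10, hne⟩, h1min⟩ := Set.exists_min_image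
    {W : AddSubgroup V | Iv Y W ∧ V₂ ≤ W ∧ W ≤ fx V O ∧ ¬ W ≤ V₂} (fun W => Nat.card W) (Set.toFinite _)
    ⟨fx V O, hV0, hV20, le_rfl, h4a⟩
  have h1min' : ∀ W : AddSubgroup V, Iv Y W → V₂ ≤ W → W ≤ V₁ → ¬ W ≤ V₂ → W = V₁ := by
    intro W hW h2W hW1 hn
    exact eq_of_card_le hW1 (h1min W ⟨hW, h2W, hW1.trans h10, hn⟩)
  -- C1
  have C1 : ∀ v ∈ V₁, (∀ y ∈ Y, y • v - v ∈ V₂) → v ∈ V₂ := by
    intro v hv hy2
    refine ⟨h10 hv, fun y hy ho => ?_⟩
    set w := y • v - v with hw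
    have hwf : y • w = w := (hy2 y hy).2 y hy ho
    have hpow : ∀ n : ℕ, y ^ n • v = v + n • w := by
      intro n
      induction n with
      | zero => simp
      | succ n ih =>
        have e1 : y • (n • w) = n • w := by rw [smul_comm, hwf]
        have e2 : y • v = v + w := by rw [hw]; abel
        rw [pow_succ', mul_smul, ih, smul_add, e1, e2, succ_nsmul]; abel
    have h3 := hpow (orderOf y)
    rw [pow_orderOf_eq_one, one_smul] at h3
    have h3' : orderOf y • w = 0 := by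
      have e : v + orderOf y • w = v + 0 := by rw [add_zero]; exact h3.symm
      exact add_left_cancel e
    have h5 : w = 0 := eq_zero_of_coprime (h.h2 w) ho h3'
    rw [hw, sub_eq_zero] at h5
    exact h5
  -- `V₂ < V₁`
  have hne' : V₂ ≠ V₁ := fun e => hne e.ge
  -- an element `x` outside `P`
  have hYP : ¬ Y ≤ P := fun e => C_not_le h c m (hCY.trans e)
  obtain ⟨x₀, hx₀, hx₀P⟩ := Set.not_subset.1 hYP
  -- the subgroups `A_F`
  let AA : Subgroup X → AddSubgroup V := fun F =>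
    { carrier := {v | v ∈ V₁ ∧ ∀ b ∈ F, b • v - v ∈ V₂}
      zero_mem' := ⟨V₁.zero_mem, fun b _ => by rw [smul_zero, sub_self]; exact V₂.zero_mem⟩
      add_mem' := fun {v w} hv hw => ⟨V₁.add_mem hv.1 hw.1, fun b hb => by
        have := V₂.add_mem (hv.2 b hb) (hw.2 b hb)
        rw [smul_add]
        convert this using 1; abel⟩
      neg_mem' := fun {v} hv => ⟨V₁.neg_mem hv.1, fun b hb => by
        have := V₂.neg_mem (hv.2 b hb)
        rw [smul_neg]
        convert this using 1; abel⟩ }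
  have hAA1 : ∀ F, AA F ≤ V₁ := fun F v hv => hv.1
  have hAA2 : ∀ F ≤ Y, V₂ ≤ AA F := by
    intro F hF v hv
    exact ⟨h21 hv, fun b hb => V₂.sub_mem (hV2 b (hF hb) v hv) hv⟩
  -- intersection
  have hinf : ∀ x ∈ Y, x ∉ P → AA B ⊓ AA (cj x B) ≤ V₂ := by
    intro x hx hxP v hv
    apply C1 v hv.1.1
    have hle : Y ≤ sb Y V₂ hV2 v := by
      refine (Y_eq h c m hx hxP).ge.trans (sup_le (sup_le ?_ ?_) ?_)
      · intro d hd
        refine ⟨hDY hd, ?_⟩
        rw [h10 hv.1.1 d (hDO hd), sub_self]; exact V₂.zero_mem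
      · intro b hb; exact ⟨hBY hb, hv.1.2 b hb⟩
      · intro b hb
        refine ⟨?_, hv.2.2 b hb⟩
        have := cj_mono x hBY
        rw [cj_eq_self_of_mem hx] at this
        exact this hb
    intro y hy
    exact (hle hy).2
  have hsup : ∀ x ∈ Y, x ∉ P → AA B ⊔ AA (cj x B) = V₁ := by
    intro x hx hxP
    set W := AA B ⊔ AA (cj x B) with hW
    have hcjY : cj x B ≤ Y := by
      have := cj_mono x hBY
      rwa [cj_eq_self_of_mem hx] at this
    have hW1 : W ≤ V₁ := sup_le (hAA1 _) (hAA1 _)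
    have h2W : V₂ ≤ W := (hAA2 B hBY).trans le_sup_left
    -- the elements of `Y` with `[V₁, y] ≤ W`
    let S : Subgroup X :=
      { carrier := {y | y ∈ Y ∧ ∀ v ∈ V₁, y • v - v ∈ W}
        one_mem' := ⟨Y.one_mem, fun v _ => by rw [one_smul, sub_self]; exact W.zero_mem⟩
        mul_mem' := fun {y z} hy hz => ⟨Y.mul_mem hy.1 hz.1, fun v hv => by
          have h1 := hz.2 v hv
          have h2 := hy.2 _ (hW1 h1)
          have h3 := W.add_mem (W.add_mem h2 h1) (hy.2 v hv)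
          have e : (y * z) • v - v = y • (z • v - v) - (z • v - v) + (z • v - v) + (y • v - v) := by
            rw [mul_smul, smul_sub]; abel
          rw [e]; exact h3⟩
        inv_mem' := fun {y} hy => ⟨Y.inv_mem hy.1, fun v hv => by
          have h1 := hy.2 (y⁻¹ • v) (h1inv _ (Y.inv_mem hy.1) v hv)
          rw [smul_inv_smul] at h1
          have := W.neg_mem h1
          convert this using 1; abel⟩ }
    have hSY : Y ≤ S := by
      rw [hY, ← Y_eq h c m hx hxP]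
      refine sup_le (sup_le ?_ ?_) ?_
      · intro d hd
        refine ⟨hDY hd, fun v hv => ?_⟩
        rw [h10 hv d (hDO hd), sub_self]; exact W.zero_mem
      · intro b hb
        refine ⟨hBY hb, fun v hv => ?_⟩
        apply (le_sup_left : AA B ≤ W)
        refine ⟨V₁.sub_mem (h1inv b (hBY hb) v hv) hv, fun b' hb' => ?_⟩
        rw [h.quad B m.hB.1 b hb b' hb', sub_self]; exact V₂.zero_mem
      · intro b hb
        refine ⟨hcjY hb, fun v hv => ?_⟩
        apply (le_sup_right : AA (cj x B) ≤ W)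
        refine ⟨V₁.sub_mem (h1inv b (hcjY hb) v hv) hv, fun b' hb' => ?_⟩
        rw [h.quad _ (h.conj B m.hB.1 x) b hb b' hb', sub_self]; exact V₂.zero_mem
    apply h1min' W _ h2W hW1
    · intro hcon
      obtain ⟨v, hv, hv2⟩ := Set.not_subset.1 hne
      apply hv2
      apply C1 v hv
      intro y hy
      exact hcon ((hSY hy).2 v hv)
    · intro y hy v hv
      have h1 := (hSY hy).2 v (hW1 hv)
      have := W.add_mem h1 hv
      convert this using 1; abel
  -- cardinalities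
  have hcardAA : ∀ x ∈ Y, Nat.card (AA (cj x B)) = Nat.card (AA B) := by
    intro x hx
    apply card_smul x
    intro v
    constructor
    · intro hv
      refine ⟨h1inv _ (Y.inv_mem hx) v hv.1, fun b hb => ?_⟩
      have h1 := hV2 _ (Y.inv_mem hx) _ (hv.2 _ (mem_cj_of (g := x) hb))
      have e : b • x⁻¹ • v - x⁻¹ • v = x⁻¹ • ((x * b * x⁻¹) • v - v) := by
        rw [smul_sub, smul_smul, smul_smul]; congr 2; group
      rw [e]; exact h1
    · intro hv
      refine ⟨?_, fun b hb => ?_⟩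
      · have := h1inv x hx _ hv.1
        rwa [smul_inv_smul] at this
      · have h1 := hV2 x hx _ (hv.2 _ (mem_cj.1 hb))
        have e : b • v - v = x • ((x⁻¹ * b * x) • x⁻¹ • v - x⁻¹ • v) := by
          rw [smul_sub, smul_smul, smul_smul, smul_inv_smul]; congr 2; group
        rw [e]; exact h1
  have c2 : Nat.card V₁ * Nat.card V₂ = Nat.card (AA B) * Nat.card (AA B) := by
    have h1 := card_sup_inf (AA B) (AA (cj x₀ B))
    have h2 : AA B ⊓ AA (cj x₀ B) = V₂ :=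
      le_antisymm (hinf x₀ hx₀ hx₀P) (le_inf (hAA2 B hBY) (hAA2 _ (by
        have := cj_mono x₀ hBY
        rwa [cj_eq_self_of_mem hx₀] at this)))
    rw [hsup x₀ hx₀ hx₀P, h2, hcardAA x₀ hx₀] at h1
    exact h1
  -- (3a)
  have h3a : ∀ a ∈ B, a ∉ O → ∀ v ∈ V₁, a • v - v ∈ V₂ → v ∈ AA B := by
    intro a ha haO v hv hav
    obtain ⟨x, hx, hxP, hax⟩ := hOx a ha haO
    have hcjY : cj x B ≤ Y := by
      have := cj_mono x hBY
      rwa [cj_eq_self_of_mem hx] at this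
    rw [← hsup x hx hxP] at hv
    obtain ⟨v₁, hv₁, v₂, hv₂, rfl⟩ := mem_sup hv
    have h1 : a • v₂ - v₂ ∈ V₂ := by
      have := V₂.sub_mem hav (hv₁.2 a ha)
      rw [smul_add] at this
      convert this using 1; abel
    by_cases hH : Y ≤ sb Y V₂ hV2 v₂
    · have h2 : v₂ ∈ V₂ := C1 v₂ hv₂.1 fun y hy => (hH hy).2
      exact (AA B).add_mem hv₁ (hAA2 B hBY h2)
    · exfalso
      apply hax
      have h2 : sb Y V₂ hV2 v₂ ≤ cj x P := by
        apply le_P' h c m hx (fun y (hy : y ∈ sb Y V₂ hV2 v₂) => hy.1) _ hH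
        apply sup_le
        · intro d hd
          refine ⟨hDY hd, ?_⟩
          rw [h10 hv₂.1 d (hDO hd), sub_self]; exact V₂.zero_mem
        · intro b hb
          exact ⟨hcjY hb, hv₂.2 b hb⟩
      exact h2 ⟨hBY ha, h1⟩
  -- (3b)
  have hAB1 : ¬ V₁ ≤ AA B := by
    intro hle
    have e : AA B = V₁ := le_antisymm (hAA1 B) hle
    rw [e] at c2
    have : Nat.card V₂ = Nat.card V₁ := Nat.eq_of_mul_eq_mul_left (card_pos V₁) c2
    exact hne' (eq_of_card_le h21 this.ge)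
  obtain ⟨w, hw1, hwA⟩ := Set.not_subset.1 hAB1
  have h3b : Nat.card B * Nat.card V₂ ≤ Nat.card (B ⊓ O : Subgroup X) * Nat.card (AA B) := by
    apply card_fib (hAA2 B hBY) (fun b => b • w - w)
    · intro b hb
      refine ⟨V₁.sub_mem (h1inv b (hBY hb) w hw1) hw1, fun b' hb' => ?_⟩
      rw [h.quad B m.hB.1 b hb b' hb', sub_self]; exact V₂.zero_mem
    · intro a ha b hb hab
      have hba : b⁻¹ * a ∈ B := B.mul_mem (B.inv_mem hb) ha
      refine Subgroup.mem_inf.2 ⟨hba, ?_⟩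
      by_contra hO
      apply hwA
      apply h3a _ hba hO w hw1
      have h1 : (a • w - b • w : V) ∈ V₂ := by convert hab using 1; abel
      have h2 := hV2 _ (Y.inv_mem (hBY hb)) _ h1
      rw [smul_sub, smul_smul, inv_smul_smul] at h2
      exact h2
  -- (4)
  have hinfB : V₁ ⊓ fx V B ≤ AA B := by
    intro v hv
    refine ⟨hv.1, fun b hb => ?_⟩
    rw [hv.2 b hb, sub_self]; exact V₂.zero_mem
  set C1' := fx V B with hC1'
  have e1 := card_sup_inf V₁ C1'
  have h4 : mm V B ≤ mm V (B ⊓ O : Subgroup X) ∧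
      (Nat.card B * Nat.card V₂) * (Nat.card (AA B) * Nat.card C1') ≤
        Nat.card (B ⊓ O : Subgroup X) * Nat.card (V₁ ⊔ C1' : AddSubgroup V) * (Nat.card V₂ * Nat.card (AA B)) := by
    have h5 : Nat.card V₁ * Nat.card C1' ≤ Nat.card (V₁ ⊔ C1' : AddSubgroup V) * Nat.card (AA B) := by
      rw [← e1]; exact Nat.mul_le_mul_left _ (card_le hinfB)
    have h6 : V₁ ⊔ C1' ≤ fx V (B ⊓ O : Subgroup X) :=
      sup_le (h10.trans (fx_anti inf_le_right)) (fx_anti inf_le_left)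
    have h7 : (Nat.card B * Nat.card V₂) * (Nat.card (AA B) * Nat.card C1') ≤
        Nat.card (B ⊓ O : Subgroup X) * Nat.card (V₁ ⊔ C1' : AddSubgroup V) * (Nat.card V₂ * Nat.card (AA B)) := by
      calc (Nat.card B * Nat.card V₂) * (Nat.card (AA B) * Nat.card C1')
          ≤ (Nat.card (B ⊓ O : Subgroup X) * Nat.card (AA B)) * (Nat.card (AA B) * Nat.card C1') :=
            Nat.mul_le_mul_right _ h3b
        _ = Nat.card (B ⊓ O : Subgroup X) * (Nat.card (AA B) * Nat.card (AA B)) * Nat.card C1' := by ring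
        _ = Nat.card (B ⊓ O : Subgroup X) * Nat.card V₂ * (Nat.card V₁ * Nat.card C1') := by rw [← c2]; ring
        _ ≤ Nat.card (B ⊓ O : Subgroup X) * Nat.card V₂ * (Nat.card (V₁ ⊔ C1' : AddSubgroup V) * Nat.card (AA B)) :=
            Nat.mul_le_mul_left _ h5
        _ = _ := by ring
    refine ⟨?_, h7⟩
    have hpos : 0 < Nat.card V₂ * Nat.card (AA B) := Nat.mul_pos (card_pos _) (card_pos _)
    apply Nat.le_of_mul_le_mul_right _ hpos
    calc mm V B * (Nat.card V₂ * Nat.card (AA B))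
        = (Nat.card B * Nat.card V₂) * (Nat.card (AA B) * Nat.card C1') := by rw [mm]; ring
      _ ≤ _ := h7
      _ ≤ mm V (B ⊓ O : Subgroup X) * (Nat.card V₂ * Nat.card (AA B)) := by
          apply Nat.mul_le_mul_right
          exact Nat.mul_le_mul_left _ (card_le h6)
  have hBO : B ⊓ O = ⊥ := by
    by_contra hne
    have hlt : B ⊓ O < B := by
      refine lt_of_le_of_ne inf_le_left fun e => ?_
      have hBO : B ≤ O := inf_eq_left.1 e
      apply hx₀P
      apply pp_eq_of_le_cj h c m.hB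
      apply (sup_le hDO hBO).trans
      have := cj_mono x₀ hOP
      rwa [cj_eq_iff_mem_normalizer.2 (hYO hx₀)] at this
    exact absurd (h.min B m.hB.1 _ hlt hne) (not_lt.2 h4.1)
  have hmmB : mm V B = Nat.card V := by
    apply le_antisymm
    · rw [← mm_bot (V := V) (X := X), ← hBO]; exact h4.1
    · exact h.off B m.hB.1
  have h41 := h4.2
  rw [hBO, Subgroup.card_bot, one_mul] at h41
  have h3b' := h3b
  rw [hBO, Subgroup.card_bot, one_mul] at h3b'
  -- equalities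
  have hpos : 0 < Nat.card V₂ * Nat.card (AA B) := Nat.mul_pos (card_pos _) (card_pos _)
  have hle1 : Nat.card V ≤ Nat.card (V₁ ⊔ C1' : AddSubgroup V) := by
    apply Nat.le_of_mul_le_mul_right _ hpos
    calc Nat.card V * (Nat.card V₂ * Nat.card (AA B))
        = (Nat.card B * Nat.card V₂) * (Nat.card (AA B) * Nat.card C1') := by rw [← hmmB, mm]; ring
      _ ≤ _ := h41
  have hsupT : V₁ ⊔ C1' = ⊤ := by
    apply eq_of_card_le le_top
    rw [card_top]; exact hle1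
  have hVpos : 0 < Nat.card V := Nat.card_pos
  have e2 : Nat.card V * Nat.card (V₁ ⊓ C1' : AddSubgroup V) = Nat.card V₁ * Nat.card C1' := by
    rw [← e1, hsupT, card_top]
  -- |AA B| ≤ |B| |V₂|
  have hAAle : Nat.card (AA B) ≤ Nat.card B * Nat.card V₂ := by
    -- |V₁| |C| = |V| |V₁ ⊓ C| ≤ |V| |AA| = |B| |C| |AA|
    have h5 : Nat.card V₁ ≤ Nat.card B * Nat.card (AA B) := by
      have hCpos : 0 < Nat.card C1' := card_pos _
      apply Nat.le_of_mul_le_mul_right _ hCpos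
      calc Nat.card V₁ * Nat.card C1' = Nat.card V * Nat.card (V₁ ⊓ C1' : AddSubgroup V) := e2.symm
        _ ≤ Nat.card V * Nat.card (AA B) := Nat.mul_le_mul_left _ (card_le hinfB)
        _ = Nat.card B * Nat.card (AA B) * Nat.card C1' := by rw [← hmmB, mm]; ring
    have h6 : Nat.card (AA B) * Nat.card (AA B) ≤ Nat.card B * Nat.card (AA B) * Nat.card V₂ := by
      rw [← c2]; exact Nat.mul_le_mul_right _ h5
    have hApos : 0 < Nat.card (AA B) := card_pos _
    apply Nat.le_of_mul_le_mul_right _ hApos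
    calc _ ≤ _ := h6
      _ = _ := by ring
  have c1 : Nat.card (AA B) = Nat.card B * Nat.card V₂ := le_antisymm hAAle h3b'
  have hinfeq : V₁ ⊓ C1' = AA B := by
    apply eq_of_card_le hinfB
    -- |V₁| |C| = |V| |V₁ ⊓ C|, |V₁| |V₂| = |AA|², |AA| = |B| |V₂| so |V₁| = |B| |AA|
    have h5 : Nat.card V₁ = Nat.card B * Nat.card (AA B) := by
      have h2pos : 0 < Nat.card V₂ := card_pos _
      apply Nat.eq_of_mul_eq_mul_right h2pos
      rw [c2]; nth_rewrite 1 [c1]; ring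
    have h6 : Nat.card V * Nat.card (AA B) = Nat.card V * Nat.card (V₁ ⊓ C1' : AddSubgroup V) := by
      rw [e2, h5, ← hmmB, mm]; ring
    exact (Nat.eq_of_mul_eq_mul_left hVpos h6).le
  refine ⟨V₁, V₂, AA B, hmmB, h21, h10.trans (fx_anti hDO), h1inv, hV2, ?_, hsupT, hinfeq, c1, c2, ?_⟩
  · intro v hv hy
    apply C1 v hv
    intro y hyY
    rw [hy y hyY, sub_self]; exact V₂.zero_mem
  · intro a ha ha1 v hv hav
    have haO : a ∉ O := by
      intro haO
      have : a ∈ B ⊓ O := Subgroup.mem_inf.2 ⟨ha, haO⟩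
      rw [hBO, Subgroup.mem_bot] at this
      exact ha1 this
    have := h3a a ha haO v hv hav
    rw [← hinfeq] at this
    exact this.2

end Cfsg.Agent.H263.FF.Chief
end

-- part: H263/FF/Pair
section
/-!
# FF-modules: all pairs in `𝒜_N` at different points, any prime
-/

set_option autoImplicit false
set_option linter.unusedSectionVars false

namespace Cfsg.Agent.H263.FF.Pair

open Cfsg.Agent.H263.FF.Basic Cfsg.Agent.H263.FF.Setup Cfsg.Agent.H263.FF.Frat Cfsg.Agent.H263.FF.Conf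
open Cfsg.Agent.H263.FF.Min Cfsg.Agent.H263.FF.Chief
open scoped Pointwise

variable {p : ℕ} [hp : Fact p.Prime]
variable {X : Type*} [Group X] [Finite X] {V : Type*} [AddCommGroup V] [Finite V] [DistribMulAction X V]

omit [Finite X] in
/-- if the commutators of `A` are fixed by `B` and conversely, then `A`, `B` commute (faithful action) -/
theorem commute_of (hf : ∀ x : X, (∀ v : V, x • v = v) → x = 1) {a b : X}
    (h1 : ∀ v : V, b • (a • v - v) = a • v - v) (h2 : ∀ v : V, a • (b • v - v) = b • v - v) : a * b = b * a := by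
  have key : ∀ v : V, (a * b) • v = (b * a) • v := by
    intro v
    have e1 := h1 v
    have e2 := h2 v
    rw [smul_sub, smul_smul] at e1 e2
    have e3 : (b * a) • v = a • v - v + b • v := by rw [← e1]; abel
    have e4 : (a * b) • v = b • v - v + a • v := by rw [← e2]; abel
    rw [e3, e4]; abel
  have : (b * a)⁻¹ * (a * b) = 1 := by
    apply hf
    intro v
    rw [mul_smul, key, inv_smul_smul]
  rw [inv_mul_eq_one] at this
  exact this.symm

omit [Finite X] in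
/-- product of two commuting elementary abelian groups -/
theorem EA_sup {A B : Subgroup X} (hA : EA p A) (hB : EA p B) (hc : ∀ a ∈ A, ∀ b ∈ B, a * b = b * a) :
    EA p (A ⊔ B) := by
  let E : Subgroup X :=
    { carrier := {x | ∃ a ∈ A, ∃ b ∈ B, x = a * b}
      one_mem' := ⟨1, A.one_mem, 1, B.one_mem, by simp⟩
      mul_mem' := by
        rintro _ _ ⟨a, ha, b, hb, rfl⟩ ⟨a', ha', b', hb', rfl⟩
        refine ⟨a * a', A.mul_mem ha ha', b * b', B.mul_mem hb hb', ?_⟩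
        have := hc a' ha' b hb
        calc a * b * (a' * b') = a * (b * a') * b' := by group
          _ = a * (a' * b) * b' := by rw [this]
          _ = _ := by group
      inv_mem' := by
        rintro _ ⟨a, ha, b, hb, rfl⟩
        refine ⟨a⁻¹, A.inv_mem ha, b⁻¹, B.inv_mem hb, ?_⟩
        rw [hc a ha b hb, mul_inv_rev] }
  have hle : A ⊔ B ≤ E := sup_le (fun a ha => ⟨a, ha, 1, B.one_mem, by simp⟩)
    (fun b hb => ⟨1, A.one_mem, b, hb, by simp⟩)
  constructor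
  · intro x hx y hy
    obtain ⟨a, ha, b, hb, rfl⟩ := hle hx
    obtain ⟨a', ha', b', hb', rfl⟩ := hle hy
    have e1 := hc a' ha' b hb
    have e2 := hc a ha b' hb'
    have e3 := hA.comm ha ha'
    have e4 := hB.comm hb hb'
    calc a * b * (a' * b') = a * (b * a') * b' := by group
      _ = a * (a' * b) * b' := by rw [e1]
      _ = (a * a') * (b * b') := by group
      _ = (a' * a) * (b' * b) := by rw [e3, e4]
      _ = a' * (a * b') * b := by group
      _ = a' * (b' * a) * b := by rw [e2]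
      _ = _ := by group
  · intro x hx
    obtain ⟨a, ha, b, hb, rfl⟩ := hle hx
    have : Commute a b := hc a ha b hb
    rw [this.mul_pow, hA.pow ha, hB.pow hb, one_mul]

variable {pt : Sylow p X → Subgroup X} {𝒟 : Set (Subgroup X)} {D : Subgroup X}

section cons

variable (h : Hyp0 p V pt 𝒟) (c : Cfg p pt 𝒟 D)
include h c

/-! ### consequences for the class `𝒟` -/

theorem mm_eq {A : Subgroup X} (hA : A ∈ 𝒟) : mm V A = Nat.card V := by
  obtain ⟨B, hB, C, hC, hne⟩ := exists_two h c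
  obtain ⟨F, hF, _⟩ := exists_mn hB hC hne
  obtain ⟨V₁, V₂, AB, o⟩ := out h c hF
  obtain ⟨g, hg⟩ := h.tr B hB.1 A hA
  rw [← hg, mm_cj, o.mmB]

/-- TI1 -/
theorem ti {A : Subgroup X} (hA : A ∈ 𝒟) {a : X} (ha : a ∈ A) (ha1 : a ≠ 1) {v : V} (hv : a • v = v) : v ∈ fx V A := by
  obtain ⟨B, hB, C, hC, hne⟩ := exists_two h c
  obtain ⟨F, hF, _⟩ := exists_mn hB hC hne
  obtain ⟨V₁, V₂, AB, o⟩ := out h c hF
  have key : ∀ b ∈ B, b ≠ 1 → ∀ v : V, b • v = v → v ∈ fx V B := by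
    intro b hb hb1 v hv
    have hvT : v ∈ V₁ ⊔ fx V B := by rw [o.sup]; trivial
    obtain ⟨v₁, hv₁, u, hu, rfl⟩ := mem_sup hvT
    have h1 : b • v₁ = v₁ := by
      rw [smul_add, hu b hb] at hv
      exact add_right_cancel hv
    have h2 : v₁ ∈ fx V B := o.ti b hb hb1 v₁ hv₁ (by rw [h1, sub_self]; exact V₂.zero_mem)
    exact (fx V B).add_mem h2 hu
  obtain ⟨g, hg⟩ := h.tr B hB.1 A hA
  rw [← hg] at ha ⊢
  rw [mem_fx_cj]
  apply key _ (mem_cj.1 ha)
  · intro e
    apply ha1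
    have : a = g * (g⁻¹ * a * g) * g⁻¹ := by group
    rw [this, e]; group
  · rw [smul_smul, mul_assoc, mul_inv_cancel, mul_one, mul_smul, hv]

end cons

theorem fx_ne_top (h : Hyp0 p V pt 𝒟) {A : Subgroup X} (hA : A ∈ 𝒟) : ¬ ∀ v : V, v ∈ fx V A := by
  intro e
  apply h.nb A hA
  rw [Subgroup.eq_bot_iff_forall]
  intro x hx
  exact h.faith x fun v => e v x hx

/-- no over-offenders -/
theorem no (h : Hyp p V pt 𝒟) (c : Cfg p pt 𝒟 D) (E : Subgroup X) (hE : EA p E) : mm V E ≤ Nat.card V := by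
  obtain ⟨A, hA⟩ := h.ne
  rw [← mm_eq h.toHyp0 c hA]
  exact h.max A hA E hE

/-- AX -/
theorem ax (h : Hyp p V pt 𝒟) (c : Cfg p pt 𝒟 D) {A B : Subgroup X} (hA : A ∈ 𝒟) (hB : B ∈ 𝒟) (e : fx V A = fx V B) :
    A = B := by
  have hc : ∀ a ∈ A, ∀ b ∈ B, a * b = b * a := by
    intro a ha b hb
    apply commute_of h.faith
    · intro v
      have h1 : a • v - v ∈ fx V A := fun a' ha' => h.quad A hA a ha a' ha' v
      rw [e] at h1
      exact h1 b hb
    · intro v
      have h1 : b • v - v ∈ fx V B := fun b' hb' => h.quad B hB b hb b' hb' v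
      rw [← e] at h1
      exact h1 a ha
  have h1 := no h c _ (EA_sup (h.ea A hA) (h.ea B hB) hc)
  have h2 := mm_eq h.toHyp0 c hA
  rw [mm, fx_sup, ← e, inf_idem, ← h2, mm] at h1
  have h3 := Nat.le_of_mul_le_mul_right h1 (card_pos _)
  have h4 : A = A ⊔ B := Subgroup.eq_of_le_of_card_ge le_sup_left h3
  have h5 : B ≤ A := by rw [h4]; exact le_sup_right
  exact (Subgroup.eq_of_le_of_card_ge h5 (h.card_eq hA hB).le).symm

omit [Finite X] [Finite V] hp in
theorem fx_inv {n : X} (hn : n ∈ Subgroup.normalizer (D : Set X)) {v : V} (hv : v ∈ fx V D) : n • v ∈ fx V D := by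
  have := smul_mem_fx_cj (g := n) hv
  rwa [cj_eq_iff_mem_normalizer.2 hn] at this

variable (h : Hyp0 p V pt 𝒟) (c : Cfg p pt 𝒟 D)
include h c

/-! ### pairs -/

section pair

variable {B C : Subgroup X} (hB : B ∈ AN 𝒟 D) (hC : C ∈ AN 𝒟 D) (hne : pp pt D C ≠ pp pt D B)
include hB hC hne

/-- cardinalities -/
theorem pair_basic : fx V D ⊔ (fx V B ⊓ fx V C) = ⊤ ∧
    Nat.card (fx V D) = Nat.card B * Nat.card B * Nat.card (fx V D ⊓ fx V B ⊓ fx V C : AddSubgroup V) ∧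
    ∀ b ∈ B, b ≠ 1 → ∀ v ∈ fx V D, b • v - v ∈ fx V D ⊓ fx V B ⊓ fx V C → v ∈ fx V B := by
  obtain ⟨F, hF, hFY⟩ := exists_mn hB hC hne
  obtain ⟨V₁, V₂, AB, o⟩ := out h c hF
  set W : AddSubgroup V := fx V D ⊓ fx V B ⊓ fx V C with hW
  set cBC : AddSubgroup V := fx V B ⊓ fx V C with hcBC
  set q := Nat.card B with hq
  have hWe : W = fx V D ⊓ cBC := by rw [hW, hcBC, inf_assoc]
  have hWY : ∀ w ∈ W, ∀ y ∈ D ⊔ B ⊔ C, y • w = w := by
    intro w hw y hy
    have : w ∈ fx V (D ⊔ B ⊔ C) := by rw [fx_sup, fx_sup]; exact hw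
    exact this y hy
  have hV1W : V₁ ⊓ W ≤ V₂ := by
    intro v hv
    apply o.fix v hv.1
    intro y hy
    exact hWY v hv.2 y ((sup_le le_sup_left hFY : D ⊔ B ⊔ F ≤ D ⊔ B ⊔ C) hy)
  -- |V₁| = q² |V₂|
  have c3 : Nat.card V₁ = q * q * Nat.card V₂ := by
    have := o.c2
    rw [o.c1] at this
    apply Nat.eq_of_mul_eq_mul_right (card_pos V₂)
    rw [this]; ring
  -- lower bound
  have e1 := card_sup_inf V₁ W
  have hV1W' : V₁ ⊔ W ≤ fx V D := sup_le o.le1 (by rw [hWe]; exact inf_le_left)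
  have hlow : q * q * Nat.card W ≤ Nat.card (fx V D) := by
    apply Nat.le_of_mul_le_mul_right _ (card_pos V₂)
    calc q * q * Nat.card W * Nat.card V₂ = Nat.card V₁ * Nat.card W := by rw [c3]; ring
      _ = Nat.card (V₁ ⊔ W : AddSubgroup V) * Nat.card (V₁ ⊓ W : AddSubgroup V) := e1.symm
      _ ≤ Nat.card (fx V D) * Nat.card V₂ := Nat.mul_le_mul (card_le hV1W') (card_le hV1W)
  -- upper bound
  have hVB : q * Nat.card (fx V B) = Nat.card V := mm_eq h c hB.1
  have hVC : q * Nat.card (fx V C) = Nat.card V := by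
    rw [hq, h.card_eq hB.1 hC.1]; exact mm_eq h c hC.1
  have e2 := card_sup_inf (fx V B) (fx V C)
  have hVpos : 0 < Nat.card V := Nat.card_pos
  have hup1 : Nat.card V ≤ q * q * Nat.card cBC := by
    apply Nat.le_of_mul_le_mul_left _ hVpos
    calc Nat.card V * Nat.card V = q * q * (Nat.card (fx V B) * Nat.card (fx V C)) := by
          nth_rewrite 1 [← hVB]; rw [← hVC]; ring
      _ = q * q * (Nat.card (fx V B ⊔ fx V C : AddSubgroup V) * Nat.card cBC) := by rw [e2]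
      _ ≤ q * q * (Nat.card V * Nat.card cBC) :=
          Nat.mul_le_mul_left _ (Nat.mul_le_mul_right _ (card_le_top _))
      _ = _ := by ring
  have e3 := card_sup_inf (fx V D) cBC
  rw [← hWe] at e3
  -- |fx D| |cBC| = |sup| |W| ≤ |V| |W| ≤ q² |cBC| |W|
  have hup : Nat.card (fx V D) ≤ q * q * Nat.card W := by
    apply Nat.le_of_mul_le_mul_right _ (card_pos cBC)
    calc Nat.card (fx V D) * Nat.card cBC = Nat.card (fx V D ⊔ cBC : AddSubgroup V) * Nat.card W := e3.symm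
      _ ≤ Nat.card V * Nat.card W := Nat.mul_le_mul_right _ (card_le_top _)
      _ ≤ q * q * Nat.card cBC * Nat.card W := Nat.mul_le_mul_right _ hup1
      _ = _ := by ring
  have hD : Nat.card (fx V D) = q * q * Nat.card W := le_antisymm hup hlow
  have hsup : fx V D ⊔ cBC = ⊤ := by
    apply eq_of_card_le le_top
    rw [card_top]
    apply Nat.le_of_mul_le_mul_right _ (card_pos W)
    rw [e3, hD]
    calc Nat.card V * Nat.card W ≤ q * q * Nat.card cBC * Nat.card W := Nat.mul_le_mul_right _ hup1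
      _ = _ := by ring
  -- V₁ ⊔ W = fx D, V₁ ⊓ W = V₂
  have e4 : Nat.card (V₁ ⊔ W : AddSubgroup V) * Nat.card (V₁ ⊓ W : AddSubgroup V) = Nat.card (fx V D) * Nat.card V₂ := by
    rw [e1, c3, hD]; ring
  have hV1Weq : V₁ ⊔ W = fx V D := by
    apply eq_of_card_le hV1W'
    apply Nat.le_of_mul_le_mul_right _ (card_pos V₂)
    rw [← e4]; exact Nat.mul_le_mul_left _ (card_le hV1W)
  have hV2eq : V₁ ⊓ W = V₂ := by
    apply eq_of_card_le hV1W
    rw [hV1Weq] at e4
    exact (Nat.eq_of_mul_eq_mul_left (card_pos _) e4).ge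
  refine ⟨hsup, hD, ?_⟩
  intro b hb hb1 v hv hbv
  rw [← hV1Weq] at hv
  obtain ⟨v₁, hv₁, w, hw, rfl⟩ := mem_sup hv
  have hbw : b • w = w := hWY w hw b ((le_sup_right.trans le_sup_left : B ≤ D ⊔ B ⊔ C) hb)
  have h1 : b • v₁ - v₁ ∈ V₂ := by
    rw [← hV2eq]
    refine AddSubgroup.mem_inf.2
      ⟨V₁.sub_mem (o.inv1 b ((le_sup_right.trans le_sup_left : B ≤ D ⊔ B ⊔ F) hb) v₁ hv₁) hv₁, ?_⟩
    rw [smul_add, hbw] at hbv
    convert hbv using 1; abel
  have h2 := o.ti b hb hb1 v₁ hv₁ h1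
  refine (fx V B).add_mem h2 ?_
  have h3 : w ∈ fx V D ⊓ cBC := by rw [← hWe]; exact hw
  exact h3.2.1

theorem sup_eq : fx V D ⊔ (fx V B ⊓ fx V C) = ⊤ := (pair_basic h c hB hC hne).1

theorem mem_sup' (v : V) : ∃ d ∈ fx V D, ∃ u : V, u ∈ fx V B ∧ u ∈ fx V C ∧ d + u = v := by
  have : v ∈ fx V D ⊔ (fx V B ⊓ fx V C) := by rw [sup_eq h c hB hC hne]; trivial
  obtain ⟨d, hd, u, hu, e⟩ := mem_sup this
  exact ⟨d, hd, u, hu.1, hu.2, e⟩

/-- `[V, B] ≤ C_V(D)` -/
theorem comm_mem {b : X} (hb : b ∈ B) (v : V) : b • v - v ∈ fx V D := by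
  obtain ⟨d, hd, u, hu, _, rfl⟩ := mem_sup' h c hB hC hne v
  have e : b • (d + u) - (d + u) = b • d - d := by rw [smul_add, hu b hb]; abel
  rw [e]
  exact (fx V D).sub_mem (fx_inv (hB.2.1 hb) hd) hd

/-- (P3) -/
theorem p3 {b : X} (hb : b ∈ B) {v : V} (hv : b • v - v ∈ fx V C) : b • v = v := by
  by_cases hb1 : b = 1
  · rw [hb1, one_smul]
  obtain ⟨d, hd, u, hu, _, rfl⟩ := mem_sup' h c hB hC hne v
  have e : b • (d + u) - (d + u) = b • d - d := by rw [smul_add, hu b hb]; abel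
  rw [e] at hv
  have h1 : d ∈ fx V B := by
    apply (pair_basic h c hB hC hne).2.2 b hb hb1 d hd
    refine ⟨⟨(fx V D).sub_mem (fx_inv (hB.2.1 hb) hd) hd, ?_⟩, hv⟩
    exact fun b' hb' => h.quad B hB.1 b hb b' hb' d
  rw [smul_add, hu b hb, h1 b hb]

end pair

/-! ### the two hyperplane-like subgroups -/

theorem halves {B C : Subgroup X} (hB : B ∈ AN 𝒟 D) (hC : C ∈ AN 𝒟 D) (hne : pp pt D C ≠ pp pt D B) :
    (fx V D ⊓ fx V B) ⊔ (fx V D ⊓ fx V C) = fx V D ∧
    Nat.card (fx V D ⊓ fx V B : AddSubgroup V) =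
      Nat.card B * Nat.card (fx V D ⊓ fx V B ⊓ fx V C : AddSubgroup V) ∧
    Nat.card (fx V D ⊓ fx V C : AddSubgroup V) =
      Nat.card B * Nat.card (fx V D ⊓ fx V B ⊓ fx V C : AddSubgroup V) := by
  obtain ⟨_, hD, _⟩ := pair_basic h c hB hC hne
  set W : AddSubgroup V := fx V D ⊓ fx V B ⊓ fx V C with hW
  set q := Nat.card B with hq
  have hVB : q * Nat.card (fx V B) = Nat.card V := mm_eq h c hB.1
  have hVC : q * Nat.card (fx V C) = Nat.card V := by
    rw [hq, h.card_eq hB.1 hC.1]; exact mm_eq h c hC.1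
  set HB : AddSubgroup V := fx V D ⊓ fx V B with hHB
  set HC : AddSubgroup V := fx V D ⊓ fx V C with hHC
  have hWe : HB ⊓ HC = W := by
    rw [hW, hHB, hHC]
    apply le_antisymm
    · exact le_inf inf_le_left (inf_le_right.trans inf_le_right)
    · exact le_inf inf_le_left (le_inf (inf_le_left.trans inf_le_left) inf_le_right)
  have hqpos : 0 < q := Nat.card_pos
  have hlow : ∀ F : Subgroup X, q * Nat.card (fx V F) = Nat.card V →
      Nat.card (fx V D) ≤ q * Nat.card (fx V D ⊓ fx V F : AddSubgroup V) := by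
    intro F hF
    have e := card_sup_inf (fx V D) (fx V F)
    apply Nat.le_of_mul_le_mul_right _ (card_pos (fx V F))
    rw [← e]
    calc Nat.card (fx V D ⊔ fx V F : AddSubgroup V) * Nat.card (fx V D ⊓ fx V F : AddSubgroup V)
        ≤ Nat.card V * Nat.card (fx V D ⊓ fx V F : AddSubgroup V) := Nat.mul_le_mul_right _ (card_le_top _)
      _ = _ := by rw [← hF]; ring
  have h1 := hlow B hVB
  have h2 := hlow C hVC
  rw [hD] at h1 h2
  have h1' : q * Nat.card W ≤ Nat.card HB := by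
    apply Nat.le_of_mul_le_mul_left _ hqpos
    rw [← mul_assoc]; exact h1
  have h2' : q * Nat.card W ≤ Nat.card HC := by
    apply Nat.le_of_mul_le_mul_left _ hqpos
    rw [← mul_assoc]; exact h2
  have e := card_sup_inf HB HC
  rw [hWe] at e
  have hsup : HB ⊔ HC ≤ fx V D := sup_le inf_le_left inf_le_left
  -- |HB| |HC| ≤ |fx D| |W| = q² |W|²
  have h3 : Nat.card HB * Nat.card HC ≤ (q * Nat.card W) * (q * Nat.card W) := by
    rw [← e]
    calc Nat.card (HB ⊔ HC : AddSubgroup V) * Nat.card W ≤ Nat.card (fx V D) * Nat.card W :=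
          Nat.mul_le_mul_right _ (card_le hsup)
      _ = _ := by rw [hD]; ring
  have hpos : 0 < q * Nat.card W := Nat.mul_pos hqpos (card_pos W)
  have h4 : Nat.card HB = q * Nat.card W := by
    apply le_antisymm _ h1'
    apply Nat.le_of_mul_le_mul_right _ hpos
    exact (Nat.mul_le_mul_left _ h2').trans h3
  have h5 : Nat.card HC = q * Nat.card W := by
    apply le_antisymm _ h2'
    apply Nat.le_of_mul_le_mul_left _ hpos
    exact (Nat.mul_le_mul_right _ h1').trans h3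
  refine ⟨?_, h4, h5⟩
  apply eq_of_card_le hsup
  apply Nat.le_of_mul_le_mul_right _ (card_pos W)
  rw [e, h4, h5, hD]
  apply le_of_eq; ring

/-- half of the covering lemma -/
theorem cover_half {B C : Subgroup X} (hB : B ∈ AN 𝒟 D) (hC : C ∈ AN 𝒟 D) (hne : pp pt D C ≠ pp pt D B)
    {W₁ : AddSubgroup V} (h1 : W₁ ≤ fx V D) (hinv : Iv B W₁) {w : V} (hw : w ∈ W₁) (hwB : w ∉ fx V B) :
    fx V D ⊓ fx V B ≤ W₁ ⊔ (fx V D ⊓ fx V B ⊓ fx V C) := by
  obtain ⟨_, hD, h3⟩ := pair_basic h c hB hC hne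
  obtain ⟨_, hHB, _⟩ := halves h c hB hC hne
  set W : AddSubgroup V := fx V D ⊓ fx V B ⊓ fx V C with hW
  set HB : AddSubgroup V := fx V D ⊓ fx V B with hHBd
  have hWB : W ≤ HB := inf_le_left
  have hle : (W₁ ⊓ HB) ⊔ W ≤ HB := sup_le inf_le_right hWB
  have hcard : Nat.card B * Nat.card W ≤ Nat.card (⊥ : Subgroup X) * Nat.card ((W₁ ⊓ HB) ⊔ W : AddSubgroup V) := by
    apply card_fib le_sup_right (fun b => b • w - w)
    · intro b hb
      apply (le_sup_left : W₁ ⊓ HB ≤ (W₁ ⊓ HB) ⊔ W)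
      refine ⟨W₁.sub_mem (hinv b hb w hw) hw, ?_, ?_⟩
      · exact (fx V D).sub_mem (fx_inv (hB.2.1 hb) (h1 hw)) (h1 hw)
      · exact fun b' hb' => h.quad B hB.1 b hb b' hb' w
    · intro a ha b hb hab
      rw [Subgroup.mem_bot]
      by_contra hn
      apply hwB
      apply h3 _ (B.mul_mem (B.inv_mem hb) ha) hn w (h1 hw)
      have h4 : (a • w - b • w : V) ∈ W := by convert hab using 1; abel
      have h5 : b⁻¹ • (a • w - b • w) = a • w - b • w := h4.1.2 b⁻¹ (B.inv_mem hb)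
      rw [smul_sub, smul_smul, inv_smul_smul] at h5
      rw [h5]; exact h4
  rw [Subgroup.card_bot, one_mul, ← hHB] at hcard
  have h6 : (W₁ ⊓ HB) ⊔ W = HB := eq_of_card_le hle hcard
  rw [← h6]
  exact sup_le_sup_right inf_le_left W

/-- the covering lemma -/
theorem cover {B C : Subgroup X} (hB : B ∈ AN 𝒟 D) (hC : C ∈ AN 𝒟 D) (hne : pp pt D C ≠ pp pt D B)
    {W₁ : AddSubgroup V} (h1 : W₁ ≤ fx V D) (hinvB : Iv B W₁) (hinvC : Iv C W₁) (hn : ¬ W₁ ≤ fx V B ⊓ fx V C) :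
    fx V D ≤ W₁ ⊔ (fx V D ⊓ fx V B ⊓ fx V C) := by
  have hsymm : fx V D ⊓ fx V C ⊓ fx V B = fx V D ⊓ fx V B ⊓ fx V C := inf_right_comm _ _ _
  have key1 : (∃ w ∈ W₁, w ∉ fx V B) → fx V D ⊓ fx V B ≤ W₁ ⊔ (fx V D ⊓ fx V B ⊓ fx V C) := by
    rintro ⟨w, hw, hwB⟩
    exact cover_half h c hB hC hne h1 hinvB hw hwB
  have key2 : (∃ w ∈ W₁, w ∉ fx V C) → fx V D ⊓ fx V C ≤ W₁ ⊔ (fx V D ⊓ fx V B ⊓ fx V C) := by
    rintro ⟨w, hw, hwC⟩
    have := cover_half h c hC hB (Ne.symm hne) h1 hinvC hw hwC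
    rwa [hsymm] at this
  obtain ⟨hsup, hHB, hHC⟩ := halves h c hB hC hne
  have h2 : 2 ≤ Nat.card B := h.two_le hB.1
  have hpos := card_pos (fx V D ⊓ fx V B ⊓ fx V C : AddSubgroup V)
  have imp1 : (∃ w ∈ W₁, w ∉ fx V B) → ∃ w ∈ W₁, w ∉ fx V C := by
    intro hw
    have h3 := key1 hw
    by_contra hcon
    push Not at hcon
    have h4 : fx V D ⊓ fx V B ≤ fx V C := h3.trans (sup_le hcon inf_le_right)
    have h5 := card_le (le_inf le_rfl h4 : fx V D ⊓ fx V B ≤ fx V D ⊓ fx V B ⊓ fx V C)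
    rw [hHB] at h5
    nlinarith
  have imp2 : (∃ w ∈ W₁, w ∉ fx V C) → ∃ w ∈ W₁, w ∉ fx V B := by
    intro hw
    have h3 := key2 hw
    by_contra hcon
    push Not at hcon
    have h4 : fx V D ⊓ fx V C ≤ fx V B := h3.trans (sup_le hcon (inf_le_left.trans inf_le_right))
    have h5 := card_le (le_inf le_rfl h4 : fx V D ⊓ fx V C ≤ fx V D ⊓ fx V C ⊓ fx V B)
    rw [hsymm, hHC] at h5
    nlinarith
  have hex : ∃ w ∈ W₁, w ∉ fx V B := by
    obtain ⟨w, hw, hw2⟩ := Set.not_subset.1 hn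
    by_cases hwB : w ∈ fx V B
    · apply imp2
      refine ⟨w, hw, fun hwC => hw2 ⟨hwB, hwC⟩⟩
    · exact ⟨w, hw, hwB⟩
  nth_rewrite 1 [← hsup]
  exact sup_le (key1 hex) (key2 (imp1 hex))

end Cfsg.Agent.H263.FF.Pair
end

-- part: H263/FF/Comm4
section
/-!
# FF-modules: two members of `𝒟` in a common `p`-subgroup commute, any prime
-/

set_option autoImplicit false
set_option linter.unusedSectionVars false
set_option linter.unusedVariables false

namespace Cfsg.Agent.H263.FF.Comm4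

open Cfsg.Agent.H263.FF.Basic Cfsg.Agent.H263.FF.Setup Cfsg.Agent.H263.FF.Conf
open scoped Pointwise

/-- a proper subgroup of a 2-group lies in a proper normal subgroup -/
theorem exists_normal {p : ℕ} [hp : Fact p.Prime] {X : Type*} [Group X] [Finite X] {P A : Subgroup X} (hP : IsPGroup p P) (hA : A ≤ P)
    (hne : A ≠ P) : ∃ M : Subgroup X, A ≤ M ∧ M ≤ P ∧ M ≠ P ∧ ∀ g ∈ P, cj g M = M := by
  have hnil : Group.IsNilpotent P := hP.isNilpotent
  have hAt : A.subgroupOf P ≠ ⊤ := by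
    intro e
    exact hne (le_antisymm hA (Subgroup.subgroupOf_eq_top.1 e))
  obtain ⟨M, hM, hAM⟩ : ∃ M : Subgroup P, IsCoatom M ∧ A.subgroupOf P ≤ M := by
    rcases eq_top_or_exists_le_coatom (A.subgroupOf P) with h | ⟨M, h1, h2⟩
    · exact absurd h hAt
    · exact ⟨M, h1, h2⟩
  have hn : M.Normal := Subgroup.NormalizerCondition.normal_of_coatom M
    Group.normalizerCondition_of_isNilpotent hM
  refine ⟨M.map P.subtype, ?_, ?_, ?_, ?_⟩
  · intro a ha
    exact ⟨⟨a, hA ha⟩, hAM (Subgroup.mem_subgroupOf.2 ha), rfl⟩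
  · rintro _ ⟨m, -, rfl⟩
    exact m.2
  · intro e
    apply hM.1
    rw [eq_top_iff]
    intro x _
    have : (x : X) ∈ M.map P.subtype := by rw [e]; exact x.2
    obtain ⟨m, hm, e2⟩ := this
    have : m = x := Subtype.ext e2
    rw [← this]; exact hm
  · intro g hg
    apply cj_eq_of_le
    rw [cj_le_iff]
    rintro _ ⟨m, hm, rfl⟩
    exact ⟨⟨g, hg⟩ * m * ⟨g, hg⟩⁻¹, hn.conj_mem m hm _, rfl⟩

variable {p : ℕ} [hp : Fact p.Prime]
variable {X : Type*} [Group X] [Finite X] {V : Type*} [AddCommGroup V] [Finite V] [DistribMulAction X V]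
variable {pt : Sylow p X → Subgroup X} {𝒟 : Set (Subgroup X)} {D : Subgroup X} (h : Hyp p V pt 𝒟)
  (c : Cfg p pt 𝒟 D)
include h c

theorem inf_bot {A B : Subgroup X} (hA : A ∈ 𝒟) (hB : B ∈ 𝒟) (hne : A ≠ B) : A ⊓ B = ⊥ := by
  rw [Subgroup.eq_bot_iff_forall]
  rintro x ⟨hxA, hxB⟩
  by_contra hx
  apply hne
  apply Pair.ax h c hA hB
  apply le_antisymm
  · intro v hv
    exact Pair.ti h.toHyp0 c hB hxB hx (hv x hxA)
  · intro v hv
    exact Pair.ti h.toHyp0 c hA hxA hx (hv x hxB)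

/-- the lower bound -/
theorem card_inf_ge {A B : Subgroup X} (hA : A ∈ 𝒟) (hB : B ∈ 𝒟) :
    Nat.card V ≤ Nat.card A * Nat.card A * Nat.card (fx V A ⊓ fx V B : AddSubgroup V) := by
  have e1 := Pair.mm_eq h.toHyp0 c hA
  have e2 := Pair.mm_eq h.toHyp0 c hB
  rw [mm] at e1 e2
  rw [← h.card_eq hA hB] at e2
  have e3 := card_sup_inf (fx V A) (fx V B)
  have e4 := card_le_top (fx V A ⊔ fx V B)
  have hpos : 0 < Nat.card V := Nat.card_pos
  apply Nat.le_of_mul_le_mul_left _ hpos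
  calc Nat.card V * Nat.card V = (Nat.card A * Nat.card A) * (Nat.card (fx V A) * Nat.card (fx V B)) := by
        nth_rewrite 1 [← e1]; rw [← e2]; ring
    _ = (Nat.card A * Nat.card A) * (Nat.card (fx V A ⊔ fx V B : AddSubgroup V) *
        Nat.card (fx V A ⊓ fx V B : AddSubgroup V)) := by rw [e3]
    _ ≤ (Nat.card A * Nat.card A) * (Nat.card V * Nat.card (fx V A ⊓ fx V B : AddSubgroup V)) :=
        Nat.mul_le_mul_left _ (Nat.mul_le_mul_right _ e4)
    _ = _ := by ring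

/-- (3) -/
theorem card_inf {A B : Subgroup X} (hA : A ∈ 𝒟) (hB : B ∈ 𝒟) (hne : A ≠ B)
    (hc : ∀ a ∈ A, ∀ b ∈ B, a * b = b * a) :
    Nat.card A * Nat.card A * Nat.card (fx V A ⊓ fx V B : AddSubgroup V) = Nat.card V ∧
      fx V A ⊔ fx V B = ⊤ := by
  have h1 := Pair.no h c _ (Pair.EA_sup (h.ea A hA) (h.ea B hB) hc)
  rw [mm, fx_sup] at h1
  have h2 : Nat.card A * Nat.card A ≤ Nat.card (A ⊔ B : Subgroup X) := by
    nth_rewrite 2 [h.card_eq hA hB]
    rw [← Nat.card_prod]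
    refine Nat.card_le_card_of_injective
      (fun x : A × B => (⟨(x.1 : X) * x.2, Subgroup.mul_mem _ (Subgroup.mem_sup_left x.1.2)
        (Subgroup.mem_sup_right x.2.2)⟩ : (A ⊔ B : Subgroup X))) ?_
    rintro ⟨a, b⟩ ⟨a', b'⟩ e
    have e1 : (a : X) * b = a' * b' := congrArg Subtype.val e
    have e2 : (a' : X)⁻¹ * a = b' * (b : X)⁻¹ := by
      rw [inv_mul_eq_iff_eq_mul, ← mul_assoc, ← e1]; group
    have e3 : (a' : X)⁻¹ * a ∈ A ⊓ B := by
      refine Subgroup.mem_inf.2 ⟨A.mul_mem (A.inv_mem a'.2) a.2, ?_⟩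
      rw [e2]; exact B.mul_mem b'.2 (B.inv_mem b.2)
    rw [inf_bot h c hA hB hne, Subgroup.mem_bot, inv_mul_eq_one] at e3
    have e4 : (b : X) = b' := by
      rw [e3] at e1
      exact mul_left_cancel e1
    exact Prod.ext (Subtype.ext e3.symm) (Subtype.ext e4)
  have h3 := card_inf_ge h c hA hB
  have h4 : Nat.card A * Nat.card A * Nat.card (fx V A ⊓ fx V B : AddSubgroup V) = Nat.card V :=
    le_antisymm ((Nat.mul_le_mul_right _ h2).trans h1) h3
  refine ⟨h4, ?_⟩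
  apply eq_of_card_le le_top
  rw [card_top]
  have e1 := Pair.mm_eq h.toHyp0 c hA
  have e2 := Pair.mm_eq h.toHyp0 c hB
  rw [mm] at e1 e2
  rw [← h.card_eq hA hB] at e2
  have e3 := card_sup_inf (fx V A) (fx V B)
  have hq : 0 < Nat.card A * Nat.card A := Nat.mul_pos Nat.card_pos Nat.card_pos
  have hi := card_pos (fx V A ⊓ fx V B : AddSubgroup V)
  apply Nat.le_of_mul_le_mul_right _ (Nat.mul_pos hq hi)
  apply le_of_eq
  calc Nat.card V * (Nat.card A * Nat.card A * Nat.card (fx V A ⊓ fx V B : AddSubgroup V)) =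
        Nat.card V * Nat.card V := by rw [h4]
    _ = (Nat.card A * Nat.card A) * (Nat.card (fx V A) * Nat.card (fx V B)) := by
        nth_rewrite 1 [← e1]; rw [← e2]; ring
    _ = (Nat.card A * Nat.card A) * (Nat.card (fx V A ⊔ fx V B : AddSubgroup V) *
        Nat.card (fx V A ⊓ fx V B : AddSubgroup V)) := by rw [e3]
    _ = _ := by ring

omit c in
/-- `A` normalises `B`, `A` commutes with `A^b ≠ A` -/
theorem comm_of {A B : Subgroup X} (hA : A ∈ 𝒟) (hB : B ∈ 𝒟) (hn : ∀ a ∈ A, cj a B = B) {b₀ : X} (hb₀ : b₀ ∈ B)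
    (hi : A ⊓ cj b₀ A = ⊥) (hc : ∀ a ∈ A, ∀ x ∈ cj b₀ A, a * x = x * a) : ∀ a ∈ A, ∀ b ∈ B, a * b = b * a := by
  have hf : ∀ a ∈ A, a⁻¹ * (b₀ * a * b₀⁻¹) ∈ B := by
    intro a ha
    have h1 : a⁻¹ * b₀ * a ∈ B := by
      have := hn a ha
      rw [← this, mem_cj] at hb₀
      exact hb₀
    have h2 := B.mul_mem h1 (B.inv_mem hb₀)
    convert h2 using 1; group
  let f : A → B := fun a => ⟨(a : X)⁻¹ * (b₀ * a * b₀⁻¹), hf a a.2⟩
  have hinj : Function.Injective f := by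
    intro a a' e
    have e1 : (a : X)⁻¹ * (b₀ * a * b₀⁻¹) = (a' : X)⁻¹ * (b₀ * a' * b₀⁻¹) := congrArg Subtype.val e
    have e2 : (a' : X) * (a : X)⁻¹ = b₀ * ((a' : X) * (a : X)⁻¹) * b₀⁻¹ := by
      have e3 : (a' : X) * ((a : X)⁻¹ * (b₀ * a * b₀⁻¹)) * (b₀ * (a : X)⁻¹ * b₀⁻¹) =
          (a' : X) * ((a' : X)⁻¹ * (b₀ * a' * b₀⁻¹)) * (b₀ * (a : X)⁻¹ * b₀⁻¹) := by rw [e1]
      have e4 : (a' : X) * ((a : X)⁻¹ * (b₀ * a * b₀⁻¹)) * (b₀ * (a : X)⁻¹ * b₀⁻¹) = a' * (a : X)⁻¹ := by group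
      have e5 : (a' : X) * ((a' : X)⁻¹ * (b₀ * a' * b₀⁻¹)) * (b₀ * (a : X)⁻¹ * b₀⁻¹) =
          b₀ * ((a' : X) * (a : X)⁻¹) * b₀⁻¹ := by group
      exact e4.symm.trans (e3.trans e5)
    have e3 : (a' : X) * (a : X)⁻¹ ∈ A ⊓ cj b₀ A := by
      refine Subgroup.mem_inf.2 ⟨A.mul_mem a'.2 (A.inv_mem a.2), ?_⟩
      rw [e2]
      exact mem_cj_of (A.mul_mem a'.2 (A.inv_mem a.2))
    rw [hi, Subgroup.mem_bot, mul_inv_eq_one] at e3
    exact Subtype.ext e3.symm
  have hsurj : Function.Surjective f :=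
    ((Nat.bijective_iff_injective_and_card f).2 ⟨hinj, h.card_eq hA hB⟩).2
  intro a₁ ha₁ b hb
  obtain ⟨⟨a, ha⟩, e⟩ := hsurj ⟨b, hb⟩
  have e1 : a⁻¹ * (b₀ * a * b₀⁻¹) = b := congrArg Subtype.val e
  have e2 : a₁ * (b₀ * a * b₀⁻¹) = (b₀ * a * b₀⁻¹) * a₁ := hc a₁ ha₁ _ (mem_cj_of ha)
  have e3 : a₁ * a⁻¹ = a⁻¹ * a₁ := (h.ea A hA).comm ha₁ (A.inv_mem ha)
  rw [← e1]
  calc a₁ * (a⁻¹ * (b₀ * a * b₀⁻¹)) = (a₁ * a⁻¹) * (b₀ * a * b₀⁻¹) := by group
    _ = a⁻¹ * (a₁ * (b₀ * a * b₀⁻¹)) := by rw [e3]; group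
    _ = a⁻¹ * ((b₀ * a * b₀⁻¹) * a₁) := by rw [e2]
    _ = _ := by group

/-- half of (4) -/
theorem quad_of {A B P : Subgroup X} (hA : A ∈ 𝒟) (hB : B ∈ 𝒟) (hP : P = A ⊔ B) {b₀ : X} (hb₀ : b₀ ∈ B)
    (hne : cj b₀ A ≠ A) (hc : ∀ a ∈ A, ∀ x ∈ cj b₀ A, a * x = x * a) :
    ∀ a ∈ A, ∀ v : V, ∀ b ∈ B, b • (a • v - v) = a • v - v := by
  have hA' : cj b₀ A ∈ 𝒟 := h.conj A hA b₀
  obtain ⟨h1, h2⟩ := card_inf h c hA hA' (Ne.symm hne) hc
  have h3 := card_inf_ge h c hA hB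
  have hle : fx V A ⊓ fx V B ≤ fx V A ⊓ fx V (cj b₀ A) := by
    rw [← fx_sup, ← fx_sup]
    apply fx_anti
    apply sup_le le_sup_left
    rw [cj_le_iff]
    intro a ha
    exact Subgroup.mul_mem _ (Subgroup.mul_mem _ (Subgroup.mem_sup_right hb₀) (Subgroup.mem_sup_left ha))
      (Subgroup.inv_mem _ (Subgroup.mem_sup_right hb₀))
  have hq : 0 < Nat.card A * Nat.card A := Nat.mul_pos Nat.card_pos Nat.card_pos
  have heq : fx V A ⊓ fx V B = fx V A ⊓ fx V (cj b₀ A) := by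
    apply eq_of_card_le hle
    apply Nat.le_of_mul_le_mul_left _ hq
    rw [h1]; exact h3
  intro a ha v b hb
  have hv : v ∈ fx V A ⊔ fx V (cj b₀ A) := by rw [h2]; trivial
  obtain ⟨v₁, hv₁, v₂, hv₂, rfl⟩ := mem_sup hv
  have e : a • (v₁ + v₂) - (v₁ + v₂) = a • v₂ - v₂ := by
    rw [smul_add, hv₁ a ha]; abel
  rw [e]
  have hmem : a • v₂ - v₂ ∈ fx V A ⊓ fx V (cj b₀ A) := by
    refine AddSubgroup.mem_inf.2 ⟨fun a' ha' => h.quad A hA a ha a' ha' v₂, ?_⟩
    refine (fx V (cj b₀ A)).sub_mem ?_ hv₂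
    intro x hx
    rw [smul_smul, ← hc a ha x hx, ← smul_smul, hv₂ x hx]
  rw [← heq] at hmem
  exact hmem.2 b hb

/-- **(4)**: two members of `𝒟` in a common 2-subgroup commute. -/
theorem comm : ∀ (n : ℕ) (A : Subgroup X), A ∈ 𝒟 → ∀ B ∈ 𝒟, IsPGroup p (A ⊔ B : Subgroup X) →
    Nat.card (A ⊔ B : Subgroup X) = n → ∀ a ∈ A, ∀ b ∈ B, a * b = b * a := by
  intro n
  induction n using Nat.strong_induction_on with
  | _ n ih =>
    intro A hA B hB hP hn
    by_cases hAB : A = B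
    · subst hAB
      intro a ha b hb
      exact (h.ea A hA).comm ha hb
    have hAne : A ≠ A ⊔ B := by
      intro e
      have h1 : B ≤ A := by rw [e]; exact le_sup_right
      exact hAB (Subgroup.eq_of_le_of_card_ge h1 (h.card_eq hA hB).le).symm
    have hBne : B ≠ A ⊔ B := by
      intro e
      have h1 : A ≤ B := by rw [e]; exact le_sup_left
      exact hAB (Subgroup.eq_of_le_of_card_ge h1 (h.card_eq hB hA).le)
    -- conjugates of `A` under `P` commute with `A`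
    have key : ∀ C ∈ 𝒟, C ≤ A ⊔ B → C ≠ A ⊔ B → ∀ g ∈ A ⊔ B, ∀ a ∈ C, ∀ x ∈ cj g C, a * x = x * a := by
      intro C hC hCP hCne g hg
      obtain ⟨M, hCM, hMP, hMne, hMn⟩ := exists_normal hP hCP hCne
      have h1 : cj g C ≤ M := by
        rw [← hMn g hg]; exact cj_mono g hCM
      have h2 : C ⊔ cj g C ≤ M := sup_le hCM h1
      have h3 : Nat.card (C ⊔ cj g C : Subgroup X) < n := by
        rw [← hn]
        refine lt_of_le_of_lt (Nat.card_le_card_of_injective _ (Subgroup.inclusion_injective h2)) ?_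
        refine lt_of_le_of_ne (Nat.card_le_card_of_injective _ (Subgroup.inclusion_injective hMP)) ?_
        intro e
        exact hMne (Subgroup.eq_of_le_of_card_ge hMP e.ge)
      exact ih _ h3 C hC (cj g C) (h.conj C hC g) (hP.to_le (h2.trans hMP)) rfl
    by_cases h1 : ∃ b ∈ B, cj b A ≠ A
    · obtain ⟨b₀, hb₀, hne⟩ := h1
      have hc := key A hA le_sup_left hAne b₀ (Subgroup.mem_sup_right hb₀)
      by_cases h2 : ∃ a ∈ A, cj a B ≠ B
      · obtain ⟨a₀, ha₀, hne'⟩ := h2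
        have hc' := key B hB le_sup_right hBne a₀ (Subgroup.mem_sup_left ha₀)
        intro a ha b hb
        exact Pair.commute_of h.faith
          (fun v => quad_of h c hA hB rfl hb₀ hne hc a ha v b hb)
          (fun v => quad_of h c hB hA rfl ha₀ hne' hc' b hb v a ha)
      · push Not at h2
        exact comm_of h hA hB h2 hb₀ (inf_bot h c hA (h.conj A hA b₀) (Ne.symm hne)) hc
    · push Not at h1
      by_cases h2 : ∃ a ∈ A, cj a B ≠ B
      · obtain ⟨a₀, ha₀, hne'⟩ := h2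
        have hc' := key B hB le_sup_right hBne a₀ (Subgroup.mem_sup_left ha₀)
        have h3 := comm_of h hB hA h1 ha₀ (inf_bot h c hB (h.conj B hB a₀) (Ne.symm hne')) hc'
        intro a ha b hb
        exact (h3 b hb a ha).symm
      · push Not at h2
        intro a ha b hb
        have e1 : a * b * a⁻¹ * b⁻¹ ∈ A ⊓ B := by
          refine Subgroup.mem_inf.2 ⟨?_, ?_⟩
          · have e2 : b * a⁻¹ * b⁻¹ ∈ A := by
              rw [← h1 b hb]; exact mem_cj_of (A.inv_mem ha)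
            have e3 := A.mul_mem ha e2
            convert e3 using 1; group
          · have e2 : a * b * a⁻¹ ∈ B := by
              rw [← h2 a ha]; exact mem_cj_of hb
            exact B.mul_mem e2 (B.inv_mem hb)
        rw [inf_bot h c hA hB hAB, Subgroup.mem_bot] at e1
        have e2 : a * b = b * a := by
          have e3 : a * b * a⁻¹ * b⁻¹ * (b * a) = a * b := by group
          rw [← e3, e1, one_mul]
        exact e2

/-- Two members of `𝒟` in a common 2-subgroup commute. -/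
theorem comm' {A B P : Subgroup X} (hA : A ∈ 𝒟) (hB : B ∈ 𝒟) (hP : IsPGroup p P) (hAP : A ≤ P) (hBP : B ≤ P) :
    ∀ a ∈ A, ∀ b ∈ B, a * b = b * a :=
  comm h c _ A hA B hB (hP.to_le (sup_le hAP hBP)) rfl

end Cfsg.Agent.H263.FF.Comm4
end

-- part: H263/FF/Spread
section
/-!
# FF-modules: the spread of a pair, any prime

`B, C ∈ 𝒜_N` at different points: `B ∩ pp C = 1`, and for `1 ≠ c ∈ C` there is `b ∈ B` with
`[[v, c], b] = v` modulo `C_V(B) ∩ C_V(C)` for `v ∈ C_V(B)`.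
-/

set_option autoImplicit false
set_option linter.unusedSectionVars false
set_option linter.unusedVariables false

namespace Cfsg.Agent.H263.FF.ToLoc1

open Cfsg.Agent.H263.FF.Basic Cfsg.Agent.H263.FF.Setup Cfsg.Agent.H263.FF.Conf
open scoped Pointwise

variable {p : ℕ} [hp : Fact p.Prime]
variable {X : Type*} [Group X] [Finite X] {V : Type*} [AddCommGroup V] [Finite V] [DistribMulAction X V]
variable {pt : Sylow p X → Subgroup X} {𝒟 : Set (Subgroup X)} {D : Subgroup X} (h : Hyp0 p V pt 𝒟)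
  (c : Cfg p pt 𝒟 D)
include h c

variable {B C : Subgroup X} (hB : B ∈ AN 𝒟 D) (hC : C ∈ AN 𝒟 D) (hne : pp pt D C ≠ pp pt D B)
include hB hC hne

omit hB hC hne in
/-- the intersection does not depend on the pair -/
theorem W_eq (hB : B ∈ AN 𝒟 D) (hC : C ∈ AN 𝒟 D) (hne : pp pt D C ≠ pp pt D B)
    {B' C' : Subgroup X} (hB' : B' ∈ AN 𝒟 D) (hC' : C' ∈ AN 𝒟 D) (hne' : pp pt D C' ≠ pp pt D B')
    (h1 : B' ≤ D ⊔ B ⊔ C) (h2 : C' ≤ D ⊔ B ⊔ C) :
    fx V D ⊓ fx V B' ⊓ fx V C' = fx V D ⊓ fx V B ⊓ fx V C := by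
  symm
  have hle : fx V D ⊓ fx V B ⊓ fx V C ≤ fx V D ⊓ fx V B' ⊓ fx V C' := by
    rw [← fx_sup, ← fx_sup, ← fx_sup, ← fx_sup]
    apply fx_anti
    exact sup_le (sup_le (le_sup_left.trans le_sup_left) h1) h2
  apply eq_of_card_le hle
  have e1 := (Pair.pair_basic h c hB hC hne).2.1
  have e2 := (Pair.pair_basic h c hB' hC' hne').2.1
  rw [h.card_eq hB'.1 hB.1, e1] at e2
  have hq : 0 < Nat.card B * Nat.card B := Nat.mul_pos Nat.card_pos Nat.card_pos
  exact (Nat.eq_of_mul_eq_mul_left hq e2).ge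

/-- `Y` normalises `D` -/
theorem Y_le : D ⊔ B ⊔ C ≤ Subgroup.normalizer (D : Set X) :=
  sup_le (sup_le Subgroup.le_normalizer hB.2.1) hC.2.1

/-- (reg) -/
theorem reg {b : X} (hb : b ∈ B) (hbC : b ∈ pp pt D C) : b = 1 := by
  by_contra hb1
  set Y := D ⊔ B ⊔ C with hY
  have hYn : Y ≤ Subgroup.normalizer (D : Set X) := Y_le h c hB hC hne
  have hDY : D ≤ Y := le_sup_left.trans le_sup_left
  have hBY : B ≤ Y := le_sup_right.trans le_sup_left
  have hCY : C ≤ Y := le_sup_right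
  set W : AddSubgroup V := fx V D ⊓ fx V B ⊓ fx V C with hW
  have hWY : ∀ w ∈ W, ∀ y ∈ Y, y • w = w := by
    intro w hw y hy
    have : w ∈ fx V (D ⊔ B ⊔ C) := by rw [fx_sup, fx_sup]; exact hw
    exact this y hy
  set P := Y ⊓ pp pt D C with hP
  have hDC : D ⊔ C ≤ P := le_inf (sup_le hDY hCY) (Min.le_pp h c hC)
  -- a Sylow p-subgroup of `P` over `D ⊔ C`
  have hDC2 : IsPGroup p (D ⊔ C : Subgroup X) := isPGroup_sup c.pg (h.ea C hC.1).isPGroup hC.2.1
  obtain ⟨S, hS⟩ := (hDC2.comap_subtype (H := D ⊔ C) (K := P) :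
    IsPGroup p ((D ⊔ C).subgroupOf P)).exists_le_sylow
  have hbP : b ∈ P := ⟨hBY hb, hbC⟩
  have hz : IsPGroup p (Subgroup.zpowers b) := by
    apply (h.ea B hB.1).isPGroup.to_le
    exact Subgroup.zpowers_le.2 hb
  obtain ⟨S', hS'⟩ := (hz.comap_subtype (H := Subgroup.zpowers b) (K := P) :
    IsPGroup p ((Subgroup.zpowers b).subgroupOf P)).exists_le_sylow
  obtain ⟨y, hy⟩ := MulAction.exists_smul_eq P S S'
  set R : Subgroup X := (S' : Subgroup P).map P.subtype with hR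
  have hR2 : IsPGroup p R := S'.isPGroup'.map _
  have hRY : R ≤ Y := by
    rintro _ ⟨r, -, rfl⟩
    exact r.2.1
  have hbR : b ∈ R := ⟨⟨b, hbP⟩, hS' (Subgroup.mem_subgroupOf.2 (Subgroup.mem_zpowers b)), rfl⟩
  have hyY : (y : X) ∈ Y := y.2.1
  have hcjR : cj (y : X) (D ⊔ C) ≤ R := by
    rw [cj_le_iff]
    intro x hx
    have h1 : (⟨x, hDC hx⟩ : P) ∈ (S : Subgroup P) := hS (Subgroup.mem_subgroupOf.2 hx)
    have h2 : y * ⟨x, hDC hx⟩ * y⁻¹ ∈ (S' : Subgroup P) := by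
      rw [← hy]
      exact ⟨⟨x, hDC hx⟩, h1, rfl⟩
    exact ⟨_, h2, rfl⟩
  rw [cj_sup] at hcjR
  set C' := cj (y : X) C with hC'
  have hyn : (y : X) ∈ Subgroup.normalizer (D : Set X) := hYn hyY
  have hC'A : C' ∈ AN 𝒟 D := mem_AN_cj h hC hyn
  have hC'Y : C' ≤ Y := by
    rw [← cj_eq_self_of_mem hyY]; exact cj_mono _ hCY
  have hppC' : pp pt D C' = pp pt D C := by
    rw [hC', Min.pp_cj h c hC hyn, cj_eq_self_of_mem y.2.2]
  have hne' : pp pt D C' ≠ pp pt D B := by rw [hppC']; exact hne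
  have hWe : fx V D ⊓ fx V B ⊓ fx V C' = W := W_eq h c hB hC hne hB hC'A hne' hBY hC'Y
  -- a fixed vector
  have hD := (Pair.pair_basic h c hB hC hne).2.1
  have hnle : ¬ fx V D ≤ W := by
    intro hle
    have h1 := card_le hle
    rw [hD, ← hW] at h1
    have h2 := h.two_le hB.1
    have h3 := card_pos W
    have h4 : 2 * 2 * Nat.card W ≤ Nat.card B * Nat.card B * Nat.card W :=
      Nat.mul_le_mul_right _ (Nat.mul_le_mul h2 h2)
    omega
  obtain ⟨v, hv, hvW, hvR⟩ := exists_fixed (V := V) hR2 (H := fx V D) (K := W) h.h2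
    (fun t ht w hw => by rw [hWY w hw t (hRY ht)]; exact hw)
    (fun t ht w hw => Pair.fx_inv (hYn (hRY ht)) hw) (inf_le_left.trans inf_le_left) hnle
  apply hvW
  have h1 : v ∈ fx V B := (Pair.pair_basic h c hB hC hne).2.2 b hb hb1 v hv (hvR b hbR)
  have h2 : v ∈ fx V C' := by
    obtain ⟨c', hc', hc'1⟩ : ∃ c' ∈ C', c' ≠ 1 := by
      have := h.nb C' hC'A.1
      rw [Ne, Subgroup.eq_bot_iff_forall] at this
      push Not at this
      exact this
    apply (Pair.pair_basic h c hC'A hB (Ne.symm hne')).2.2 c' hc' hc'1 v hv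
    rw [inf_right_comm, hWe]
    exact hvR c' (hcjR (Subgroup.mem_sup_right hc'))
  rw [← hWe]
  exact ⟨⟨hv, h1⟩, h2⟩

/-- cardinality of the intersection of the centralisers in `V` -/
theorem card_U : Nat.card V = Nat.card B * Nat.card B * Nat.card (fx V B ⊓ fx V C : AddSubgroup V) ∧
    fx V B ⊔ fx V C = ⊤ := by
  obtain ⟨h1, h2, -⟩ := Pair.pair_basic h c hB hC hne
  have e1 := card_sup_inf (fx V D) (fx V B ⊓ fx V C)
  rw [h1, card_top, ← inf_assoc, h2] at e1
  have hpos := card_pos (fx V D ⊓ fx V B ⊓ fx V C : AddSubgroup V)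
  have e2 : Nat.card V = Nat.card B * Nat.card B * Nat.card (fx V B ⊓ fx V C : AddSubgroup V) := by
    apply Nat.eq_of_mul_eq_mul_right hpos
    rw [e1]; ring
  refine ⟨e2, ?_⟩
  apply eq_of_card_le le_top
  rw [card_top]
  have hVB : Nat.card B * Nat.card (fx V B) = Nat.card V := Pair.mm_eq h c hB.1
  have hVC : Nat.card B * Nat.card (fx V C) = Nat.card V := by
    rw [h.card_eq hB.1 hC.1]; exact Pair.mm_eq h c hC.1
  have e3 := card_sup_inf (fx V B) (fx V C)
  have hU := card_pos (fx V B ⊓ fx V C : AddSubgroup V)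
  have hq : 0 < Nat.card B := Nat.card_pos
  apply Nat.le_of_mul_le_mul_right _ (Nat.mul_pos (Nat.mul_pos hq hq) hU)
  apply le_of_eq
  calc Nat.card V * (Nat.card B * Nat.card B * Nat.card (fx V B ⊓ fx V C : AddSubgroup V)) =
        Nat.card V * Nat.card V := by rw [← e2]
    _ = (Nat.card B * Nat.card B) * (Nat.card (fx V B) * Nat.card (fx V C)) := by
        nth_rewrite 1 [← hVB]; rw [← hVC]; ring
    _ = (Nat.card B * Nat.card B) * (Nat.card (fx V B ⊔ fx V C : AddSubgroup V) *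
        Nat.card (fx V B ⊓ fx V C : AddSubgroup V)) := by rw [e3]
    _ = _ := by ring

/-- `b ↦ [x, b]` is surjective modulo `W` -/
theorem exists_comm {x y : V} (hx : x ∈ fx V D ⊓ fx V C) (hxW : x ∉ fx V B) (hy : y ∈ fx V D ⊓ fx V B) :
    ∃ b ∈ B, b • x - x - y ∈ fx V D ⊓ fx V B ⊓ fx V C := by
  classical
  obtain ⟨_, hHB, _⟩ := Pair.halves h c hB hC hne
  set W : AddSubgroup V := fx V D ⊓ fx V B ⊓ fx V C with hW
  set HB : AddSubgroup V := fx V D ⊓ fx V B with hHBd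
  have hWB : W ≤ HB := inf_le_left
  have hmem : ∀ b ∈ B, b • x - x ∈ HB := by
    intro b hb
    exact ⟨(fx V D).sub_mem (Pair.fx_inv (hB.2.1 hb) hx.1) hx.1, fun b' hb' => h.quad B hB.1 b hb b' hb' x⟩
  let f : B → HB ⧸ W.addSubgroupOf HB := fun b => QuotientAddGroup.mk ⟨(b : X) • x - x, hmem b b.2⟩
  have hinj : Function.Injective f := by
    intro a b hab
    by_contra hn
    apply hxW
    have h1 := QuotientAddGroup.eq.1 hab
    rw [AddSubgroup.mem_addSubgroupOf] at h1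
    have h2 : ((a : X) • x - (b : X) • x : V) ∈ W := by
      have h3 := W.neg_mem h1
      convert h3 using 1
      change (a : X) • x - (b : X) • x = -(-((a : X) • x - x) + ((b : X) • x - x))
      abel
    have hne1 : (b : X)⁻¹ * a ≠ 1 := by
      intro e
      apply hn
      rw [inv_mul_eq_one] at e
      exact Subtype.ext e.symm
    apply (Pair.pair_basic h c hB hC hne).2.2 _ (B.mul_mem (B.inv_mem b.2) a.2) hne1 x hx.1
    have h5 : (b : X)⁻¹ • ((a : X) • x - (b : X) • x) = (a : X) • x - (b : X) • x := h2.1.2 _ (B.inv_mem b.2)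
    rw [smul_sub, smul_smul, inv_smul_smul] at h5
    rw [h5]; exact h2
  have hcard : Nat.card B = Nat.card (HB ⧸ W.addSubgroupOf HB) := by
    have e1 := card_mul_relIndex hWB
    rw [hHB] at e1
    have e2 : W.relIndex HB = Nat.card B := by
      apply Nat.eq_of_mul_eq_mul_left (card_pos W)
      rw [e1]; ring
    rw [← e2]; rfl
  have hsurj : Function.Surjective f := ((Nat.bijective_iff_injective_and_card f).2 ⟨hinj, hcard⟩).2
  obtain ⟨⟨b, hb⟩, e⟩ := hsurj (QuotientAddGroup.mk ⟨y, hy⟩)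
  refine ⟨b, hb, ?_⟩
  have h1 := QuotientAddGroup.eq.1 e
  rw [AddSubgroup.mem_addSubgroupOf] at h1
  have h3 := W.neg_mem h1
  convert h3 using 1
  change b • x - x - y = -(-(b • x - x) + y)
  abel

/-- the two twisted members have the same point -/
theorem point_eq {g b : X} (hg : g ∈ C) (hb : b ∈ B) {y : V} (hy : y ∈ fx V D ⊓ fx V B) (hyC : y ∉ fx V C)
    (hb2 : b • (g • y - y) - (g • y - y) - y ∈ fx V D ⊓ fx V B ⊓ fx V C) :
    pp pt D (cj b C) = pp pt D (cj g B) := by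
  by_contra hcon
  have hYn : D ⊔ B ⊔ C ≤ Subgroup.normalizer (D : Set X) := Y_le h c hB hC hne
  have hbY : b ∈ D ⊔ B ⊔ C := Subgroup.mem_sup_left (Subgroup.mem_sup_right hb)
  have hgY : g ∈ D ⊔ B ⊔ C := Subgroup.mem_sup_right hg
  have hB' : cj g B ∈ AN 𝒟 D := mem_AN_cj h hB (hYn hgY)
  have hC' : cj b C ∈ AN 𝒟 D := mem_AN_cj h hC (hYn hbY)
  have hB'Y : cj g B ≤ D ⊔ B ⊔ C := by
    rw [← cj_eq_self_of_mem hgY]; exact cj_mono _ (le_sup_right.trans le_sup_left)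
  have hC'Y : cj b C ≤ D ⊔ B ⊔ C := by
    rw [← cj_eq_self_of_mem hbY]; exact cj_mono _ le_sup_right
  have hWe := W_eq h c hB hC hne hB' hC' hcon hB'Y hC'Y
  have hgyD : g • y ∈ fx V D := Pair.fx_inv (hYn hgY) hy.1
  have h1 : g • y ∈ fx V (cj g B) := smul_mem_fx_cj hy.2
  -- `x = [y, g]`
  set x : V := g • y - y with hx
  have hxC : x ∈ fx V C := fun c' hc' => h.quad C hC.1 g hg c' hc' y
  set w : V := b • x - x - y with hw
  have hbx : b • x = g • y + w := by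
    rw [hw, hx]; abel
  have h2 : b • x ∈ fx V (cj b C) := smul_mem_fx_cj hxC
  have hwC' : w ∈ fx V D ⊓ fx V (cj g B) ⊓ fx V (cj b C) := by rw [hWe]; exact hb2
  have h3 : g • y ∈ fx V (cj b C) := by
    have e : g • y = b • x - w := by rw [hbx]; abel
    rw [e]
    exact (fx V (cj b C)).sub_mem h2 hwC'.2
  have h4 : g • y ∈ fx V D ⊓ fx V B ⊓ fx V C := by
    rw [← hWe]; exact ⟨⟨hgyD, h1⟩, h3⟩
  apply hyC
  have h5 : g⁻¹ • (g • y) = g • y := h4.2 g⁻¹ (C.inv_mem hg)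
  rw [inv_smul_smul] at h5
  rw [h5]; exact h4.2

/-- the spread, on `C_V(B)` -/
theorem spread {g : X} (hg : g ∈ C) (hg1 : g ≠ 1) : ∃ b ∈ B, ∀ u ∈ fx V B,
    b • (g • u - u) - (g • u - u) - u ∈ fx V B ⊓ fx V C := by
  have hYn : D ⊔ B ⊔ C ≤ Subgroup.normalizer (D : Set X) := Y_le h c hB hC hne
  obtain ⟨_, hHB, _⟩ := Pair.halves h c hB hC hne
  have hsymm : fx V D ⊓ fx V C ⊓ fx V B = fx V D ⊓ fx V B ⊓ fx V C := inf_right_comm _ _ _
  have hWU : fx V D ⊓ fx V B ⊓ fx V C ≤ fx V B ⊓ fx V C := inf_le_inf_right _ inf_le_right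
  -- for every `y` there is a `b`
  have hex : ∀ y ∈ fx V D ⊓ fx V B, y ∉ fx V C → ∃ b ∈ B,
      b • (g • y - y) - (g • y - y) - y ∈ fx V D ⊓ fx V B ⊓ fx V C := by
    intro y hy hyC
    apply exists_comm h c hB hC hne _ _ hy
    · exact ⟨(fx V D).sub_mem (Pair.fx_inv (hC.2.1 hg) hy.1) hy.1,
        fun c' hc' => h.quad C hC.1 g hg c' hc' y⟩
    · intro hxB
      apply hyC
      -- `[y, g] ∈ C_V(B)`, so `[y, g] = 0`
      have e := Pair.p3 h c hC hB (Ne.symm hne) hg hxB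
      exact Pair.ti h c hC.1 hg hg1 e
  -- a vector `y₀`
  obtain ⟨y₀, hy₀, hy₀C⟩ : ∃ y ∈ fx V D ⊓ fx V B, y ∉ fx V C := by
    by_contra hcon
    push Not at hcon
    have h5 := card_le (le_inf le_rfl hcon : fx V D ⊓ fx V B ≤ fx V D ⊓ fx V B ⊓ fx V C)
    rw [hHB] at h5
    have h6 := h.two_le hB.1
    have h7 := card_pos (fx V D ⊓ fx V B ⊓ fx V C : AddSubgroup V)
    have h8 : 2 * Nat.card (fx V D ⊓ fx V B ⊓ fx V C : AddSubgroup V) ≤
        Nat.card B * Nat.card (fx V D ⊓ fx V B ⊓ fx V C : AddSubgroup V) := Nat.mul_le_mul_right _ h6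
    omega
  obtain ⟨b, hb, hb0⟩ := hex y₀ hy₀ hy₀C
  have hp0 := point_eq h c hB hC hne hg hb hy₀ hy₀C hb0
  -- `b` works for all `y`
  have key : ∀ y ∈ fx V D ⊓ fx V B, b • (g • y - y) - (g • y - y) - y ∈ fx V D ⊓ fx V B ⊓ fx V C := by
    intro y hy
    by_cases hyC : y ∈ fx V C
    · have e : g • y - y = 0 := by rw [hyC g hg, sub_self]
      rw [e, smul_zero, sub_zero, zero_sub]
      exact AddSubgroup.neg_mem _ ⟨hy, hyC⟩
    · obtain ⟨b', hb', hb1⟩ := hex y hy hyC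
      have hp := point_eq h c hB hC hne hg hb' hy hyC hb1
      rw [← hp0, Min.pp_cj h c hC (hB.2.1 hb), Min.pp_cj h c hC (hB.2.1 hb')] at hp
      have h1 : cj (b⁻¹ * b') (pp pt D C) = pp pt D C := by
        rw [← cj_cj, hp, cj_inv_cj]
      have h2 : b⁻¹ * b' ∈ pp pt D C := Min.mem_pp_of_cj h c hC h1
      have h3 := reg h c hB hC hne (B.mul_mem (B.inv_mem hb) hb') h2
      rw [inv_mul_eq_one] at h3
      rw [h3]; exact hb1
  refine ⟨b, hb, ?_⟩
  intro u hu
  obtain ⟨d, hd, u₀, hu₀B, hu₀C, rfl⟩ := Pair.mem_sup' h c hB hC hne u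
  have hdB : d ∈ fx V B := by
    have e : d = (d + u₀) - u₀ := by abel
    rw [e]; exact (fx V B).sub_mem hu hu₀B
  have h1 := key d ⟨hd, hdB⟩
  have e1 : g • (d + u₀) - (d + u₀) = g • d - d := by
    rw [smul_add, hu₀C g hg]; abel
  rw [e1]
  have e2 : b • (g • d - d) - (g • d - d) - (d + u₀) = (b • (g • d - d) - (g • d - d) - d) - u₀ := by abel
  rw [e2]
  exact AddSubgroup.sub_mem _ (hWU h1) ⟨hu₀B, hu₀C⟩

/-- `[v, b] ∈ U` -/
theorem inj {b : X} (hb : b ∈ B) {v : V} (hv : v ∈ fx V C) (hbv : b • v - v ∈ fx V B ⊓ fx V C) :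
    b = 1 ∨ v ∈ fx V B ⊓ fx V C := by
  by_cases hb1 : b = 1
  · exact Or.inl hb1
  right
  exact ⟨Pair.ti h c hB.1 hb hb1 (Pair.p3 h c hB hC hne hb hbv.2), hv⟩

theorem relIndex_eq : Nat.card (fx V C) = Nat.card B * Nat.card (fx V B ⊓ fx V C : AddSubgroup V) := by
  obtain ⟨e1, -⟩ := card_U h c hB hC hne
  have hVC : Nat.card B * Nat.card (fx V C) = Nat.card V := by
    rw [h.card_eq hB.1 hC.1]; exact Pair.mm_eq h c hC.1
  have hq : 0 < Nat.card B := Nat.card_pos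
  apply Nat.eq_of_mul_eq_mul_left hq
  rw [hVC, e1]; ring

theorem exists_not_mem : ∃ v ∈ fx V C, v ∉ fx V B ⊓ fx V C := by
  by_contra hcon
  push Not at hcon
  have h1 := card_le hcon
  rw [relIndex_eq h c hB hC hne] at h1
  have h6 := h.two_le hB.1
  have h7 := card_pos (fx V B ⊓ fx V C : AddSubgroup V)
  have h8 : 2 * Nat.card (fx V B ⊓ fx V C : AddSubgroup V) ≤
      Nat.card B * Nat.card (fx V B ⊓ fx V C : AddSubgroup V) := Nat.mul_le_mul_right _ h6
  omega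

/-- the spread, on `C_V(C)` -/
theorem spread' {g : X} (hg : g ∈ C) (hg1 : g ≠ 1) : ∃ b ∈ B, ∀ v ∈ fx V C,
    g • (b • v - v) - (b • v - v) - v ∈ fx V B ⊓ fx V C := by
  obtain ⟨b, hb, hs⟩ := spread h c hB hC hne hg hg1
  have hsymm : fx V C ⊓ fx V B = fx V B ⊓ fx V C := inf_comm _ _
  have hb1 : b ≠ 1 := by
    rintro rfl
    obtain ⟨u, hu, hu2⟩ := exists_not_mem h c hC hB (Ne.symm hne)
    apply hu2
    have h1 := hs u hu
    rw [one_smul, sub_self, zero_sub, AddSubgroup.neg_mem_iff] at h1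
    rw [hsymm]; exact h1
  refine ⟨b, hb, fun v hv => ?_⟩
  have hu : b • v - v ∈ fx V B := fun b' hb' => h.quad B hB.1 b hb b' hb' v
  have h1 := hs _ hu
  have hxC : g • (b • v - v) - (b • v - v) ∈ fx V C := fun c' hc' => h.quad C hC.1 g hg c' hc' _
  have h2 : b • (g • (b • v - v) - (b • v - v) - v) - (g • (b • v - v) - (b • v - v) - v) ∈
      fx V B ⊓ fx V C := by
    convert h1 using 1
    generalize g • (b • v - v) - (b • v - v) = x
    rw [smul_sub]; abel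
  exact (inj h c hB hC hne hb ((fx V C).sub_mem hxC hv) h2).resolve_left hb1

omit h hB hC hne c in
/-- an element trivial on `V / U` normalises `B` -/
theorem cj_eq_of (h : Hyp p V pt 𝒟) (c : Cfg p pt 𝒟 D) (hB : B ∈ AN 𝒟 D) {k : X} (hk : ∀ v : V, k • v - v ∈ fx V B ⊓ fx V C) : cj k B = B := by
  symm
  apply Pair.ax h c hB.1 (h.conj B hB.1 k)
  apply eq_of_card_le _ (card_fx_cj k B).le
  intro v hv
  rw [mem_fx_cj]
  have h1 := hk (k⁻¹ • v)
  rw [smul_inv_smul] at h1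
  have e : k⁻¹ • v = v - (v - k⁻¹ • v) := by abel
  rw [e]
  exact (fx V B).sub_mem hv h1.1

omit h hB hC hne c in
/-- an element trivial on `V / U` centralises `B` -/
theorem comm_of (h : Hyp p V pt 𝒟) (c : Cfg p pt 𝒟 D) (hB : B ∈ AN 𝒟 D) (hC : C ∈ AN 𝒟 D)
    (hne : pp pt D C ≠ pp pt D B) {k : X} (hk : ∀ v : V, k • v - v ∈ fx V B ⊓ fx V C) : ∀ b ∈ B, k * b = b * k := by
  intro b hb
  have hcj := cj_eq_of h c hB hk
  have hz : k * b * k⁻¹ * b⁻¹ ∈ B := by
    apply B.mul_mem _ (B.inv_mem hb)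
    have h1 := mem_cj_of (g := k) hb
    rw [hcj] at h1; exact h1
  have hk' : ∀ v : V, k⁻¹ • v - v ∈ fx V B ⊓ fx V C := by
    intro v
    have h1 := hk (k⁻¹ • v)
    rw [smul_inv_smul] at h1
    have h2 := AddSubgroup.neg_mem _ h1
    convert h2 using 1; abel
  have hzU : ∀ v : V, (k * b * k⁻¹ * b⁻¹) • v - v ∈ fx V B ⊓ fx V C := by
    intro v
    have h1 : b • (k⁻¹ • (b⁻¹ • v)) - v ∈ fx V B ⊓ fx V C := by
      have h2 := hk' (b⁻¹ • v)
      have h3 : b • (k⁻¹ • (b⁻¹ • v) - b⁻¹ • v) = k⁻¹ • (b⁻¹ • v) - b⁻¹ • v := h2.1 b hb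
      rw [smul_sub, smul_inv_smul] at h3
      rw [h3]; exact h2
    have h2 := hk (b • (k⁻¹ • (b⁻¹ • v)))
    have h3 := AddSubgroup.add_mem _ h2 h1
    convert h3 using 1
    rw [mul_smul, mul_smul, mul_smul]; abel
  have h1 : k * b * k⁻¹ * b⁻¹ = 1 := by
    apply h.faith
    intro v
    exact Pair.p3 h.toHyp0 c hB hC hne hz (hzU v).2
  have h2 : k * b = (k * b * k⁻¹ * b⁻¹) * (b * k) := by group
  rw [h2, h1, one_mul]

/-- an element of `⟨B, C⟩` trivial on `V / U` and centralising `B`, `C` is trivial -/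
theorem eq_one_of_comm {k : X} (hkL : k ∈ B ⊔ C) (hk : ∀ v : V, k • v - v ∈ fx V B ⊓ fx V C)
    (hkB : ∀ b ∈ B, k * b = b * k) (hkC : ∀ b ∈ C, k * b = b * k) : k = 1 := by
  have hsymm : fx V C ⊓ fx V B = fx V B ⊓ fx V C := inf_comm _ _
  have hkU : ∀ u ∈ fx V B ⊓ fx V C, k • u = u := by
    intro u hu
    have : u ∈ fx V (B ⊔ C) := by rw [fx_sup]; exact hu
    exact this k hkL
  -- `k` fixes `[V, B]` and `[V, C]`
  have key : ∀ F : Subgroup X, (∀ b ∈ F, k * b = b * k) → (∀ v : V, k • v - v ∈ fx V F) →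
      ∀ b ∈ F, ∀ v : V, k • (b • v - v) = b • v - v := by
    intro F hF hv b hb v
    have h1 := hv v b hb
    rw [smul_sub, smul_smul, ← hF b hb, mul_smul] at h1
    rw [smul_sub]
    have h2 : k • b • v = k • v - v + b • v := by rw [← h1]; abel
    rw [h2]; abel
  have keyB := key B hkB fun v => (hk v).1
  have keyC := key C hkC fun v => (hk v).2
  have fixB : ∀ u ∈ fx V B, k • u = u := by
    intro u hu
    obtain ⟨g, hg, hg1⟩ : ∃ g ∈ C, g ≠ 1 := by
      have := h.nb C hC.1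
      rw [Ne, Subgroup.eq_bot_iff_forall] at this
      push Not at this
      exact this
    obtain ⟨b, hb, hs⟩ := spread h c hB hC hne hg hg1
    have h1 := hkU _ (hs u hu)
    have h2 := keyB b hb (g • u - u)
    rw [smul_sub, h2] at h1
    exact sub_right_injective h1
  have fixC : ∀ u ∈ fx V C, k • u = u := by
    intro u hu
    obtain ⟨g, hg, hg1⟩ : ∃ g ∈ B, g ≠ 1 := by
      have := h.nb B hB.1
      rw [Ne, Subgroup.eq_bot_iff_forall] at this
      push Not at this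
      exact this
    obtain ⟨b, hb, hs⟩ := spread h c hC hB (Ne.symm hne) hg hg1
    have h1 := hs u hu
    rw [hsymm] at h1
    have h1 := hkU _ h1
    have h2 := keyC b hb (g • u - u)
    rw [smul_sub, h2] at h1
    exact sub_right_injective h1
  apply h.faith
  intro v
  have hv : v ∈ fx V B ⊔ fx V C := by rw [(card_U h c hB hC hne).2]; trivial
  obtain ⟨a, ha, b, hb, rfl⟩ := mem_sup hv
  rw [smul_add, fixB a ha, fixC b hb]

omit h hB hC hne c in
/-- an element of `⟨B, C⟩` trivial on `V / U` is trivial -/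
theorem eq_one_of (h : Hyp p V pt 𝒟) (c : Cfg p pt 𝒟 D) (hB : B ∈ AN 𝒟 D) (hC : C ∈ AN 𝒟 D)
    (hne : pp pt D C ≠ pp pt D B) {k : X} (hkL : k ∈ B ⊔ C) (hk : ∀ v : V, k • v - v ∈ fx V B ⊓ fx V C) : k = 1 := by
  have hsymm : fx V C ⊓ fx V B = fx V B ⊓ fx V C := inf_comm _ _
  exact eq_one_of_comm h.toHyp0 c hB hC hne hkL hk (comm_of h c hB hC hne hk)
    (comm_of h c hC hB (Ne.symm hne) (by rw [hsymm]; exact hk))

end Cfsg.Agent.H263.FF.ToLoc1
end

-- part: H263/FF/Glob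
section
/-!
# FF-modules: at every point there is exactly one member of `𝒜_N`, any prime
-/

set_option autoImplicit false
set_option linter.unusedSectionVars false
set_option linter.unusedVariables false

namespace Cfsg.Agent.H263.FF.Glob

open Cfsg.Agent.H263.FF.Basic Cfsg.Agent.H263.FF.Setup Cfsg.Agent.H263.FF.Conf Cfsg.Agent.H263.FF.Chief
open scoped Pointwise

variable {p : ℕ} [hp : Fact p.Prime]
variable {X : Type*} [Group X] [Finite X] {V : Type*} [AddCommGroup V] [Finite V] [DistribMulAction X V]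
variable {pt : Sylow p X → Subgroup X} {𝒟 : Set (Subgroup X)} {D : Subgroup X}

section zero

variable (h : Hyp0 p V pt 𝒟) (c : Cfg p pt 𝒟 D)
include h c

theorem exists_ne {A : Subgroup X} (hA : A ∈ 𝒟) : ∃ a ∈ A, a ≠ 1 := by
  have := h.nb A hA
  rw [Ne, Subgroup.eq_bot_iff_forall] at this
  push Not at this
  exact this

omit c in
theorem exists_mv {x : X} (hx : x ≠ 1) : ∃ v : V, x • v ≠ v := by
  by_contra hc
  push Not at hc
  exact hx (h.faith x hc)

variable {B C : Subgroup X} (hB : B ∈ AN 𝒟 D) (hC : C ∈ AN 𝒟 D) (hne : pp pt D C ≠ pp pt D B)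
include hB hC hne

/-- `b ↦ [x, b]` is surjective modulo `U` -/
theorem exists_comm {x y : V} (hx : x ∈ fx V C) (hxU : x ∉ fx V B) (hy : y ∈ fx V B) :
    ∃ b ∈ B, b • x - x - y ∈ fx V B ⊓ fx V C := by
  classical
  set U : AddSubgroup V := fx V B ⊓ fx V C with hU
  have hUB : U ≤ fx V B := inf_le_left
  have hmem : ∀ b ∈ B, b • x - x ∈ fx V B := fun b hb b' hb' => h.quad B hB.1 b hb b' hb' x
  let f : B → fx V B ⧸ U.addSubgroupOf (fx V B) := fun b => QuotientAddGroup.mk ⟨(b : X) • x - x, hmem b b.2⟩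
  have hinj : Function.Injective f := by
    intro a b hab
    by_contra hn
    have h1 := QuotientAddGroup.eq.1 hab
    rw [AddSubgroup.mem_addSubgroupOf] at h1
    have h2 : ((a : X) • x - (b : X) • x : V) ∈ U := by
      have h3 := U.neg_mem h1
      convert h3 using 1
      change (a : X) • x - (b : X) • x = -(-((a : X) • x - x) + ((b : X) • x - x))
      abel
    have h5 : (b : X)⁻¹ • ((a : X) • x - (b : X) • x) = (a : X) • x - (b : X) • x := h2.1 _ (B.inv_mem b.2)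
    rw [smul_sub, smul_smul, inv_smul_smul] at h5
    rcases ToLoc1.inj h c hB hC hne (B.mul_mem (B.inv_mem b.2) a.2) hx (by rw [h5]; exact h2) with h6 | h6
    · apply hn
      rw [inv_mul_eq_one] at h6
      exact Subtype.ext h6.symm
    · exact hxU h6.1
  have hcard : Nat.card B = Nat.card (fx V B ⧸ U.addSubgroupOf (fx V B)) := by
    have e1 := card_mul_relIndex hUB
    have e3 := ToLoc1.relIndex_eq h c hC hB (Ne.symm hne)
    rw [inf_comm, ← hU, h.card_eq hC.1 hB.1] at e3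
    have e2 : U.relIndex (fx V B) = Nat.card B := by
      apply Nat.eq_of_mul_eq_mul_left (card_pos U)
      rw [e1, e3]; ring
    rw [← e2]; rfl
  have hsurj : Function.Surjective f := ((Nat.bijective_iff_injective_and_card f).2 ⟨hinj, hcard⟩).2
  obtain ⟨⟨b, hb⟩, e⟩ := hsurj (QuotientAddGroup.mk ⟨y, hy⟩)
  refine ⟨b, hb, ?_⟩
  have h1 := QuotientAddGroup.eq.1 e
  rw [AddSubgroup.mem_addSubgroupOf] at h1
  have h3 := U.neg_mem h1
  convert h3 using 1
  change b • x - x - y = -(-(b • x - x) + y)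
  abel

/-- every vector is fixed by `B` or by a conjugate of `C` -/
theorem cover' (v : V) : v ∈ fx V B ∨ ∃ b ∈ B, v ∈ fx V (cj b C) := by
  have hv : v ∈ fx V B ⊔ fx V C := by rw [(ToLoc1.card_U h c hB hC hne).2]; trivial
  obtain ⟨a, ha, x, hx, rfl⟩ := mem_sup hv
  by_cases hxB : x ∈ fx V B
  · exact Or.inl ((fx V B).add_mem ha hxB)
  · right
    obtain ⟨b, hb, hbx⟩ := exists_comm h c hB hC hne hx hxB ha
    refine ⟨b, hb, ?_⟩
    set u := b • x - x - a with hu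
    have e : a + x = b • x - u := by rw [hu]; abel
    rw [e]
    refine (fx V (cj b C)).sub_mem (smul_mem_fx_cj hx) ?_
    rw [mem_fx_cj, hbx.1 b⁻¹ (B.inv_mem hb)]
    exact hbx.2

/-- the points of `𝒜_N` -/
theorem point {E : Subgroup X} (hE : E ∈ AN 𝒟 D) :
    pp pt D E = pp pt D B ∨ ∃ b ∈ B, pp pt D E = pp pt D (cj b C) := by
  obtain ⟨e, he, he1⟩ := exists_ne h c hE.1
  obtain ⟨v, hv⟩ := exists_mv h he1
  rcases cover' h c hB hC hne (e • v - v) with h1 | ⟨b, hb, h1⟩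
  · left
    by_contra h2
    exact hv (Pair.p3 h c hE hB (Ne.symm h2) he h1)
  · right
    refine ⟨b, hb, ?_⟩
    by_contra h2
    exact hv (Pair.p3 h c hE (mem_AN_cj h hC (hB.2.1 hb)) (Ne.symm h2) he h1)

end zero

section same

variable (h : Hyp0 p V pt 𝒟) (c : Cfg p pt 𝒟 D)
include h c

theorem cj_pp_self {B : Subgroup X} (hB : B ∈ AN 𝒟 D) {b : X} (hb : b ∈ B) : cj b (pp pt D B) = pp pt D B :=
  cj_eq_self_of_mem (Min.le_pp h c hB ((le_sup_right : B ≤ D ⊔ B) hb))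

/-- `pp (C^b) ≠ pp B` -/
theorem pp_cj_ne {B C : Subgroup X} (hB : B ∈ AN 𝒟 D) (hC : C ∈ AN 𝒟 D) (hne : pp pt D C ≠ pp pt D B) {b : X}
    (hb : b ∈ B) : pp pt D (cj b C) ≠ pp pt D B := by
  rw [Min.pp_cj h c hC (hB.2.1 hb)]
  intro e
  rw [← cj_pp_self h c hB hb] at e
  exact hne (cj_inj e)

/-- `[V, B] ≤ C_V(F)` if `B`, `F` have the same point -/
theorem d_fix {B F : Subgroup X} (hB : B ∈ AN 𝒟 D) (hF : F ∈ AN 𝒟 D) (hs : pp pt D F = pp pt D B) {b : X}
    (hb : b ∈ B) (v : V) : b • v - v ∈ fx V F := by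
  by_cases hv : b • v = v
  · rw [hv, sub_self]; exact (fx V F).zero_mem
  obtain ⟨C, hC, hne⟩ := Min.exists_partner h c B
  have hne' : pp pt D C ≠ pp pt D F := by rw [hs]; exact hne
  rcases cover' h c hF hC hne' (b • v - v) with h1 | ⟨f, hf, h1⟩
  · exact h1
  · exfalso
    apply hv
    refine Pair.p3 h c hB (mem_AN_cj h hC (hF.2.1 hf)) ?_ hb h1
    rw [← hs]
    exact pp_cj_ne h c hF hC hne' hf

theorem comm_same {B F : Subgroup X} (hB : B ∈ AN 𝒟 D) (hF : F ∈ AN 𝒟 D) (hs : pp pt D F = pp pt D B) :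
    ∀ b ∈ B, ∀ f ∈ F, b * f = f * b := fun b hb f hf =>
  Pair.commute_of h.faith (fun v => d_fix h c hB hF hs hb v f hf) (fun v => d_fix h c hF hB hs.symm hf v b hb)

end same

/-! ### the kernel on the points -/

variable (pt 𝒟 D) in
/-- the kernel on the points -/
def KK : Subgroup X where
  carrier := {n | n ∈ Subgroup.normalizer (D : Set X) ∧ ∀ E ∈ AN 𝒟 D, n ∈ pp pt D E}
  one_mem' := ⟨one_mem _, fun _ _ => one_mem _⟩
  mul_mem' := fun ha hb => ⟨mul_mem ha.1 hb.1, fun E hE => mul_mem (ha.2 E hE) (hb.2 E hE)⟩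
  inv_mem' := fun ha => ⟨inv_mem ha.1, fun E hE => inv_mem (ha.2 E hE)⟩

theorem mem_KK {n : X} : n ∈ KK pt 𝒟 D ↔ n ∈ Subgroup.normalizer (D : Set X) ∧ ∀ E ∈ AN 𝒟 D, n ∈ pp pt D E := Iff.rfl

theorem cj_KK (h : Hyp0 p V pt 𝒟) (c : Cfg p pt 𝒟 D) {n : X} (hn : n ∈ Subgroup.normalizer (D : Set X)) :
    cj n (KK pt 𝒟 D) = KK pt 𝒟 D := by
  apply cj_eq_of_le
  rw [cj_le_iff]
  intro a ha
  refine ⟨mul_mem (mul_mem hn ha.1) (inv_mem hn), fun E hE => ?_⟩
  have h1 := ha.2 _ (mem_AN_cj h hE (inv_mem hn))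
  rw [Min.pp_cj h c hE (inv_mem hn), mem_cj, inv_inv] at h1
  exact h1

/-- the intersection of the Sylow subgroups -/
def OO (p : ℕ) (K : Subgroup X) : Subgroup X :=
  sInf {R | R ≤ K ∧ IsPGroup p R ∧ ∀ R' ≤ K, IsPGroup p R' → R ≤ R' → R' = R}

omit hp in
theorem exists_max_p {K Q : Subgroup X} (hQ : Q ≤ K) (hQp : IsPGroup p Q) :
    ∃ R, Q ≤ R ∧ R ≤ K ∧ IsPGroup p R ∧ ∀ R' ≤ K, IsPGroup p R' → R ≤ R' → R' = R := by
  classical
  obtain ⟨R, ⟨hQR, hRK, hR⟩, hmax⟩ := Set.exists_max_image {R : Subgroup X | Q ≤ R ∧ R ≤ K ∧ IsPGroup p R}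
    (fun R => Nat.card R) (Set.toFinite _) ⟨Q, le_rfl, hQ, hQp⟩
  refine ⟨R, hQR, hRK, hR, ?_⟩
  intro R' hR' hR'p hle
  exact (Subgroup.eq_of_le_of_card_ge hle (hmax R' ⟨hQR.trans hle, hR', hR'p⟩)).symm

omit hp in
theorem isPGroup_OO {K : Subgroup X} : IsPGroup p (OO p K) := by
  obtain ⟨R, -, h1, h2, h3⟩ := exists_max_p (p := p) (bot_le : (⊥ : Subgroup X) ≤ K) IsPGroup.of_bot
  exact h2.to_le (sInf_le ⟨h1, h2, h3⟩)

omit hp in
theorem OO_le {K : Subgroup X} : OO p K ≤ K := by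
  obtain ⟨R, -, h1, h2, h3⟩ := exists_max_p (p := p) (bot_le : (⊥ : Subgroup X) ≤ K) IsPGroup.of_bot
  exact (sInf_le ⟨h1, h2, h3⟩ : OO p K ≤ R).trans h1

omit hp in
theorem cj_OO {K : Subgroup X} {n : X} (hn : cj n K = K) : cj n (OO p K) = OO p K := by
  apply cj_eq_of_le
  apply le_sInf
  rintro R ⟨h1, h2, h3⟩
  have hn' : cj n⁻¹ K = K := by
    have := congrArg (cj n⁻¹) hn
    rw [cj_inv_cj] at this
    exact this.symm
  have : OO p K ≤ cj n⁻¹ R := by
    apply sInf_le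
    refine ⟨?_, isPGroup_cj _ h2, ?_⟩
    · rw [← hn']; exact cj_mono _ h1
    · intro R' hR' hR'p hle
      have h4 := h3 (cj n R') (by rw [← hn]; exact cj_mono _ hR') (isPGroup_cj _ hR'p) (by
        have := cj_mono n hle
        rwa [cj_cj_inv] at this)
      rw [← h4, cj_inv_cj]
  have h5 := cj_mono n this
  rwa [cj_cj_inv] at h5

/-- a `p`-subgroup normalised by `K` lies in `O_p(K)` -/
theorem le_OO {K N : Subgroup X} (hN : N ≤ K) (hNp : IsPGroup p N) (hn : K ≤ Subgroup.normalizer (N : Set X)) :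
    N ≤ OO p K := by
  apply le_sInf
  rintro R ⟨h1, h2, h3⟩
  have h4 : IsPGroup p (N ⊔ R : Subgroup X) := isPGroup_sup hNp h2 (h1.trans hn)
  have h5 := h3 (N ⊔ R) (sup_le hN h1) h4 le_sup_right
  rw [← h5]; exact le_sup_left

/-- the group generated by the members at the point of `B` -/
def EE (pt : Sylow p X → Subgroup X) (𝒟 : Set (Subgroup X)) (D B : Subgroup X) : Subgroup X :=
  sSup {E | E ∈ AN 𝒟 D ∧ pp pt D E = pp pt D B}

theorem le_EE {B E : Subgroup X} (hE : E ∈ AN 𝒟 D) (hs : pp pt D E = pp pt D B) : E ≤ EE pt 𝒟 D B :=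
  le_sSup (show E ∈ {E | E ∈ AN 𝒟 D ∧ pp pt D E = pp pt D B} from ⟨hE, hs⟩)

section eq

variable (h : Hyp0 p V pt 𝒟) (c : Cfg p pt 𝒟 D)
include h c

theorem EE_comm {B : Subgroup X} : ∀ x ∈ EE pt 𝒟 D B, ∀ y ∈ EE pt 𝒟 D B, x * y = y * x := by
  have h1 : ∀ A' ∈ {A' | A' ∈ AN 𝒟 D ∧ pp pt D A' = pp pt D B},
      EE pt 𝒟 D B ≤ Subgroup.centralizer (A' : Set X) := by
    rintro A' ⟨hA', hs⟩
    apply sSup_le
    rintro A'' ⟨hA'', hs'⟩
    intro x hx
    rw [Subgroup.mem_centralizer_iff]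
    intro a ha
    exact comm_same h c hA' hA'' (hs'.trans hs.symm) a ha x hx
  have h2 : EE pt 𝒟 D B ≤ Subgroup.centralizer (EE pt 𝒟 D B : Set X) := by
    apply sSup_le
    intro A' hA' a ha
    rw [Subgroup.mem_centralizer_iff]
    intro x hx
    exact (Subgroup.mem_centralizer_iff.1 (h1 A' hA' hx) a ha).symm
  intro x hx y hy
  exact (Subgroup.mem_centralizer_iff.1 (h2 hx) y hy).symm

theorem EE_EA {B : Subgroup X} : EA p (EE pt 𝒟 D B) := by
  refine ⟨EE_comm h c, ?_⟩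
  let K : Subgroup X :=
    { carrier := {x | x ∈ EE pt 𝒟 D B ∧ x ^ p = 1}
      one_mem' := ⟨one_mem _, one_pow p⟩
      mul_mem' := by
        rintro x y ⟨hx, hx'⟩ ⟨hy, hy'⟩
        refine ⟨mul_mem hx hy, ?_⟩
        have : Commute x y := EE_comm h c x hx y hy
        rw [this.mul_pow, hx', hy', one_mul]
      inv_mem' := by
        rintro x ⟨hx, hx'⟩
        refine ⟨inv_mem hx, ?_⟩
        rw [inv_pow, hx', inv_one] }
  have h1 : EE pt 𝒟 D B ≤ K := by
    apply sSup_le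
    rintro A' ⟨hA', hs⟩ x hx
    exact ⟨le_EE hA' hs hx, (h.ea A' hA'.1).pow hx⟩
  exact fun x hx => (h1 hx).2

theorem cj_EE {B : Subgroup X} {k : X} (hk : k ∈ KK pt 𝒟 D) : cj k (EE pt 𝒟 D B) ≤ EE pt 𝒟 D B := by
  rw [cj_le_iff]
  have : EE pt 𝒟 D B ≤ cj k⁻¹ (EE pt 𝒟 D B) := by
    apply sSup_le
    rintro A' ⟨hA', hs⟩
    have h1 : cj k A' ≤ EE pt 𝒟 D B := by
      apply le_EE (mem_AN_cj h hA' hk.1)
      rw [Min.pp_cj h c hA' hk.1, cj_eq_self_of_mem (hk.2 A' hA'), hs]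
    have h2 := cj_mono k⁻¹ h1
    rwa [cj_inv_cj] at h2
  intro a ha
  have h3 := this ha
  rwa [mem_cj, inv_inv] at h3

theorem le_OO_KK {B : Subgroup X} : EE pt 𝒟 D B ⊓ KK pt 𝒟 D ≤ OO p (KK pt 𝒟 D) := by
  apply le_OO inf_le_right ((EE_EA h c).isPGroup.to_le inf_le_left)
  intro k hk
  rw [← cj_eq_iff_mem_normalizer]
  apply cj_eq_of_le
  apply le_inf
  · exact (cj_mono k inf_le_left).trans (cj_EE h c hk)
  · calc cj k (EE pt 𝒟 D B ⊓ KK pt 𝒟 D) ≤ cj k (KK pt 𝒟 D) := cj_mono k inf_le_right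
      _ = KK pt 𝒟 D := cj_eq_self_of_mem hk

/-- an element of the kernel -/
theorem exists_KK {B F C : Subgroup X} (hB : B ∈ AN 𝒟 D) (hF : F ∈ AN 𝒟 D) (hs : pp pt D F = pp pt D B)
    (hC : C ∈ AN 𝒟 D) (hne : pp pt D C ≠ pp pt D B) {b₀ : X} (hb₀ : b₀ ∈ B) :
    ∃ f ∈ F, f * b₀ ∈ KK pt 𝒟 D := by
  have hnb : b₀ ∈ Subgroup.normalizer (D : Set X) := hB.2.1 hb₀
  have hC1 : cj b₀ C ∈ AN 𝒟 D := mem_AN_cj h hC hnb
  have hne1 : pp pt D (cj b₀ C) ≠ pp pt D F := by rw [hs]; exact pp_cj_ne h c hB hC hne hb₀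
  rcases point h c hF hC1 hne1 hC with h4 | ⟨f, hf, h4⟩
  · exact absurd (h4.trans hs) hne
  have hnf : f ∈ Subgroup.normalizer (D : Set X) := hF.2.1 hf
  rw [cj_cj, Min.pp_cj h c hC (mul_mem hnf hnb)] at h4
  have hx : f * b₀ ∈ pp pt D C := Min.mem_pp_of_cj h c hC h4.symm
  refine ⟨f, hf, mul_mem hnf hnb, fun E hE => ?_⟩
  rcases point h c hB hC hne hE with h5 | ⟨b, hb, h5⟩
  · rw [h5]
    refine mul_mem ?_ (Min.le_pp h c hB ((le_sup_right : B ≤ D ⊔ B) hb₀))
    rw [← hs]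
    exact Min.le_pp h c hF ((le_sup_right : F ≤ D ⊔ F) hf)
  · rw [h5, Min.pp_cj h c hC (hB.2.1 hb), mem_cj]
    have e1 : b₀ * b = b * b₀ := (h.ea B hB.1).comm hb₀ hb
    have e2 : b * f = f * b := comm_same h c hB hF hs b hb f hf
    have e3 : b⁻¹ * (f * b₀) * b = f * b₀ := by
      calc b⁻¹ * (f * b₀) * b = b⁻¹ * (f * (b₀ * b)) := by group
        _ = b⁻¹ * ((f * b) * b₀) := by rw [e1]; group
        _ = b⁻¹ * ((b * f) * b₀) := by rw [e2]
        _ = _ := by group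
    rw [e3]; exact hx

/-- `V = C_V(P) + U` for a `p`-subgroup `P` normalised by `N(D)` -/
theorem decomp {B C P : Subgroup X} (hB : B ∈ AN 𝒟 D) (hC : C ∈ AN 𝒟 D) (hne : pp pt D C ≠ pp pt D B)
    (hP : IsPGroup p P) (hPn : Subgroup.normalizer (D : Set X) ≤ Subgroup.normalizer (P : Set X)) (v : V) :
    ∃ v₁ ∈ fx V P, ∃ w ∈ fx V B ⊓ fx V C, v = v₁ + w := by
  have h1 : D ⊔ B ≤ Subgroup.normalizer (P : Set X) := sup_le (Subgroup.le_normalizer.trans hPn) (hB.2.1.trans hPn)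
  have h2 : IsPGroup p (P ⊔ (D ⊔ B) : Subgroup X) :=
    isPGroup_sup hP (isPGroup_sup c.pg (h.ea B hB.1).isPGroup hB.2.1) h1
  obtain ⟨T, hT⟩ := exists_sylow h2
  have hDBT : D ⊔ B ≤ T := le_sup_right.trans hT
  obtain ⟨v₀, hv₀, hst⟩ := h.vec T
  rw [← Min.pp_eq h c hB hDBT] at hst
  have hinv : ∀ E ∈ AN 𝒟 D, Iv E (fx V (D ⊔ P)) := by
    intro E hE e he w hw
    rw [fx_sup] at hw ⊢
    exact ⟨Pair.fx_inv (hE.2.1 he) hw.1, Pair.fx_inv (hPn (hE.2.1 he)) hw.2⟩
  have hcov := Pair.cover h c hB hC hne (W₁ := fx V (D ⊔ P)) (fx_anti le_sup_left) (hinv B hB) (hinv C hC) (by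
    intro hle
    have hv0 : v₀ ∈ fx V (D ⊔ P) :=
      fx_anti (sup_le (le_sup_left.trans hDBT) (le_sup_left.trans hT)) hv₀
    have h3 : C ≤ MulAction.stabilizer X v₀ := fun x hx => (hle hv0).2 x hx
    have h4 : D ⊔ C ≤ pp pt D B := sup_le (le_sup_left.trans (Min.le_pp h c hB)) (h3.trans hst)
    exact hne (Min.pp_eq_of_le h c hC hB h4).symm)
  have hv : v ∈ fx V D ⊔ (fx V B ⊓ fx V C) := by rw [Pair.sup_eq h c hB hC hne]; trivial
  obtain ⟨d, hd, u, hu, rfl⟩ := mem_sup hv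
  obtain ⟨v₁, hv₁, w, hw, rfl⟩ := mem_sup (hcov hd)
  refine ⟨v₁, fx_anti le_sup_right hv₁, w + u, (fx V B ⊓ fx V C).add_mem ⟨hw.1.2, hw.2⟩ hu, ?_⟩
  abel

end eq

/-- `v ↦ x v - v` -/
def dl (V : Type*) [AddCommGroup V] [DistribMulAction X V] (x : X) : V →+ V where
  toFun v := x • v - v
  map_zero' := by rw [smul_zero, sub_zero]
  map_add' v w := by rw [smul_add]; abel

theorem dl_apply (x : X) (v : V) : dl V x v = x • v - v := rfl

theorem ker_dl (x : X) : (dl V x).ker = fe V x := by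
  ext v
  rw [AddMonoidHom.mem_ker, dl_apply, sub_eq_zero]; rfl

theorem card_range_dl (x : X) : Nat.card (dl V x).range * Nat.card (fe V x) = Nat.card V := by
  rw [← ker_dl, ← AddSubgroup.index_ker]
  exact AddSubgroup.index_mul_card _

/-- members of `𝒜_N` with the same point are equal -/
theorem same_eq (h : Hyp p V pt 𝒟) (c : Cfg p pt 𝒟 D) {B F : Subgroup X} (hB : B ∈ AN 𝒟 D) (hF : F ∈ AN 𝒟 D)
    (hs : pp pt D F = pp pt D B) : F = B := by
  have h0 := h.toHyp0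
  by_contra hne
  obtain ⟨C, hC, hBC⟩ := Min.exists_partner h0 c B
  have hFC : pp pt D C ≠ pp pt D F := by rw [hs]; exact hBC
  obtain ⟨b₀, hb₀, hb₀1⟩ := exists_ne h0 c hB.1
  obtain ⟨f, hf, hxK⟩ := exists_KK h0 c hB hF hs hC hBC hb₀
  set x := f * b₀ with hxdef
  have hx1 : x ≠ 1 := by
    intro e
    have h1 : f = b₀⁻¹ := eq_inv_of_mul_eq_one_left e
    have h2 : b₀ ∈ F ⊓ B := by
      refine Subgroup.mem_inf.2 ⟨?_, hb₀⟩
      have := F.inv_mem hf
      rwa [h1, inv_inv] at this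
    rw [Comm4.inf_bot h c hF.1 hB.1 hne, Subgroup.mem_bot] at h2
    exact hb₀1 h2
  have hxP : x ∈ OO p (KK pt 𝒟 D) := le_OO_KK h0 c (B := B) ⟨mul_mem (le_EE hF hs hf) (le_EE hB rfl hb₀), hxK⟩
  have hPn : Subgroup.normalizer (D : Set X) ≤ Subgroup.normalizer (OO p (KK pt 𝒟 D) : Set X) := by
    intro n hn
    rw [← cj_eq_iff_mem_normalizer]
    exact cj_OO (cj_KK h0 c hn)
  have hdec := decomp h0 c hB hC hBC (isPGroup_OO (K := KK pt 𝒟 D)) hPn
  have hBCn : B ⊔ C ≤ Subgroup.normalizer (D : Set X) := sup_le hB.2.1 hC.2.1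
  have hLn : B ⊔ C ≤ Subgroup.normalizer (OO p (KK pt 𝒟 D) : Set X) := hBCn.trans hPn
  have hU : ∀ w ∈ fx V B ⊓ fx V C, ∀ l ∈ B ⊔ C, l • w = w := by
    intro w hw l hl
    have h1 : w ∈ fx V (B ⊔ C) := by rw [fx_sup]; exact hw
    exact h1 l hl
  have hxw : ∀ w ∈ fx V B ⊓ fx V C, x • w = f • w := by
    intro w hw
    rw [hxdef, mul_smul, hw.1 b₀ hb₀]
  -- `[v, x] ∈ C_V(x)`
  have hxd : ∀ v : V, x • (x • v - v) = x • v - v := by
    intro v
    obtain ⟨v₁, hv₁, w, hw, rfl⟩ := hdec v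
    have e : x • (v₁ + w) - (v₁ + w) = f • w - w := by
      rw [smul_add, hv₁ x hxP, hxw w hw]; abel
    rw [e, hxdef, mul_smul]
    have h1 : b₀ • (f • w - w) = f • w - w := d_fix h0 c hF hB hs.symm hf w b₀ hb₀
    rw [h1]
    exact h.quad F hF.1 f hf f hf w
  -- the closure of `x` under `⟨B, C⟩`
  set κ : Subgroup X := Subgroup.closure {y | ∃ l ∈ B ⊔ C, y = l * x * l⁻¹} with hκ
  have hgen : ∀ l ∈ B ⊔ C, l * x * l⁻¹ ∈ κ := fun l hl => Subgroup.subset_closure ⟨l, hl, rfl⟩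
  have hxκ : x ∈ κ := by
    have := hgen 1 (one_mem _)
    rwa [one_mul, inv_one, mul_one] at this
  have hfixall : ∀ k ∈ κ, ∀ v : V, x • v = v → k • v = v := by
    intro k hk v hv
    have h1 : κ ≤ MulAction.stabilizer X v := by
      rw [hκ, Subgroup.closure_le]
      rintro _ ⟨l, hl, rfl⟩
      show (l * x * l⁻¹) • v = v
      have hyP : l * x * l⁻¹ ∈ OO p (KK pt 𝒟 D) := (Subgroup.mem_normalizer_iff.1 (hLn hl) x).1 hxP
      obtain ⟨v₁, hv₁, w, hw, rfl⟩ := hdec v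
      rw [smul_add, hv₁ _ hyP]
      rw [smul_add, hv₁ x hxP] at hv
      have h2 : x • w = w := add_left_cancel hv
      rw [mul_smul, mul_smul, hU w hw _ (inv_mem hl), h2, hU w hw l hl]
    exact h1 hk
  have hκn : ∀ l ∈ B ⊔ C, ∀ k ∈ κ, l * k * l⁻¹ ∈ κ := by
    intro l hl
    have h1 : κ ≤ cj l⁻¹ κ := by
      rw [hκ, Subgroup.closure_le]
      rintro _ ⟨m, hm, rfl⟩
      show _ ∈ cj l⁻¹ κ
      rw [mem_cj, inv_inv]
      have e : l * (m * x * m⁻¹) * l⁻¹ = (l * m) * x * (l * m)⁻¹ := by group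
      rw [e]
      exact hgen _ (mul_mem hl hm)
    intro k hk
    have h2 := h1 hk
    rwa [mem_cj, inv_inv] at h2
  have hquad : ∀ k ∈ κ, ∀ v : V, x • (k • v - v) = k • v - v := by
    intro k hk
    rw [hκ] at hk
    refine Subgroup.closure_induction (p := fun k _ => ∀ v : V, x • (k • v - v) = k • v - v) ?_ ?_ ?_ ?_ hk
    · rintro _ ⟨l, hl, rfl⟩ v
      have e1 : (l * x * l⁻¹) • v - v = l • (x • (l⁻¹ • v) - l⁻¹ • v) := by
        rw [smul_sub, smul_smul, smul_smul, smul_inv_smul, mul_assoc]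
      have h3 := hfixall _ (by simpa using hgen _ (inv_mem hl) : l⁻¹ * x * l ∈ κ) _ (hxd (l⁻¹ • v))
      rw [e1]
      generalize x • (l⁻¹ • v) - l⁻¹ • v = w at h3 ⊢
      have h4 := congrArg (fun w => l • w) h3
      simp only [← mul_smul] at h4
      have e : l * (l⁻¹ * x * l) = x * l := by group
      rw [e, mul_smul] at h4
      exact h4
    · intro v
      rw [one_smul, sub_self, smul_zero]
    · intro k k' hk hk' hp hp' v
      have e1 : (k * k') • v - v = (k' • v - v) + (k • v - v) := by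
        have h5 := hfixall k hk _ (hp' v)
        rw [smul_sub, sub_eq_iff_eq_add] at h5
        rw [mul_smul, h5]; abel
      rw [e1, smul_add, hp, hp']
    · intro k hk hp v
      have h5 := hfixall k⁻¹ (inv_mem hk) _ (hp v)
      rw [smul_sub, inv_smul_smul] at h5
      have e1 : k⁻¹ • v - v = -(k • v - v) := by rw [← h5]; abel
      rw [e1, smul_neg, hp]
  have hmul : ∀ k ∈ κ, ∀ k' ∈ κ, ∀ v : V, (k * k') • v - v = (k' • v - v) + (k • v - v) := by
    intro k hk k' hk' v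
    have h5 := hfixall k hk _ (hquad k' hk' v)
    rw [smul_sub, sub_eq_iff_eq_add] at h5
    rw [mul_smul, h5]; abel
  have hκE : EA p κ := by
    constructor
    · intro k hk k' hk'
      have h1 : (k' * k)⁻¹ * (k * k') = 1 := by
        apply h.faith
        intro v
        have h2 : (k * k') • v = (k' * k) • v := by
          have e1 := hmul k hk k' hk' v
          have e2 := hmul k' hk' k hk v
          rw [sub_eq_iff_eq_add] at e1 e2
          rw [e1, e2]; abel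
        rw [mul_smul, h2, inv_smul_smul]
      rw [inv_mul_eq_one] at h1
      exact h1.symm
    · intro k hk
      apply h.faith
      intro v
      have key : ∀ n : ℕ, k ^ n • v - v = n • (k • v - v) := by
        intro n
        induction n with
        | zero => simp
        | succ n ih =>
          rw [pow_succ, hmul _ (pow_mem hk n) k hk, ih, succ_nsmul]; abel
      have h1 := key p
      rw [h.h2, sub_eq_zero] at h1
      exact h1
  have hfκ : fx V κ = fe V x := by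
    ext v
    exact ⟨fun hv => hv x hxκ, fun hv k hk => hfixall k hk v hv⟩
  -- `|κ| ≤ q`
  have hq1 : Nat.card κ ≤ Nat.card (dl V x).range := by
    have h1 := Pair.no h c κ hκE
    rw [mm, hfκ, ← card_range_dl (V := V) x] at h1
    exact Nat.le_of_mul_le_mul_right h1 (card_pos _)
  have hq2 : Nat.card (dl V x).range ≤ Nat.card (dl V f).range := by
    apply card_le
    rintro _ ⟨v, rfl⟩
    obtain ⟨v₁, hv₁, w, hw, rfl⟩ := hdec v
    refine ⟨w, ?_⟩
    rw [dl_apply, dl_apply, smul_add, hv₁ x hxP, hxw w hw]; abel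
  have hq3 : Nat.card (dl V f).range ≤ Nat.card B := by
    apply Nat.le_of_mul_le_mul_right _ (card_pos (fe V f))
    rw [card_range_dl, ← Pair.mm_eq h0 c hF.1, mm, h.card_eq hF.1 hB.1]
    exact Nat.mul_le_mul_left _ (card_le (fx_le_fe hf))
  -- lower bound
  obtain ⟨v, hv⟩ := exists_mv h0 hx1
  obtain ⟨v₁, hv₁, u, hu, rfl⟩ := hdec v
  have hxu : x • u ≠ u := by
    intro e
    apply hv
    rw [smul_add, hv₁ x hxP, e]
  let S : AddSubgroup V :=
    { carrier := {s | ∃ k ∈ κ, k • u - u = s}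
      zero_mem' := ⟨1, one_mem _, by rw [one_smul, sub_self]⟩
      add_mem' := by
        rintro _ _ ⟨k, hk, rfl⟩ ⟨k', hk', rfl⟩
        exact ⟨k' * k, mul_mem hk' hk, hmul k' hk' k hk u⟩
      neg_mem' := by
        rintro _ ⟨k, hk, rfl⟩
        refine ⟨k⁻¹, inv_mem hk, ?_⟩
        have h5 := hmul k⁻¹ (inv_mem hk) k hk u
        rw [inv_mul_cancel, one_smul, sub_self] at h5
        exact (neg_eq_of_add_eq_zero_right h5.symm).symm }
  have hSL : ∀ l ∈ B ⊔ C, ∀ s ∈ S, l • s ∈ S := by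
    rintro l hl _ ⟨k, hk, rfl⟩
    refine ⟨l * k * l⁻¹, hκn l hl k hk, ?_⟩
    rw [mul_smul, mul_smul, hU u hu _ (inv_mem hl), smul_sub, hU u hu l hl]
  have hSD : S ≤ fx V D := by
    rintro _ ⟨k, hk, rfl⟩
    rw [hκ] at hk
    refine Subgroup.closure_induction (p := fun k _ => k • u - u ∈ fx V D) ?_ ?_ ?_ ?_ hk
    · rintro _ ⟨l, hl, rfl⟩
      have e1 : (l * x * l⁻¹) • u - u = l • (f • u - u) := by
        rw [mul_smul, mul_smul, hU u hu _ (inv_mem hl), smul_sub, hU u hu l hl, hxw u hu]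
      rw [e1]
      exact Pair.fx_inv (hBCn hl) (Pair.comm_mem h0 c hF hC hFC hf u)
    · rw [one_smul, sub_self]; exact zero_mem _
    · intro k k' hk hk' hp hp'
      rw [hmul k hk k' hk']; exact add_mem hp' hp
    · intro k hk hp
      have h5 := hmul k⁻¹ (inv_mem hk) k hk u
      rw [inv_mul_cancel, one_smul, sub_self] at h5
      rw [← neg_eq_of_add_eq_zero_right h5.symm]
      exact neg_mem hp
  have hcov := Pair.cover h0 c hB hC hBC hSD (fun b hb s hs => hSL b (Subgroup.mem_sup_left hb) s hs)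
    (fun b hb s hs => hSL b (Subgroup.mem_sup_right hb) s hs) (by
      intro hle
      apply hxu
      rw [hxw u hu]
      have h6 : f • u - u ∈ fx V C := by
        have : x • u - u ∈ S := ⟨x, hxκ, rfl⟩
        rw [hxw u hu] at this
        exact (hle this).2
      exact Pair.p3 h0 c hF hC hFC hf h6)
  have hSκ : Nat.card S ≤ Nat.card κ := by
    refine Nat.card_le_card_of_surjective (fun k : κ => (⟨(k : X) • u - u, k, k.2, rfl⟩ : S)) ?_
    rintro ⟨_, k, hk, rfl⟩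
    exact ⟨⟨k, hk⟩, rfl⟩
  have h7 := (Pair.pair_basic h0 c hB hC hBC).2.1
  have h8 := card_le hcov
  have h9 := card_sup_inf S (fx V D ⊓ fx V B ⊓ fx V C)
  have h10 : Nat.card (S ⊔ (fx V D ⊓ fx V B ⊓ fx V C) : AddSubgroup V) ≤
      Nat.card S * Nat.card (fx V D ⊓ fx V B ⊓ fx V C : AddSubgroup V) := by
    rw [← h9]
    exact Nat.le_mul_of_pos_right _ (card_pos _)
  rw [h7] at h8
  have h11 : Nat.card B * Nat.card B ≤ Nat.card S :=
    Nat.le_of_mul_le_mul_right (h8.trans h10) (card_pos _)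
  have h12 := h11.trans (hSκ.trans (hq1.trans (hq2.trans hq3)))
  have h13 := h.two_le hB.1
  nlinarith

end Cfsg.Agent.H263.FF.Glob
end

-- part: H263/FF/Fam
section
/-!
# FF-modules: the members of `𝒟` in a Sylow subgroup, any prime

`QQ 𝒟 T F`: the group generated by the members of `𝒟` in `T` other than `F`; `T` is transitive on the members of `𝒟`
in `T`, and `Cfg` holds for every `QQ 𝒟 T F`.
-/

set_option autoImplicit false
set_option linter.unusedSectionVars false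
set_option linter.unusedVariables false

namespace Cfsg.Agent.H263.FF.Fam

open Cfsg.Agent.H263.FF.Basic Cfsg.Agent.H263.FF.Setup Cfsg.Agent.H263.FF.Conf Cfsg.Agent.H263.FF.Chief
open Cfsg.Agent.H263.FF.Glob
open scoped Pointwise

variable {p : ℕ} [hp : Fact p.Prime]
variable {X : Type*} [Group X] [Finite X] {V : Type*} [AddCommGroup V] [Finite V] [DistribMulAction X V]
variable {pt : Sylow p X → Subgroup X} {𝒟 : Set (Subgroup X)} {D : Subgroup X}

theorem cj_of_comm {x : X} {A : Subgroup X} (h : ∀ a ∈ A, x * a = a * x) : cj x A = A := by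
  apply cj_eq_of_le
  rw [cj_le_iff]
  intro a ha
  rw [h a ha, mul_inv_cancel_right]; exact ha

theorem normalizer_cj (g : X) (A : Subgroup X) :
    Subgroup.normalizer (cj g A : Set X) = cj g (Subgroup.normalizer (A : Set X)) := by
  ext x
  rw [← cj_eq_iff_mem_normalizer, mem_cj, ← cj_eq_iff_mem_normalizer, cj_cj]
  constructor
  · intro h
    have h1 := congrArg (cj g⁻¹) h
    rw [cj_inv_cj, cj_cj, ← mul_assoc] at h1
    exact h1
  · intro h
    have h1 := congrArg (cj g) h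
    rw [cj_cj] at h1
    have e : g * (g⁻¹ * x * g) = x * g := by group
    rw [e] at h1
    exact h1

theorem AN_cj_iff (h : Hyp0 p V pt 𝒟) {g : X} {A : Subgroup X} : A ∈ AN 𝒟 (cj g D) ↔ cj g⁻¹ A ∈ AN 𝒟 D := by
  have key : ∀ (k : X) (Q' A : Subgroup X), A ∈ AN 𝒟 Q' → cj k A ∈ AN 𝒟 (cj k Q') := by
    intro k Q' A hA
    refine ⟨h.conj A hA.1 k, ?_, ?_⟩
    · rw [normalizer_cj]; exact cj_mono k hA.2.1
    · rw [cj_le_cj]; exact hA.2.2
  constructor
  · intro h1
    have := key g⁻¹ _ _ h1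
    rwa [cj_inv_cj] at this
  · intro h1
    have := key g _ _ h1
    rwa [cj_cj_inv] at this

/-- `Cfg` for a conjugate of `D` -/
theorem cfg_cj (h : Hyp0 p V pt 𝒟) (c : Cfg p pt 𝒟 D) (g : X) : Cfg p pt 𝒟 (cj g D) where
  pg := isPGroup_cj g c.pg
  gen := by rw [h.J_cj, c.gen]
  uniq := by
    intro B hB T T' hT hT'
    rw [AN_cj_iff h] at hB
    have key : ∀ T : Sylow p X, cj g D ⊔ B ≤ T → D ⊔ cj g⁻¹ B ≤ ((g⁻¹ • T : Sylow p X) : Subgroup X) := by
      intro T hT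
      rw [coe_smul]
      have := cj_mono g⁻¹ hT
      rwa [cj_sup, cj_inv_cj] at this
    have h1 := c.uniq _ hB _ _ (key T hT) (key T' hT')
    rw [h.pt_smul, h.pt_smul] at h1
    exact cj_inj h1
  two := by
    obtain ⟨B, hB, C, hC, T, T', hT, hT', hne⟩ := c.two
    refine ⟨cj g B, (AN_cj_iff h).2 (by rw [cj_inv_cj]; exact hB), cj g C,
      (AN_cj_iff h).2 (by rw [cj_inv_cj]; exact hC), g • T, g • T', ?_, ?_, ?_⟩
    · rw [coe_smul, ← cj_sup]; exact cj_mono g hT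
    · rw [coe_smul, ← cj_sup]; exact cj_mono g hT'
    · rw [h.pt_smul, h.pt_smul]
      intro e; exact hne (cj_inj e)

section big

variable (h : Hyp p V pt 𝒟) (c : Cfg p pt 𝒟 D)
include h c

/-- `𝒜_N` centralises `D` -/
theorem comm_D {B : Subgroup X} (hB : B ∈ AN 𝒟 D) : ∀ b ∈ B, ∀ x ∈ D, b * x = x * b := by
  intro b hb x hx
  have hP : IsPGroup p (D ⊔ B : Subgroup X) := isPGroup_sup c.pg (h.ea B hB.1).isPGroup hB.2.1
  have hZ : D ≤ Subgroup.centralizer {b} := by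
    rw [← c.gen]
    apply sSup_le
    rintro E ⟨hE, hED⟩
    intro e he
    rw [Subgroup.mem_centralizer_singleton_iff]
    exact (Comm4.comm' h c hB.1 hE hP le_sup_right (hED.trans le_sup_left) b hb e he).symm
  exact (Subgroup.mem_centralizer_singleton_iff.1 (hZ hx)).symm

theorem mem_of_le {S A F : Subgroup X} (hS : IsPGroup p S) (hA : A ∈ AN 𝒟 D) (hAS : A ≤ S) (hDS : D ≤ S)
    (hF : F ∈ 𝒟) (hFS : F ≤ S) : F ≤ D ∨ F = A := by
  by_contra hc
  push Not at hc
  have h1 : D ≤ Subgroup.centralizer (F : Set X) := by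
    rw [← c.gen]
    apply sSup_le
    rintro E ⟨hE, hED⟩ x hx
    rw [Subgroup.mem_centralizer_iff]
    intro f hf
    exact Comm4.comm' h c hF hE hS hFS (hED.trans hDS) f hf x hx
  have hFn : F ≤ Subgroup.normalizer (D : Set X) := by
    intro f hf
    rw [← cj_eq_iff_mem_normalizer]
    apply cj_of_comm
    intro x hx
    exact Subgroup.mem_centralizer_iff.1 (h1 hx) f hf
  have hFA : F ∈ AN 𝒟 D := ⟨hF, hFn, hc.1⟩
  apply hc.2
  apply same_eq h c hA hFA
  obtain ⟨T, hT⟩ := exists_sylow hS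
  rw [Min.pp_eq h.toHyp0 c hFA (sup_le (hDS.trans hT) (hFS.trans hT)),
    Min.pp_eq h.toHyp0 c hA (sup_le (hDS.trans hT) (hAS.trans hT))]

theorem trans {T : Sylow p X} {A F : Subgroup X} (hA : A ∈ AN 𝒟 D) (hAT : A ≤ T) (hDT : D ≤ T) (hF : F ∈ 𝒟)
    (hFT : F ≤ T) : ∃ t ∈ T, F = cj t A := by
  by_contra hno
  set Q₁ : Subgroup X := sSup {E | E ∈ 𝒟 ∧ E ≤ (T : Subgroup X) ∧ ¬ ∃ t ∈ T, E = cj t A} with hQ₁
  have hQ₁D : Q₁ ≤ D := by
    apply sSup_le
    rintro E ⟨hE, hET, hEn⟩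
    rcases mem_of_le h c T.isPGroup' hA hAT hDT hE hET with h1 | h1
    · exact h1
    · exact absurd ⟨1, one_mem _, by rw [cj_one]; exact h1⟩ hEn
  obtain ⟨B, hB, hAB⟩ := Min.exists_partner h.toHyp0 c A
  have hTn : (T : Subgroup X) ≤ Subgroup.normalizer (Q₁ : Set X) := by
    intro t ht
    rw [← cj_eq_iff_mem_normalizer]
    apply cj_eq_of_le
    rw [cj_le_iff]
    have : Q₁ ≤ cj t⁻¹ Q₁ := by
      apply sSup_le
      rintro E ⟨hE, hET, hEn⟩
      have h1 : cj t E ≤ Q₁ := by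
        refine le_sSup ⟨h.conj E hE t, ?_, ?_⟩
        · rw [← cj_eq_self_of_mem ht]; exact cj_mono t hET
        · rintro ⟨s, hs, h1⟩
          apply hEn
          refine ⟨t⁻¹ * s, mul_mem (inv_mem ht) hs, ?_⟩
          rw [← cj_cj, ← h1, cj_inv_cj]
      have h2 := cj_mono t⁻¹ h1
      rwa [cj_inv_cj] at h2
    intro a ha
    have h3 := this ha
    rwa [mem_cj, inv_inv] at h3
  have hBn : B ≤ Subgroup.normalizer (Q₁ : Set X) := by
    intro b hb
    rw [← cj_eq_iff_mem_normalizer]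
    apply cj_of_comm
    intro x hx
    exact comm_D h c hB b hb x (hQ₁D hx)
  have hQne : Q₁ ≠ ⊥ := by
    intro e
    have h4 : F ≤ Q₁ := le_sSup ⟨hF, hFT, hno⟩
    rw [e, le_bot_iff] at h4
    exact h.nb F hF h4
  have h5 := h.nrm T Q₁ hQne (hQ₁D.trans hDT) hTn
  apply hAB
  have hAT' : D ⊔ A ≤ T := sup_le hDT hAT
  have e1 := Min.pp_eq h.toHyp0 c hA hAT'
  have h6 : D ⊔ B ≤ pp pt D A := by
    rw [e1]; exact sup_le (hDT.trans (h.le_pt T)) (hBn.trans h5)
  exact (Min.pp_eq_of_le h.toHyp0 c hB hA h6).symm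

end big

/-- the group generated by the members of `𝒟` in `T` different from `F` -/
def QQ (𝒟 : Set (Subgroup X)) (T F : Subgroup X) : Subgroup X := sSup {E | E ∈ 𝒟 ∧ E ≤ T ∧ E ≠ F}

theorem le_QQ {T E F : Subgroup X} (hE : E ∈ 𝒟) (hET : E ≤ T) (hne : E ≠ F) : E ≤ QQ 𝒟 T F :=
  le_sSup ⟨hE, hET, hne⟩

theorem QQ_le {T F : Subgroup X} : QQ 𝒟 T F ≤ T := sSup_le fun _ hE => hE.2.1

theorem QQ_eq (h : Hyp p V pt 𝒟) (c : Cfg p pt 𝒟 D) {T : Sylow p X} {A : Subgroup X} (hA : A ∈ AN 𝒟 D) (hAT : A ≤ T)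
    (hDT : D ≤ T) : QQ 𝒟 T A = D := by
  apply le_antisymm
  · apply sSup_le
    rintro E ⟨hE, hET, hEA⟩
    exact (mem_of_le h c T.isPGroup' hA hAT hDT hE hET).resolve_right hEA
  · rw [← c.gen]
    apply sSup_le
    rintro E ⟨hE, hED⟩
    refine le_sSup ⟨hE, hED.trans hDT, ?_⟩
    rintro rfl
    exact hA.2.2 hED

theorem QQ_cj (h : Hyp0 p V pt 𝒟) {T : Sylow p X} {t : X} (ht : t ∈ T) (F : Subgroup X) :
    QQ 𝒟 T (cj t F) = cj t (QQ 𝒟 T F) := by
  have key : ∀ t ∈ T, ∀ F : Subgroup X, cj t (QQ 𝒟 T F) ≤ QQ 𝒟 T (cj t F) := by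
    intro t ht F
    have : QQ 𝒟 T F ≤ cj t⁻¹ (QQ 𝒟 T (cj t F)) := by
      apply sSup_le
      rintro E ⟨hE, hET, hEF⟩
      have h1 : cj t E ≤ QQ 𝒟 T (cj t F) := by
        refine le_sSup ⟨h.conj E hE t, ?_, ?_⟩
        · rw [← cj_eq_self_of_mem ht]; exact cj_mono t hET
        · intro h1; exact hEF (cj_inj h1)
      have h2 := cj_mono t⁻¹ h1
      rwa [cj_inv_cj] at h2
    have h3 := cj_mono t this
    rwa [cj_cj_inv] at h3
  apply le_antisymm _ (key t ht F)
  have h1 := cj_mono t (key _ (inv_mem ht) (cj t F))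
  rwa [cj_inv_cj, cj_cj_inv] at h1

/-- **the members of `𝒟` in `T`** -/
theorem family (h : Hyp p V pt 𝒟) (T : Sylow p X) :
    (∀ F ∈ 𝒟, F ≤ (T : Subgroup X) → ∀ E ∈ 𝒟, E ≤ (T : Subgroup X) → ∃ t ∈ T, E = cj t F) ∧
    ∀ F ∈ 𝒟, F ≤ (T : Subgroup X) → Cfg p pt 𝒟 (QQ 𝒟 T F) ∧ F ∈ AN 𝒟 (QQ 𝒟 T F) := by
  obtain ⟨D, c⟩ := exists_cfg h
  obtain ⟨A, hA, B, hB, -⟩ := Min.exists_two h.toHyp0 c
  obtain ⟨T', hT'⟩ := Min.exists_syl h.toHyp0 c hA
  obtain ⟨g, hg⟩ := MulAction.exists_smul_eq X T' T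
  have c' := cfg_cj h.toHyp0 c g
  have hA' : cj g A ∈ AN 𝒟 (cj g D) := by
    rw [AN_cj_iff h.toHyp0, cj_inv_cj]; exact hA
  have hT : cj g D ⊔ cj g A ≤ T := by
    rw [← cj_sup, ← hg, coe_smul]; exact cj_mono g hT'
  have hAT : cj g A ≤ T := le_sup_right.trans hT
  have hDT : cj g D ≤ T := le_sup_left.trans hT
  have htr : ∀ F ∈ 𝒟, F ≤ (T : Subgroup X) → ∃ t ∈ T, F = cj t (cj g A) := fun F hF hFT =>
    trans h c' hA' hAT hDT hF hFT
  refine ⟨?_, ?_⟩
  · intro F hF hFT E hE hET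
    obtain ⟨t, ht, h1⟩ := htr F hF hFT
    obtain ⟨s, hs, h2⟩ := htr E hE hET
    refine ⟨s * t⁻¹, mul_mem hs (inv_mem ht), ?_⟩
    rw [h2, ← cj_cj, h1, cj_inv_cj]
  · intro F hF hFT
    obtain ⟨t, ht, rfl⟩ := htr F hF hFT
    rw [QQ_cj h.toHyp0 ht, QQ_eq h c' hA' hAT hDT]
    refine ⟨cfg_cj h.toHyp0 c' t, ?_⟩
    rw [AN_cj_iff h.toHyp0, cj_inv_cj]
    exact hA'

end Cfsg.Agent.H263.FF.Fam
end

-- part: H263/FF/Lev
section
/-!
# FF-modules: the group `⟨𝒜_N⟩`, any prime; the central involution for odd `p`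
-/

set_option autoImplicit false
set_option linter.unusedSectionVars false
set_option linter.unusedVariables false

namespace Cfsg.Agent.H263.FF.Lev

open Cfsg.Agent.H263.FF.Basic Cfsg.Agent.H263.FF.Setup Cfsg.Agent.H263.FF.Conf Cfsg.Agent.H263.FF.Chief
open Cfsg.Agent.H263.FF.Glob Cfsg.Agent.H263.FF.Fam
open scoped Pointwise

variable {p : ℕ} [hp : Fact p.Prime]
variable {X : Type*} [Group X] [Finite X] {V : Type*} [AddCommGroup V] [Finite V] [DistribMulAction X V]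
variable {pt : Sylow p X → Subgroup X} {𝒟 : Set (Subgroup X)} {D : Subgroup X}

/-- the group generated by `𝒜_N` -/
def LL (𝒟 : Set (Subgroup X)) (D : Subgroup X) : Subgroup X := sSup (AN 𝒟 D)

theorem le_LL {A : Subgroup X} (hA : A ∈ AN 𝒟 D) : A ≤ LL 𝒟 D := le_sSup hA

theorem cj_inv_eq {k : X} {A : Subgroup X} (h : cj k A = A) : cj k⁻¹ A = A := by
  have h1 := congrArg (cj k⁻¹) h
  rw [cj_inv_cj] at h1
  exact h1.symm

section big

variable (h : Hyp p V pt 𝒟) (c : Cfg p pt 𝒟 D)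
include h c

/-- the members of `𝒜_N` -/
theorem point' {A B E : Subgroup X} (hA : A ∈ AN 𝒟 D) (hB : B ∈ AN 𝒟 D) (hne : pp pt D B ≠ pp pt D A)
    (hE : E ∈ AN 𝒟 D) : E = A ∨ ∃ a ∈ A, E = cj a B := by
  rcases point h.toHyp0 c hA hB hne hE with h1 | ⟨a, ha, h1⟩
  · left; exact same_eq h c hA hE h1
  · right; exact ⟨a, ha, same_eq h c (mem_AN_cj h.toHyp0 hB (hA.2.1 ha)) hE h1⟩

theorem LL_eq {A B : Subgroup X} (hA : A ∈ AN 𝒟 D) (hB : B ∈ AN 𝒟 D) (hne : pp pt D B ≠ pp pt D A) :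
    LL 𝒟 D = A ⊔ B := by
  apply le_antisymm
  · apply sSup_le
    intro E hE
    rcases point' h c hA hB hne hE with rfl | ⟨a, ha, rfl⟩
    · exact le_sup_left
    · have h2 : cj a (A ⊔ B) = A ⊔ B := cj_eq_self_of_mem (Subgroup.mem_sup_left ha)
      exact (cj_mono a le_sup_right).trans h2.le
  · exact sup_le (le_LL hA) (le_LL hB)

theorem fx_LL {A B : Subgroup X} (hA : A ∈ AN 𝒟 D) (hB : B ∈ AN 𝒟 D) (hne : pp pt D B ≠ pp pt D A) :
    fx V (LL 𝒟 D) = fx V A ⊓ fx V B := by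
  rw [LL_eq h c hA hB hne, fx_sup]

theorem LL_comm_D : ∀ x ∈ LL 𝒟 D, ∀ y ∈ D, x * y = y * x := by
  have h1 : LL 𝒟 D ≤ Subgroup.centralizer (D : Set X) := by
    apply sSup_le
    intro E hE x hx
    rw [Subgroup.mem_centralizer_iff]
    intro y hy
    exact (comm_D h c hE x hx y hy).symm
  intro x hx y hy
  exact (Subgroup.mem_centralizer_iff.1 (h1 hx) y hy).symm

theorem LL_le_norm : LL 𝒟 D ≤ Subgroup.normalizer (D : Set X) := sSup_le fun _ hE => hE.2.1

/-- regularity in terms of `cj` -/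
theorem reg' {A B : Subgroup X} (hA : A ∈ AN 𝒟 D) (hB : B ∈ AN 𝒟 D) (hne : pp pt D B ≠ pp pt D A) {a : X}
    (ha : a ∈ A) (e : cj a B = B) : a = 1 := by
  apply ToLoc1.reg h.toHyp0 c hA hB hne ha
  apply Min.mem_pp_of_cj h.toHyp0 c hB
  rw [← Min.pp_cj h.toHyp0 c hB (hA.2.1 ha), e]

/-- a `p'`-element normalising `D` which centralises a member of `𝒜_N` centralises `⟨𝒜_N⟩` -/
theorem comm_LL_of {A : Subgroup X} (hA : A ∈ AN 𝒟 D) {k : X} (hk : k ∈ Subgroup.normalizer (D : Set X))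
    (hkA : ∀ a ∈ A, k * a = a * k) {n : ℕ} (hn : ¬ p ∣ n) (hkn : k ^ n = 1) : ∀ x ∈ LL 𝒟 D, k * x = x * k := by
  obtain ⟨B, hB, hne⟩ := Min.exists_partner h.toHyp0 c A
  have hne0 : A ≠ B := by rintro rfl; exact hne rfl
  -- `k` normalises `B`
  have hkA1 : cj k A = A := cj_of_comm hkA
  have hkB : cj k B = B := by
    rcases point' h c hA hB hne (mem_AN_cj h.toHyp0 hB hk) with h1 | ⟨a, ha, h1⟩
    · exfalso
      rw [← hkA1] at h1
      exact hne0 (cj_inj h1).symm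
    · have h2 : ∀ m : ℕ, cj (k ^ m) B = cj (a ^ m) B := by
        intro m
        induction m with
        | zero => rw [pow_zero, pow_zero]
        | succ m ih =>
          have hc : ∀ m : ℕ, k * a ^ m = a ^ m * k := fun m => hkA _ (pow_mem ha m)
          rw [pow_succ', ← cj_cj, ih, cj_cj, hc, ← cj_cj, h1, cj_cj, ← pow_succ]
      have h3 := h2 n
      rw [hkn, cj_one] at h3
      have h4 : a ^ n = 1 := reg' h c hA hB hne (pow_mem ha n) h3.symm
      have h5 : a = 1 := by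
        have h6 : orderOf a ∣ p := orderOf_dvd_of_pow_eq_one ((h.ea A hA.1).pow ha)
        have h7 : orderOf a ∣ n := orderOf_dvd_of_pow_eq_one h4
        rcases (Nat.dvd_prime hp.out).1 h6 with h8 | h8
        · exact orderOf_eq_one_iff.1 h8
        · exact absurd (h8 ▸ h7) hn
      rw [h5, cj_one] at h1
      exact h1
  -- `k` centralises `B`
  have hkBc : ∀ b ∈ B, k * b = b * k := by
    intro b hb
    have hc : k * b * k⁻¹ * b⁻¹ ∈ B := by
      have h1 : k * b * k⁻¹ ∈ cj k B := mem_cj_of hb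
      rw [hkB] at h1
      exact mul_mem h1 (inv_mem hb)
    have hfix : cj (k * b * k⁻¹ * b⁻¹) A = A := by
      have hbA : cj b⁻¹ A ∈ AN 𝒟 D := mem_AN_cj h.toHyp0 hA (inv_mem (hB.2.1 hb))
      have h1 : cj k⁻¹ (cj b⁻¹ A) = cj b⁻¹ A := by
        rcases point' h c hA hB hne hbA with h2 | ⟨a, ha, h2⟩
        · rw [h2, cj_inv_eq hkA1]
        · rw [h2, cj_cj]
          have h3 : k⁻¹ * a = a * k⁻¹ := by
            rw [inv_mul_eq_iff_eq_mul, ← mul_assoc, hkA a ha, mul_assoc, mul_inv_cancel, mul_one]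
          rw [h3, ← cj_cj, cj_inv_eq hkB]
      rw [← cj_cj, ← cj_cj, h1, cj_cj, mul_assoc, mul_inv_cancel, mul_one, hkA1]
    have h1 := reg' h c hB hA (Ne.symm hne) hc hfix
    rw [mul_inv_eq_one, mul_inv_eq_iff_eq_mul] at h1
    exact h1
  rw [LL_eq h c hA hB hne]
  have h1 : A ⊔ B ≤ Subgroup.centralizer ({k} : Set X) := by
    apply sup_le
    · intro a ha
      rw [Subgroup.mem_centralizer_singleton_iff]
      exact (hkA a ha).symm
    · intro b hb
      rw [Subgroup.mem_centralizer_singleton_iff]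
      exact (hkBc b hb).symm
  intro x hx
  exact (Subgroup.mem_centralizer_singleton_iff.1 (h1 hx)).symm

end big

/-! ### the swap -/

section swap

variable (h : Hyp0 p V pt 𝒟) (c : Cfg p pt 𝒟 D)
include h c

variable {B C : Subgroup X} (hB : B ∈ AN 𝒟 D) (hC : C ∈ AN 𝒟 D) (hne : pp pt D C ≠ pp pt D B)
include hB hC hne

/-- the spread relation is symmetric -/
theorem spread_symm {b g : X} (hb : b ∈ B) (hg : g ∈ C)
    (hs : ∀ u ∈ fx V B, b • (g • u - u) - (g • u - u) - u ∈ fx V B ⊓ fx V C) :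
    ∀ v ∈ fx V C, g • (b • v - v) - (b • v - v) - v ∈ fx V B ⊓ fx V C := by
  have hsymm : fx V C ⊓ fx V B = fx V B ⊓ fx V C := inf_comm _ _
  have hb1 : b ≠ 1 := by
    rintro rfl
    obtain ⟨u, hu, hu2⟩ := ToLoc1.exists_not_mem h c hC hB (Ne.symm hne)
    apply hu2
    have h1 := hs u hu
    rw [one_smul, sub_self, zero_sub, AddSubgroup.neg_mem_iff] at h1
    rw [hsymm]; exact h1
  intro v hv
  have hu : b • v - v ∈ fx V B := fun b' hb' => h.quad B hB.1 b hb b' hb' v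
  have h1 := hs _ hu
  have hxC : g • (b • v - v) - (b • v - v) ∈ fx V C := fun c' hc' => h.quad C hC.1 g hg c' hc' _
  have h2 : b • (g • (b • v - v) - (b • v - v) - v) - (g • (b • v - v) - (b • v - v) - v) ∈
      fx V B ⊓ fx V C := by
    convert h1 using 1
    generalize g • (b • v - v) - (b • v - v) = x
    rw [smul_sub]; abel
  exact (ToLoc1.inj h c hB hC hne hb ((fx V C).sub_mem hxC hv) h2).resolve_left hb1

theorem fix_U {w : V} (hw : w ∈ fx V B ⊓ fx V C) {l : X} (hl : l ∈ B ⊔ C) : l • w = w := by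
  have h1 : w ∈ fx V (B ⊔ C) := by rw [fx_sup]; exact hw
  exact h1 l hl

/-- an element which maps `C_V(B)` to `C_V(C)` and with square `-1` on `V / U` -/
theorem exists_w : ∃ w ∈ B ⊔ C, (∀ a ∈ fx V B, w • a ∈ fx V C) ∧ ∀ v : V, (w * w) • v + v ∈ fx V B ⊓ fx V C := by
  obtain ⟨g, hg, hg1⟩ := exists_ne h c hC.1
  obtain ⟨b, hb, hs⟩ := ToLoc1.spread h c hB hC hne hg hg1
  have hs' := spread_symm h c hB hC hne hb hg hs
  have hU : ∀ w ∈ fx V B ⊓ fx V C, ∀ l ∈ B ⊔ C, l • w = w := fun w hw l hl => fix_U h c hB hC hne hw hl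
  have hbL : b ∈ B ⊔ C := Subgroup.mem_sup_left hb
  have hgL : g ∈ B ⊔ C := Subgroup.mem_sup_right hg
  set w : X := b⁻¹ * g * b⁻¹ with hw
  have hwL : w ∈ B ⊔ C := mul_mem (mul_mem (inv_mem hbL) hgL) (inv_mem hbL)
  -- on `C_V(B)`
  have h1 : ∀ a ∈ fx V B, ∃ u ∈ fx V B ⊓ fx V C, w • a = g • a - a - u := by
    intro a ha
    set x := g • a - a with hx
    set u := b • x - x - a with hu
    have huU : u ∈ fx V B ⊓ fx V C := hs a ha
    refine ⟨u, huU, ?_⟩
    have e1 : b⁻¹ • a = a := ha _ (inv_mem hb)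
    have e2 : g • a = a + x := by rw [hx]; abel
    have e3 : b • (x - a - u) = x := by
      rw [smul_sub, smul_sub, ha b hb, huU.1 b hb, hu]; abel
    have e4 : b⁻¹ • x = x - a - u := by rw [inv_smul_eq_iff, e3]
    rw [hw, mul_smul, mul_smul, e1, e2, smul_add, e1, e4]; abel
  -- on `C_V(C)`
  have h2 : ∀ x ∈ fx V C, ∃ u ∈ fx V B ⊓ fx V C, w • x = -(b • x - x) - u := by
    intro x hx
    set y := b • x - x with hy
    set u := g • y - y - x with hu
    have huU : u ∈ fx V B ⊓ fx V C := hs' x hx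
    have hyB : y ∈ fx V B := fun b' hb' => h.quad B hB.1 b hb b' hb' x
    refine ⟨u, huU, ?_⟩
    have e3 : b • (x - y) = x := by
      rw [smul_sub, hyB b hb, hy]; abel
    have e4 : b⁻¹ • x = x - y := by rw [inv_smul_eq_iff, e3]
    have e5 : g • (x - y) = -y - u := by
      rw [smul_sub, hx g hg, hu]; abel
    rw [hw, mul_smul, mul_smul, e4, e5, smul_sub, smul_neg, hyB _ (inv_mem hb), huU.1 _ (inv_mem hb)]
  refine ⟨w, hwL, ?_, ?_⟩
  · intro a ha
    obtain ⟨u, hu, e⟩ := h1 a ha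
    rw [e]
    exact (fx V C).sub_mem (fun c' hc' => h.quad C hC.1 g hg c' hc' _) hu.2
  · have k1 : ∀ a ∈ fx V B, (w * w) • a + a ∈ fx V B ⊓ fx V C := by
      intro a ha
      obtain ⟨u, hu, e⟩ := h1 a ha
      obtain ⟨u', hu', e'⟩ := h2 (g • a - a) (fun c' hc' => h.quad C hC.1 g hg c' hc' _)
      rw [mul_smul, e, smul_sub, e', hU u hu w hwL]
      have h3 := hs a ha
      have h4 := (fx V B ⊓ fx V C).neg_mem ((fx V B ⊓ fx V C).add_mem ((fx V B ⊓ fx V C).add_mem h3 hu') hu)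
      convert h4 using 1
      abel
    have k2 : ∀ x ∈ fx V C, (w * w) • x + x ∈ fx V B ⊓ fx V C := by
      intro x hx
      obtain ⟨u, hu, e⟩ := h2 x hx
      obtain ⟨u', hu', e'⟩ := h1 (b • x - x) (fun b' hb' => h.quad B hB.1 b hb b' hb' x)
      rw [mul_smul, e, smul_sub, smul_neg, e', hU u hu w hwL]
      have h3 := hs' x hx
      have h4 := (fx V B ⊓ fx V C).sub_mem ((fx V B ⊓ fx V C).sub_mem hu' hu) h3
      convert h4 using 1
      abel
    intro v
    have hv : v ∈ fx V B ⊔ fx V C := by rw [(ToLoc1.card_U h c hB hC hne).2]; trivial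
    obtain ⟨a, ha, x, hx, rfl⟩ := mem_sup hv
    have h3 := (fx V B ⊓ fx V C).add_mem (k1 a ha) (k2 x hx)
    rw [smul_add]
    convert h3 using 1
    abel

end swap

/-- `B` and `C` are conjugate in `⟨B, C⟩` -/
theorem exists_swap (h : Hyp p V pt 𝒟) (c : Cfg p pt 𝒟 D) {B C : Subgroup X} (hB : B ∈ AN 𝒟 D) (hC : C ∈ AN 𝒟 D)
    (hne : pp pt D C ≠ pp pt D B) :
    ∃ w ∈ B ⊔ C, cj w B = C ∧ ∀ v : V, (w * w) • v + v ∈ fx V B ⊓ fx V C := by
  obtain ⟨w, hw, h1, h2⟩ := exists_w h.toHyp0 c hB hC hne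
  refine ⟨w, hw, ?_, h2⟩
  apply Pair.ax h c (h.conj B hB.1 w) hC.1
  apply eq_of_card_le
  · intro v hv
    rw [mem_fx_cj] at hv
    have := h1 _ hv
    rwa [smul_inv_smul] at this
  · rw [card_fx_cj]
    have e1 := Pair.mm_eq h.toHyp0 c hB.1
    have e2 := Pair.mm_eq h.toHyp0 c hC.1
    rw [mm] at e1 e2
    rw [h.card_eq hC.1 hB.1, ← e1] at e2
    exact (Nat.eq_of_mul_eq_mul_left Nat.card_pos e2).le

end Cfsg.Agent.H263.FF.Lev
end

-- part: H263/FF/Odd
section
/-!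
# FF-modules for odd `p`: the central involutions of the components

For odd `p` the group `L = ⟨𝒜_N⟩` has a central involution `z` which inverts `V / C_V(L)`; so `V = C_V(L) ⊕ C_V(-z)`.
-/

set_option autoImplicit false
set_option linter.unusedSectionVars false
set_option linter.unusedVariables false

namespace Cfsg.Agent.H263.FF.Odd

open Cfsg.Agent.H263.FF.Basic Cfsg.Agent.H263.FF.Setup Cfsg.Agent.H263.FF.Conf Cfsg.Agent.H263.FF.Chief
open Cfsg.Agent.H263.FF.Glob Cfsg.Agent.H263.FF.Fam Cfsg.Agent.H263.FF.Lev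
open scoped Pointwise

variable {p : ℕ} [hp : Fact p.Prime]
variable {X : Type*} [Group X] [Finite X] {V : Type*} [AddCommGroup V] [Finite V] [DistribMulAction X V]
variable {pt : Sylow p X → Subgroup X} {𝒟 : Set (Subgroup X)} {D : Subgroup X}

/-! ### halves -/

/-- multiplication by `1/2` -/
theorem half_mem (h2 : ∀ v : V, p • v = 0) (hp2 : p ≠ 2) {W : AddSubgroup V} {v : V} (hv : v + v ∈ W) : v ∈ W := by
  obtain ⟨k, hk⟩ := hp.out.odd_of_ne_two hp2
  have h3 := W.nsmul_mem hv (k + 1)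
  have e : (k + 1) • (v + v) = v := by
    have h4 := h2 v
    rw [hk] at h4
    calc (k + 1) • (v + v) = (2 * k + 1) • v + v := by
          rw [← two_nsmul, ← mul_nsmul', ← succ_nsmul]
          congr 1; ring
      _ = v := by rw [h4, zero_add]
  rwa [e] at h3

theorem exists_half (h2 : ∀ v : V, p • v = 0) (hp2 : p ≠ 2) (v : V) : ∃ w : V, w + w = v := by
  obtain ⟨k, hk⟩ := hp.out.odd_of_ne_two hp2
  refine ⟨(k + 1) • v, ?_⟩
  have h4 := h2 v
  rw [hk] at h4
  calc (k + 1) • v + (k + 1) • v = (2 * k + 1) • v + v := by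
        rw [← add_nsmul, ← succ_nsmul]
        congr 1; ring
    _ = v := by rw [h4, zero_add]

/-- `z` is the central involution of `L`: it inverts `V / C_V(L)` -/
structure IsZ (V : Type*) [AddCommGroup V] [DistribMulAction X V] (L : Subgroup X) (z : X) : Prop where
  mem : z ∈ L
  neg : ∀ v : V, z • v + v ∈ fx V L

namespace IsZ

variable {L : Subgroup X} {z : X} (hz : IsZ V L z)
include hz

theorem sq_smul (v : V) : z • z • v = v := by
  have h1 := hz.neg v z hz.mem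
  rw [smul_add] at h1
  have h3 : z • z • v + z • v = v + z • v := by rw [h1]; abel
  exact add_right_cancel h3

theorem sq (hf : ∀ x : X, (∀ v : V, x • v = v) → x = 1) : z * z = 1 := hf _ fun v => by
  rw [mul_smul, hz.sq_smul]

theorem fe_eq (h2 : ∀ v : V, p • v = 0) (hp2 : p ≠ 2) : fe V z = fx V L := by
  apply le_antisymm
  · intro v hv
    apply half_mem h2 hp2
    have h1 := hz.neg v
    rwa [(hv : z • v = v)] at h1
  · exact fx_le_fe hz.mem

end IsZ

/-- the `-1`-eigenspace -/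
def ng (V : Type*) [AddCommGroup V] [DistribMulAction X V] (z : X) : AddSubgroup V where
  carrier := {v | z • v = -v}
  zero_mem' := by show z • (0 : V) = -0; rw [smul_zero, neg_zero]
  add_mem' := fun {v w} hv hw => by
    change z • (v + w) = -(v + w)
    rw [smul_add, (hv : z • v = -v), (hw : z • w = -w)]; abel
  neg_mem' := fun {v} hv => by
    change z • (-v) = - -v
    rw [smul_neg, (hv : z • v = -v)]

theorem mem_ng {z : X} {v : V} : v ∈ ng V z ↔ z • v = -v := Iff.rfl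

/-- `V = C_V(L) + [V, z]` -/
theorem IsZ.decomp {L : Subgroup X} {z : X} (hz : IsZ V L z) (h2 : ∀ v : V, p • v = 0) (hp2 : p ≠ 2) (v : V) :
    ∃ u ∈ fx V L, ∃ n ∈ ng V z, u + n = v := by
  obtain ⟨w, hw⟩ := exists_half h2 hp2 v
  refine ⟨z • w + w, hz.neg w, w - z • w, ?_, ?_⟩
  · rw [mem_ng, smul_sub, hz.sq_smul]; abel
  · rw [← hw]; abel

theorem IsZ.inf {L : Subgroup X} {z : X} (hz : IsZ V L z) (h2 : ∀ v : V, p • v = 0) (hp2 : p ≠ 2) {v : V}
    (hv : v ∈ fx V L) (hv' : v ∈ ng V z) : v = 0 := by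
  have h1 : v = -v := by
    have := hv z hz.mem
    rw [mem_ng.1 hv'] at this
    exact this.symm
  have h3 : v + v ∈ (⊥ : AddSubgroup V) := by
    rw [AddSubgroup.mem_bot]
    nth_rewrite 1 [h1]; rw [neg_add_cancel]
  exact (AddSubgroup.mem_bot).1 (half_mem h2 hp2 h3)

section big

variable (h : Hyp p V pt 𝒟) (c : Cfg p pt 𝒟 D)
include h c

theorem exists_isZ : ∃ z, IsZ V (LL 𝒟 D) z := by
  obtain ⟨B, hB, C, hC, hne⟩ := Min.exists_two h.toHyp0 c
  obtain ⟨w, hw, -, hw2⟩ := exists_swap h c hB hC hne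
  refine ⟨w * w, ?_, ?_⟩
  · rw [LL_eq h c hB hC hne]; exact mul_mem hw hw
  · rw [fx_LL h c hB hC hne]; exact hw2

theorem isZ_unique {z z' : X} (hz : IsZ V (LL 𝒟 D) z) (hz' : IsZ V (LL 𝒟 D) z') : z = z' := by
  obtain ⟨B, hB, C, hC, hne⟩ := Min.exists_two h.toHyp0 c
  have e1 := LL_eq h c hB hC hne
  have e2 := fx_LL h c hB hC hne
  have hzz' : z' * z' = 1 := hz'.sq h.faith
  have hinv : z'⁻¹ = z' := inv_eq_of_mul_eq_one_left hzz'
  have h1 : z'⁻¹ * z = 1 := by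
    apply ToLoc1.eq_one_of h c hB hC hne
    · rw [← e1]; exact mul_mem (inv_mem hz'.mem) hz.mem
    · intro v
      rw [← e2]
      have h3 := hz.neg v
      have h4 := hz'.neg v
      have h5 : z' • (z • v + v) = z • v + v := h3 z' hz'.mem
      rw [smul_add] at h5
      rw [mul_smul, hinv]
      have e3 : z' • z • v - v = (z • v + v) - (z' • v + v) := by
        have : z' • z • v = z • v + v - z' • v := by rw [← h5]; abel
        rw [this]; abel
      rw [e3]
      exact (fx V (LL 𝒟 D)).sub_mem h3 h4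
  exact (inv_mul_eq_one.1 h1).symm

/-- `z` is central in the normaliser of `D` -/
theorem isZ_cj {z : X} (hz : IsZ V (LL 𝒟 D) z) {n : X} (hn : n ∈ Subgroup.normalizer (D : Set X)) :
    n * z * n⁻¹ = z := by
  have hL : cj n (LL 𝒟 D) = LL 𝒟 D := by
    apply cj_eq_of_le
    rw [cj_le_iff]
    have : LL 𝒟 D ≤ cj n⁻¹ (LL 𝒟 D) := by
      apply sSup_le
      intro E hE
      have h1 := cj_mono n⁻¹ (le_LL (mem_AN_cj h.toHyp0 hE hn))
      rwa [cj_inv_cj] at h1
    intro a ha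
    have h2 := this ha
    rwa [mem_cj, inv_inv] at h2
  apply isZ_unique h c _ hz
  constructor
  · rw [← hL]; exact mem_cj_of hz.mem
  · intro v
    have h1 := smul_mem_fx_cj (g := n) (hz.neg (n⁻¹ • v))
    rw [hL, smul_add, smul_inv_smul] at h1
    rw [mul_smul, mul_smul]; exact h1

theorem isZ_comm {z : X} (hz : IsZ V (LL 𝒟 D) z) {l : X} (hl : l ∈ LL 𝒟 D) : z * l = l * z := by
  have h1 := isZ_cj h c hz (LL_le_norm h c hl)
  rw [mul_inv_eq_iff_eq_mul] at h1
  exact h1.symm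

/-- `[V, z] ≤ C_V(D)` -/
theorem ng_le (hp2 : p ≠ 2) {z : X} (hz : IsZ V (LL 𝒟 D) z) : ng V z ≤ fx V D := by
  obtain ⟨B, hB, C, hC, hne⟩ := Min.exists_two h.toHyp0 c
  have e2 := fx_LL h c hB hC hne
  intro n hn
  have hv : n ∈ fx V D ⊔ (fx V B ⊓ fx V C) := by rw [Pair.sup_eq h.toHyp0 c hB hC hne]; trivial
  rw [← e2] at hv
  obtain ⟨d, hd, u, hu, rfl⟩ := mem_sup hv
  apply half_mem h.h2 hp2
  have h1 : z • (d + u) = -(d + u) := hn
  have h3 : z • u = u := hu z hz.mem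
  have h4 : (d + u) + (d + u) = d - z • d := by
    rw [smul_add, h3] at h1
    have : z • d = -(d + u) - u := by rw [← h1]; abel
    rw [this]; abel
  rw [h4]
  exact (fx V D).sub_mem hd (Pair.fx_inv (LL_le_norm h c hz.mem) hd)

/-- `L` preserves `[V, z]` -/
theorem smul_ng {z : X} (hz : IsZ V (LL 𝒟 D) z) {l : X} (hl : l ∈ LL 𝒟 D) {v : V} (hv : v ∈ ng V z) :
    l • v ∈ ng V z := by
  rw [mem_ng, ← mul_smul, isZ_comm h c hz hl, mul_smul, mem_ng.1 hv, smul_neg]

/-- `[V, L] ≤ [V, z]` -/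
theorem dl_mem (hp2 : p ≠ 2) {z : X} (hz : IsZ V (LL 𝒟 D) z) {l : X} (hl : l ∈ LL 𝒟 D) (v : V) :
    l • v - v ∈ ng V z := by
  obtain ⟨u, hu, n, hn, rfl⟩ := hz.decomp h.h2 hp2 v
  have e : l • (u + n) - (u + n) = l • n - n := by rw [smul_add, hu l hl]; abel
  rw [e]
  exact (ng V z).sub_mem (smul_ng h c hz hl hn) hn

/-- `|[V, z]| = q²` -/
theorem card_ng (hp2 : p ≠ 2) {z : X} (hz : IsZ V (LL 𝒟 D) z) {A : Subgroup X} (hA : A ∈ 𝒟) :
    Nat.card (ng V z) = Nat.card A * Nat.card A := by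
  obtain ⟨B, hB, C, hC, hne⟩ := Min.exists_two h.toHyp0 c
  have e2 := fx_LL h c hB hC hne
  have h1 := (ToLoc1.card_U h.toHyp0 c hB hC hne).1
  rw [← e2, h.card_eq hB.1 hA] at h1
  have h3 : fx V (LL 𝒟 D) ⊔ ng V z = ⊤ := by
    rw [eq_top_iff]
    intro v _
    obtain ⟨u, hu, n, hn, rfl⟩ := hz.decomp h.h2 hp2 v
    exact AddSubgroup.add_mem_sup hu hn
  have h4 : fx V (LL 𝒟 D) ⊓ ng V z = ⊥ := by
    rw [AddSubgroup.eq_bot_iff_forall]
    intro v hv
    exact hz.inf h.h2 hp2 hv.1 hv.2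
  have h5 := card_sup_inf (fx V (LL 𝒟 D)) (ng V z)
  rw [h3, h4, card_top, h1, AddSubgroup.card_bot, mul_one] at h5
  apply Nat.eq_of_mul_eq_mul_left (card_pos (fx V (LL 𝒟 D)))
  rw [← h5]; ring

/-- `C_V(A) ∩ [V, z]` has order `q` and contains `[V, A]` -/
theorem card_fx_ng (hp2 : p ≠ 2) {z : X} (hz : IsZ V (LL 𝒟 D) z) {A : Subgroup X} (hA : A ∈ AN 𝒟 D) :
    Nat.card (fx V A ⊓ ng V z : AddSubgroup V) = Nat.card A := by
  obtain ⟨B, hB, hne⟩ := Min.exists_partner h.toHyp0 c A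
  have e2 := fx_LL h c hA hB hne
  have h1 := ToLoc1.relIndex_eq h.toHyp0 c hB hA (Ne.symm hne)
  rw [inf_comm, ← e2, h.card_eq hB.1 hA.1] at h1
  have hle : fx V (LL 𝒟 D) ≤ fx V A := by rw [e2]; exact inf_le_left
  have h3 : fx V (LL 𝒟 D) ⊔ (fx V A ⊓ ng V z) = fx V A := by
    apply le_antisymm (sup_le hle inf_le_left)
    intro v hv
    obtain ⟨u, hu, n, hn, rfl⟩ := hz.decomp h.h2 hp2 v
    refine AddSubgroup.add_mem_sup hu ⟨?_, hn⟩
    have h6 := (fx V A).sub_mem hv (hle hu)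
    have e : u + n - u = n := by abel
    rw [e] at h6
    exact h6
  have h4 : fx V (LL 𝒟 D) ⊓ (fx V A ⊓ ng V z) = ⊥ := by
    rw [AddSubgroup.eq_bot_iff_forall]
    intro v hv
    exact hz.inf h.h2 hp2 hv.1 hv.2.2
  have h5 := card_sup_inf (fx V (LL 𝒟 D)) (fx V A ⊓ ng V z)
  rw [h3, h4, h1, AddSubgroup.card_bot, mul_one] at h5
  apply Nat.eq_of_mul_eq_mul_left (card_pos (fx V (LL 𝒟 D)))
  rw [← h5]; ring

end big

/-! ### two components -/

section two

variable (h : Hyp p V pt 𝒟) (hp2 : p ≠ 2) {T : Sylow p X} {F₁ F₂ : Subgroup X} (h1 : F₁ ∈ 𝒟) (h1T : F₁ ≤ T)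
  (h2 : F₂ ∈ 𝒟) (h2T : F₂ ≤ T) (hne : F₁ ≠ F₂)
include h hp2 h1 h1T h2 h2T hne

/-- `z₁` centralises `L₂` -/
theorem z_comm {z : X} (hz : IsZ V (LL 𝒟 (QQ 𝒟 T F₁)) z) : ∀ x ∈ LL 𝒟 (QQ 𝒟 T F₂), z * x = x * z := by
  obtain ⟨-, hfam⟩ := family h T
  obtain ⟨c1, t1⟩ := hfam F₁ h1 h1T
  obtain ⟨c2, t2⟩ := hfam F₂ h2 h2T
  have key : ∀ E ∈ 𝒟, E ≤ (T : Subgroup X) → ∀ e ∈ E, z * e = e * z := by
    intro E hE hET e he
    by_cases h3 : E = F₁
    · subst h3
      exact isZ_comm h c1 hz (le_LL t1 he)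
    · exact LL_comm_D h c1 z hz.mem e (le_QQ hE hET h3 he)
  have hkQ : z ∈ Subgroup.normalizer (QQ 𝒟 T F₂ : Set X) := by
    have h3 : QQ 𝒟 T F₂ ≤ Subgroup.centralizer ({z} : Set X) := by
      apply sSup_le
      rintro E ⟨hE, hET, -⟩ e he
      rw [Subgroup.mem_centralizer_singleton_iff]
      exact (key E hE hET e he).symm
    rw [← cj_eq_iff_mem_normalizer]
    exact cj_of_comm fun a ha => (Subgroup.mem_centralizer_singleton_iff.1 (h3 ha)).symm
  refine comm_LL_of h c2 t2 hkQ (key F₂ h2 h2T) (n := 2) ?_ ?_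
  · intro hd
    exact hp2 ((Nat.prime_dvd_prime_iff_eq hp.out Nat.prime_two).1 hd)
  · rw [pow_two]; exact hz.sq h.faith

/-- `[V, z₁] ≤ C_V(L₂)` -/
theorem ng_le_fx {z : X} (hz : IsZ V (LL 𝒟 (QQ 𝒟 T F₁)) z) : ng V z ≤ fx V (LL 𝒟 (QQ 𝒟 T F₂)) := by
  obtain ⟨-, hfam⟩ := family h T
  obtain ⟨c1, t1⟩ := hfam F₁ h1 h1T
  obtain ⟨c2, t2⟩ := hfam F₂ h2 h2T
  have hzc := z_comm h hp2 h1 h1T h2 h2T hne hz
  have hF2 : ng V z ≤ fx V F₂ := (ng_le h c1 hp2 hz).trans (fx_anti (le_QQ h2 h2T hne.symm))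
  have hpres : ∀ l ∈ LL 𝒟 (QQ 𝒟 T F₂), ∀ v ∈ ng V z, l • v ∈ ng V z := by
    intro l hl v hv
    rw [mem_ng, ← mul_smul, hzc l hl, mul_smul, mem_ng.1 hv, smul_neg]
  have hcj : ∀ l ∈ LL 𝒟 (QQ 𝒟 T F₂), ng V z ≤ fx V (cj l F₂) := by
    intro l hl v hv
    rw [mem_fx_cj]
    exact hF2 (hpres _ (inv_mem hl) v hv)
  obtain ⟨C, hC, hCne⟩ := Min.exists_partner h.toHyp0 c2 F₂
  obtain ⟨w, hw, hwC, -⟩ := exists_swap h c2 t2 hC hCne
  rw [← LL_eq h c2 t2 hC hCne] at hw
  have h3 := hcj w hw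
  rw [hwC] at h3
  rw [fx_LL h c2 t2 hC hCne]
  exact le_inf hF2 h3

/-- `[L₁, L₂] = 1` -/
theorem comm_LL {x y : X} (hx : x ∈ LL 𝒟 (QQ 𝒟 T F₁)) (hy : y ∈ LL 𝒟 (QQ 𝒟 T F₂)) : x * y = y * x := by
  obtain ⟨-, hfam⟩ := family h T
  obtain ⟨c1, t1⟩ := hfam F₁ h1 h1T
  obtain ⟨c2, t2⟩ := hfam F₂ h2 h2T
  obtain ⟨z₁, hz₁⟩ := exists_isZ h c1
  obtain ⟨z₂, hz₂⟩ := exists_isZ h c2
  apply Pair.commute_of h.faith
  · intro v
    exact ng_le_fx h hp2 h1 h1T h2 h2T hne hz₁ (dl_mem h c1 hp2 hz₁ hx v) y hy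
  · intro v
    exact ng_le_fx h hp2 h2 h2T h1 h1T hne.symm hz₂ (dl_mem h c2 hp2 hz₂ hy v) x hx

end two

end Cfsg.Agent.H263.FF.Odd
end

-- part: H263/FF/OddNat
section
/-!
# FF-modules for odd `p`: the components are `SL₂(F)` on natural modules; the structure of `X`
-/

set_option autoImplicit false
set_option linter.unusedSectionVars false
set_option linter.unusedVariables false

namespace Cfsg.Agent.H263.FF.OddNat

open Cfsg.Agent.H263.FF.Basic Cfsg.Agent.H263.FF.Setup Cfsg.Agent.H263.FF.Conf Cfsg.Agent.H263.FF.Chief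
open Cfsg.Agent.H263.FF.Glob Cfsg.Agent.H263.FF.Fam Cfsg.Agent.H263.FF.Lev Cfsg.Agent.H263.FF.Odd
open scoped Pointwise

variable {p : ℕ} [hp : Fact p.Prime]
variable {X : Type*} [Group X] [Finite X] {V : Type*} [AddCommGroup V] [Finite V] [DistribMulAction X V]
variable {pt : Sylow p X → Subgroup X} {𝒟 : Set (Subgroup X)} {D : Subgroup X}

/-- a subgroup acting on an invariant additive subgroup -/
@[reducible] def act {L : Subgroup X} {N : AddSubgroup V} (hLN : ∀ l ∈ L, ∀ v ∈ N, l • v ∈ N) :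
    DistribMulAction L N where
  smul l v := ⟨(l : X) • (v : V), hLN l l.2 v v.2⟩
  one_smul v := Subtype.ext (one_smul X (v : V))
  mul_smul x y v := Subtype.ext (mul_smul (x : X) (y : X) (v : V))
  smul_zero x := Subtype.ext (smul_zero (x : X))
  smul_add x v w := Subtype.ext (smul_add (x : X) (v : V) (w : V))

/-- `ρ`, `e` describe a natural `SL₂(F)`-module -/
structure IsNat (F : Type) [Field F] (L : Subgroup X) (N : AddSubgroup V)
    (ρ : ↥L ≃* Matrix.SpecialLinearGroup (Fin 2) F) (e : ↥N ≃+ (Fin 2 → F)) : Prop where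
  inv : ∀ l ∈ L, ∀ v ∈ N, l • v ∈ N
  act : ∀ (l : ↥L) (m m' : ↥N), (m' : V) = (l : X) • (m : V) → e m' = (ρ l).1.mulVec (e m)

theorem natural (h : Hyp p V pt 𝒟) (c : Cfg p pt 𝒟 D) (hp2 : p ≠ 2) {z : X} (hz : IsZ V (LL 𝒟 D) z)
    {B C : Subgroup X} (hB : B ∈ AN 𝒟 D) (hC : C ∈ AN 𝒟 D) (hne : pp pt D C ≠ pp pt D B) :
    ∃ (F : Type) (_ : Field F) (_ : Fintype F), Fintype.card F = Nat.card B ∧
      ∃ (ρ : ↥(LL 𝒟 D) ≃* Matrix.SpecialLinearGroup (Fin 2) F) (e : ↥(ng V z) ≃+ (Fin 2 → F)),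
        IsNat F (LL 𝒟 D) (ng V z) ρ e ∧ (∀ m : ↥(ng V z), (m : V) ∈ fx V B ↔ e m 1 = 0) ∧
          (∀ m : ↥(ng V z), (m : V) ∈ fx V C ↔ e m 0 = 0) := by
  have h0 := h.toHyp0
  have hinv : ∀ l ∈ LL 𝒟 D, ∀ v ∈ ng V z, l • v ∈ ng V z := fun l hl v hv => smul_ng h c hz hl hv
  let a : DistribMulAction (LL 𝒟 D) (ng V z) := act hinv
  have hsm : ∀ (l : LL 𝒟 D) (v : ng V z), ((l • v : ng V z) : V) = (l : X) • (v : V) := fun l v => rfl
  have hU : ∀ v : V, v ∈ fx V B → v ∈ fx V C → v ∈ ng V z → v = 0 := by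
    intro v h1 h2 h3
    apply hz.inf h.h2 hp2 _ h3
    rw [fx_LL h c hB hC hne]; exact ⟨h1, h2⟩
  have hUle : ∀ v : V, v ∈ fx V (LL 𝒟 D) → v ∈ fx V B ∧ v ∈ fx V C := by
    intro v hv
    rw [fx_LL h c hB hC hne] at hv; exact hv
  have hBL : B ≤ LL 𝒟 D := le_LL hB
  have hCL : C ≤ LL 𝒟 D := le_LL hC
  have hs : Cfsg.Agent.H218.SpreadNat.Spread (B.subgroupOf (LL 𝒟 D)) (C.subgroupOf (LL 𝒟 D))
      ((fx V B).addSubgroupOf (ng V z)) ((fx V C).addSubgroupOf (ng V z)) :=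
    { fixU := fun b hb u hu => Subtype.ext (hu b hb)
      fixW := fun b hb u hu => Subtype.ext (hu b hb)
      memU := fun b hb m => fun b' hb' => h.quad B hB.1 b hb b' hb' (m : V)
      memW := fun b hb m => fun b' hb' => h.quad C hC.1 b hb b' hb' (m : V)
      inf := fun m h1 h2 => Subtype.ext (hU m h1 h2 m.2)
      sup := by
        rintro ⟨m, hm⟩
        have hv : m ∈ fx V B ⊔ fx V C := by rw [(ToLoc1.card_U h0 c hB hC hne).2]; trivial
        obtain ⟨x, hx, y, hy, e⟩ := mem_sup hv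
        obtain ⟨u, hu, n, hn, ex⟩ := hz.decomp h.h2 hp2 x
        obtain ⟨u', hu', n', hn', ey⟩ := hz.decomp h.h2 hp2 y
        have hnB : n ∈ fx V B := by
          have : n = x - u := by rw [← ex]; abel
          rw [this]; exact (fx V B).sub_mem hx (hUle u hu).1
        have hnC : n' ∈ fx V C := by
          have : n' = y - u' := by rw [← ey]; abel
          rw [this]; exact (fx V C).sub_mem hy (hUle u' hu').2
        refine ⟨⟨n, hn⟩, hnB, ⟨n', hn'⟩, hnC, Subtype.ext ?_⟩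
        show n + n' = m
        have h3 : m - (n + n') = u + u' := by rw [← e, ← ex, ← ey]; abel
        have h4 : u + u' = 0 := hz.inf h.h2 hp2 ((fx V (LL 𝒟 D)).add_mem hu hu') (by
          rw [← h3]; exact (ng V z).sub_mem hm ((ng V z).add_mem hn hn'))
        rw [h4, sub_eq_zero] at h3
        exact h3.symm
      card := by
        have e1 : Nat.card (B.subgroupOf (LL 𝒟 D)) = Nat.card B :=
          Nat.card_congr (Subgroup.subgroupOfEquivOfLe hBL).toEquiv
        have e2 : Nat.card ((fx V C).addSubgroupOf (ng V z)) = Nat.card (fx V C ⊓ ng V z : AddSubgroup V) :=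
          Nat.card_congr ⟨fun v => ⟨(v.1 : V), v.2, v.1.2⟩, fun v => ⟨⟨v.1, v.2.2⟩, v.2.1⟩, fun _ => rfl, fun _ => rfl⟩
        rw [e1, e2, card_fx_ng h c hp2 hz hC, h.card_eq hB.1 hC.1]
      inj := by
        rintro ⟨b, hbL⟩ hb ⟨w, hw⟩ hwC hbw
        by_cases hb1 : b = 1
        · left; exact Subtype.ext hb1
        · right
          have h1 : b • w = w := congrArg Subtype.val hbw
          exact Subtype.ext (hU w (Pair.ti h0 c hB.1 hb hb1 h1) hwC hw)
      inj' := by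
        rintro ⟨b, hbL⟩ hb ⟨w, hw⟩ hwC hbw
        by_cases hb1 : b = 1
        · left; exact Subtype.ext hb1
        · right
          have h1 : b • w = w := congrArg Subtype.val hbw
          exact Subtype.ext (hU w hwC (Pair.ti h0 c hC.1 hb hb1 h1) hw)
      inv := by
        rintro ⟨g, hgL⟩ hg hg1
        have hg1' : g ≠ 1 := fun e => hg1 (Subtype.ext e)
        obtain ⟨b, hb, hS⟩ := ToLoc1.spread h0 c hC hB (Ne.symm hne) hg hg1'
        refine ⟨⟨b, hCL hb⟩, hb, ?_⟩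
        rintro ⟨w, hw⟩ hwC
        apply Subtype.ext
        show b • (g • w - w) - (g • w - w) = w
        have h1 := hS w hwC
        have h3 : b • (g • w - w) - (g • w - w) - w ∈ ng V z :=
          (ng V z).sub_mem ((ng V z).sub_mem (hinv b (hCL hb) _ ((ng V z).sub_mem (hinv g hgL w hw) hw))
            ((ng V z).sub_mem (hinv g hgL w hw) hw)) hw
        have h4 := hU _ h1.2 h1.1 h3
        rw [sub_eq_zero] at h4
        exact h4
      ne := by
        obtain ⟨b, hb, hb1⟩ := exists_ne h0 c hB.1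
        exact ⟨⟨b, hBL hb⟩, hb, fun e => hb1 (congrArg Subtype.val e)⟩ }
  have hgen : B.subgroupOf (LL 𝒟 D) ⊔ C.subgroupOf (LL 𝒟 D) = ⊤ := by
    rw [← Subgroup.subgroupOf_sup hBL hCL, ← LL_eq h c hB hC hne, Subgroup.subgroupOf_self]
  obtain ⟨F, hF, hFt, hcard, ρ, e, hρ, hact, hU', hW'⟩ := hs.exists_natural (p := p) (fun m => Subtype.ext (h.h2 m)) hgen
  have hρi : Function.Injective ρ := by
    rw [injective_iff_map_eq_one]
    intro l hl
    apply Subtype.ext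
    apply h.faith
    intro v
    obtain ⟨u, hu, n, hn, rfl⟩ := hz.decomp h.h2 hp2 v
    have h1 : l • (⟨n, hn⟩ : ng V z) = ⟨n, hn⟩ := by
      apply e.injective
      rw [hact, hl, Matrix.SpecialLinearGroup.coe_one, Matrix.one_mulVec]
    have h3 : (l : X) • n = n := congrArg Subtype.val h1
    rw [smul_add, hu l l.2, h3]
  refine ⟨F, hF, hFt, ?_, MulEquiv.ofBijective ρ ⟨hρi, hρ⟩, e, ⟨hinv, ?_⟩, ?_, ?_⟩
  · rw [hcard]
    exact Nat.card_congr (Subgroup.subgroupOfEquivOfLe hBL).toEquiv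
  · intro l m m' hm
    have : m' = l • m := Subtype.ext hm
    rw [this]
    exact hact l m
  · intro m; exact hU' m
  · intro m; exact hW' m

/-- The structure of `X` for odd `p`. -/
structure Out (p : ℕ) [Fact p.Prime] (V : Type*) [AddCommGroup V] [DistribMulAction X V]
    (pt : Sylow p X → Subgroup X) (𝒟 : Set (Subgroup X)) (T : Sylow p X) (r : ℕ) (A L : Fin r → Subgroup X)
    (z : Fin r → X) : Prop where
  pos : 0 < r
  memD : ∀ i, A i ∈ 𝒟
  le : ∀ i, A i ≤ T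
  all : ∀ F ∈ 𝒟, F ≤ (T : Subgroup X) → ∃ i, A i = F
  injA : Function.Injective A
  isZ : ∀ i, IsZ V (L i) (z i)
  AL : ∀ i, A i ≤ L i
  nat : ∀ i, ∃ (F : Type) (_ : Field F) (_ : Fintype F), Fintype.card F = Nat.card (A i) ∧
    ∃ (ρ : ↥(L i) ≃* Matrix.SpecialLinearGroup (Fin 2) F) (e : ↥(ng V (z i)) ≃+ (Fin 2 → F)),
      IsNat F (L i) (ng V (z i)) ρ e ∧ (∀ m : ↥(ng V (z i)), (m : V) ∈ fx V (A i) ↔ e m 1 = 0)
  card : ∀ i j, Nat.card (A i) = Nat.card (A j)
  dl : ∀ i, ∀ l ∈ L i, ∀ v : V, l • v - v ∈ ng V (z i)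
  ngfx : ∀ i j, i ≠ j → ng V (z i) ≤ fx V (L j)
  comm : ∀ i j, i ≠ j → ∀ x ∈ L i, ∀ y ∈ L j, x * y = y * x
  cjT : ∀ t ∈ T, ∀ i, ∃ j, cj t (A i) = A j ∧ cj t (L i) = L j ∧ t * z i * t⁻¹ = z j
  trans : ∀ i j, ∃ t ∈ T, cj t (A i) = A j ∧ cj t (L i) = L j ∧ t * z i * t⁻¹ = z j
  not_le : ∀ i, ¬ L i ≤ pt T
  zc : ∀ i, ∀ l ∈ L i, z i * l = l * z i
  z1 : ∀ i, z i ≠ 1
  no : ∀ E : Subgroup X, EA p E → mm V E ≤ Nat.card V

theorem LL_cj (h : Hyp0 p V pt 𝒟) (g : X) (Q : Subgroup X) : LL 𝒟 (cj g Q) = cj g (LL 𝒟 Q) := by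
  apply le_antisymm
  · apply sSup_le
    intro E hE
    rw [AN_cj_iff h] at hE
    have h2 := cj_mono g (le_LL hE)
    rwa [cj_cj_inv] at h2
  · have : LL 𝒟 Q ≤ cj g⁻¹ (LL 𝒟 (cj g Q)) := by
      apply sSup_le
      intro E hE
      have h1 : cj g E ∈ AN 𝒟 (cj g Q) := (AN_cj_iff h).2 (by rw [cj_inv_cj]; exact hE)
      have h2 := cj_mono g⁻¹ (le_LL h1)
      rwa [cj_inv_cj] at h2
    have h3 := cj_mono g this
    rwa [cj_cj_inv] at h3

/-- **the structure of `X` for odd `p`** -/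
theorem exists_out (h : Hyp p V pt 𝒟) (hp2 : p ≠ 2) (T : Sylow p X) :
    ∃ (r : ℕ) (A L : Fin r → Subgroup X) (z : Fin r → X), Out p V pt 𝒟 T r A L z := by
  classical
  obtain ⟨htr, hfam⟩ := family h T
  obtain ⟨F₀, hF₀, hF₀T⟩ := h.exists_le T
  obtain ⟨k, ⟨e⟩⟩ := Finite.exists_equiv_fin {F : Subgroup X | F ∈ 𝒟 ∧ F ≤ (T : Subgroup X)}
  have hk : 0 < k := by
    have := (e ⟨F₀, hF₀, hF₀T⟩).2
    omega
  let A : Fin k → Subgroup X := fun i => (e.symm i).1
  have hA : ∀ i, A i ∈ 𝒟 := fun i => (e.symm i).2.1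
  have hAT : ∀ i, A i ≤ T := fun i => (e.symm i).2.2
  have hc : ∀ i, Cfg p pt 𝒟 (QQ 𝒟 T (A i)) := fun i => (hfam _ (hA i) (hAT i)).1
  have ht : ∀ i, A i ∈ AN 𝒟 (QQ 𝒟 T (A i)) := fun i => (hfam _ (hA i) (hAT i)).2
  have hz : ∀ i, ∃ z, IsZ V (LL 𝒟 (QQ 𝒟 T (A i))) z := fun i => exists_isZ h (hc i)
  choose z hz using hz
  have hinj : Function.Injective A := fun i j hij => e.symm.injective (Subtype.ext hij)
  have hsurj : ∀ F ∈ 𝒟, F ≤ (T : Subgroup X) → ∃ i, A i = F := fun F hF hFT =>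
    ⟨e ⟨F, hF, hFT⟩, by show ((e.symm (e ⟨F, hF, hFT⟩)).1 : Subgroup X) = F; rw [e.symm_apply_apply]⟩
  have hcj : ∀ t ∈ T, ∀ i j, cj t (A i) = A j → cj t (LL 𝒟 (QQ 𝒟 T (A i))) = LL 𝒟 (QQ 𝒟 T (A j)) ∧
      t * z i * t⁻¹ = z j := by
    intro t ht' i j hij
    have e1 : cj t (LL 𝒟 (QQ 𝒟 T (A i))) = LL 𝒟 (QQ 𝒟 T (A j)) := by
      rw [← LL_cj h.toHyp0, ← QQ_cj h.toHyp0 ht', hij]
    refine ⟨e1, ?_⟩
    apply isZ_unique h (hc j) _ (hz j)
    constructor
    · rw [← e1]; exact mem_cj_of (hz i).mem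
    · intro v
      have h1 := smul_mem_fx_cj (g := t) ((hz i).neg (t⁻¹ • v))
      rw [e1, smul_add, smul_inv_smul] at h1
      rw [mul_smul, mul_smul]; exact h1
  refine ⟨k, A, fun i => LL 𝒟 (QQ 𝒟 T (A i)), z, ?_⟩
  exact
    { pos := hk
      memD := hA
      le := hAT
      all := hsurj
      injA := hinj
      isZ := hz
      AL := fun i => le_LL (ht i)
      nat := by
        intro i
        obtain ⟨C, hC, hne⟩ := Min.exists_partner h.toHyp0 (hc i) (A i)
        obtain ⟨F, hF, hFt, hcard, ρ, e, hn, h1, -⟩ := natural h (hc i) hp2 (hz i) (ht i) hC hne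
        exact ⟨F, hF, hFt, hcard, ρ, e, hn, h1⟩
      card := fun i j => h.card_eq (hA i) (hA j)
      dl := fun i l hl v => dl_mem h (hc i) hp2 (hz i) hl v
      ngfx := fun i j hij => ng_le_fx h hp2 (hA i) (hAT i) (hA j) (hAT j) (fun e => hij (hinj e)) (hz i)
      comm := fun i j hij x hx y hy => comm_LL h hp2 (hA i) (hAT i) (hA j) (hAT j) (fun e => hij (hinj e)) hx hy
      cjT := by
        intro t ht' i
        obtain ⟨j, hj⟩ := hsurj (cj t (A i)) (h.conj _ (hA i) t) (by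
          rw [← cj_eq_self_of_mem ht']; exact cj_mono t (hAT i))
        exact ⟨j, hj.symm, hcj t ht' i j hj.symm⟩
      trans := by
        intro i j
        obtain ⟨t, ht', e1⟩ := htr _ (hA i) (hAT i) _ (hA j) (hAT j)
        exact ⟨t, ht', e1.symm, hcj t ht' i j e1.symm⟩
      not_le := by
        intro i hle
        obtain ⟨C, hC, hne⟩ := Min.exists_partner h.toHyp0 (hc i) (A i)
        apply hne
        have h1 : QQ 𝒟 T (A i) ⊔ A i ≤ T := sup_le QQ_le (hAT i)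
        have e1 := Min.pp_eq h.toHyp0 (hc i) (ht i) h1
        have h2 : QQ 𝒟 T (A i) ⊔ C ≤ pp pt (QQ 𝒟 T (A i)) (A i) := by
          rw [e1]
          exact sup_le (QQ_le.trans (h.le_pt T)) ((le_LL hC).trans hle)
        exact (Min.pp_eq_of_le h.toHyp0 (hc i) hC (ht i) h2).symm
      zc := fun i l hl => isZ_comm h (hc i) (hz i) hl
      z1 := by
        intro i e1
        apply Pair.fx_ne_top h.toHyp0 (hA i)
        intro v
        have h1 := (hz i).neg v
        rw [e1, one_smul] at h1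
        exact fx_anti (le_LL (ht i)) (half_mem h.h2 hp2 h1)
      no := by
        intro E hE
        exact Pair.no h (hc ⟨0, hk⟩) E hE }

namespace Out

variable {T : Sylow p X} {r : ℕ} {A L : Fin r → Subgroup X} {z : Fin r → X} (o : Out p V pt 𝒟 T r A L z)
include o

/-- `X = ⟨L_i⟩ T` -/
theorem sup_eq (hmax : ∀ H : Subgroup X, (T : Subgroup X) ≤ H → H ≤ pt T ∨ H = ⊤) : (⨆ i, L i) ⊔ (T : Subgroup X) = ⊤ := by
  rcases hmax _ (le_sup_right : (T : Subgroup X) ≤ (⨆ i, L i) ⊔ T) with h1 | h1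
  · exact absurd ((le_iSup L ⟨0, o.pos⟩).trans (le_sup_left.trans h1)) (o.not_le ⟨0, o.pos⟩)
  · exact h1

/-- `V = C_V(⟨L_i⟩) + ∑ [V, L_i]` -/
theorem decomp (h2 : ∀ v : V, p • v = 0) (hp2 : p ≠ 2) : fx V (⨆ i, L i) ⊔ (⨆ i, ng V (z i)) = ⊤ := by
  classical
  have key : ∀ s : Finset (Fin r), ∀ v : V, ∃ u, (∀ i ∈ s, u ∈ fx V (L i)) ∧ v - u ∈ ⨆ i, ng V (z i) := by
    intro s
    induction s using Finset.induction_on with
    | empty => exact fun v => ⟨v, fun i hi => absurd hi (Finset.notMem_empty i), by rw [sub_self]; exact zero_mem _⟩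
    | insert i s his ih =>
      intro v
      obtain ⟨u, hu, hvu⟩ := ih v
      obtain ⟨a, ha, n, hn, e⟩ := (o.isZ i).decomp h2 hp2 u
      refine ⟨a, ?_, ?_⟩
      · intro j hj
        rcases Finset.mem_insert.1 hj with rfl | hj
        · exact ha
        · have hij : i ≠ j := by rintro rfl; exact his hj
          have : a = u - n := by rw [← e]; abel
          rw [this]
          exact (fx V (L j)).sub_mem (hu j hj) (o.ngfx i j hij hn)
      · have : v - a = (v - u) + n := by rw [← e]; abel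
        rw [this]
        exact add_mem hvu ((le_iSup (fun i => ng V (z i)) i) hn)
  rw [eq_top_iff]
  intro v _
  obtain ⟨u, hu, hvu⟩ := key Finset.univ v
  have e : v = u + (v - u) := by abel
  rw [e]
  refine AddSubgroup.add_mem_sup ?_ hvu
  have h3 : (⨆ i, L i) ≤ MulAction.stabilizer X u := iSup_le fun i l hl => hu i (Finset.mem_univ i) l hl
  exact fun l hl => h3 hl

/-- `L_i ∩ ⟨L_j, j ≠ i⟩ = 1` -/
theorem inf_eq (hf : ∀ x : X, (∀ v : V, x • v = v) → x = 1) (h2 : ∀ v : V, p • v = 0) (hp2 : p ≠ 2) (i : Fin r) :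
    L i ⊓ (⨆ j ∈ {j | j ≠ i}, L j) = ⊥ := by
  rw [Subgroup.eq_bot_iff_forall]
  rintro x ⟨hx, hx'⟩
  apply hf
  intro v
  obtain ⟨u, hu, n, hn, rfl⟩ := (o.isZ i).decomp h2 hp2 v
  have h1 : (⨆ j ∈ {j | j ≠ i}, L j) ≤ MulAction.stabilizer X n :=
    iSup₂_le fun j hj l hl => o.ngfx i j (Ne.symm hj) hn l hl
  rw [smul_add, hu x hx, (h1 hx' : x • n = n)]

/-- the subgroup generated by the involutions -/
theorem exists_normal_p' (hf : ∀ x : X, (∀ v : V, x • v = v) → x = 1)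
    (hmax : ∀ H : Subgroup X, (T : Subgroup X) ≤ H → H ≤ pt T ∨ H = ⊤) :
    ∃ Z : Subgroup X, Z.Normal ∧ Z ≠ ⊥ ∧ (∀ x ∈ Z, ∀ y ∈ Z, x * y = y * x) ∧ ∀ x ∈ Z, x * x = 1 := by
  have hzL : ∀ i j, ∀ l ∈ L j, z i * l = l * z i := by
    intro i j l hl
    by_cases hij : i = j
    · subst hij
      exact o.zc i l hl
    · exact o.comm i j hij _ (o.isZ i).mem l hl
  let Z : Subgroup X := Subgroup.closure (Set.range z)
  have hZ : ∀ i, z i ∈ Z := fun i => Subgroup.subset_closure ⟨i, rfl⟩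
  have hZc : ∀ x ∈ Z, ∀ l ∈ ⨆ i, L i, x * l = l * x := by
    have h1 : Z ≤ Subgroup.centralizer ((⨆ i, L i : Subgroup X) : Set X) := by
      rw [Subgroup.closure_le]
      rintro _ ⟨i, rfl⟩
      have h3 : (⨆ j, L j) ≤ Subgroup.centralizer ({z i} : Set X) := iSup_le fun j l hl => by
        rw [Subgroup.mem_centralizer_singleton_iff]; exact (hzL i j l hl).symm
      rw [SetLike.mem_coe, Subgroup.mem_centralizer_iff]
      intro l hl
      exact Subgroup.mem_centralizer_singleton_iff.1 (h3 hl)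
    intro x hx l hl
    exact (Subgroup.mem_centralizer_iff.1 (h1 hx) l hl).symm
  have hZle : Z ≤ ⨆ i, L i := by
    rw [Subgroup.closure_le]
    rintro _ ⟨i, rfl⟩
    exact (le_iSup L i) (o.isZ i).mem
  refine ⟨Z, ?_, ?_, ?_, ?_⟩
  · rw [← Subgroup.normalizer_eq_top_iff, eq_top_iff, ← o.sup_eq hmax]
    apply sup_le
    · intro l hl
      rw [← cj_eq_iff_mem_normalizer]
      exact cj_of_comm fun a ha => (hZc a ha l hl).symm
    · intro t ht
      rw [← cj_eq_iff_mem_normalizer]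
      apply cj_eq_of_le
      rw [cj_le_iff]
      have h1 : Z ≤ cj t⁻¹ Z := by
        rw [Subgroup.closure_le]
        rintro _ ⟨i, rfl⟩
        obtain ⟨j, -, -, hj⟩ := o.cjT t ht i
        rw [SetLike.mem_coe, mem_cj, inv_inv, hj]
        exact hZ j
      intro a ha
      have h3 := h1 ha
      rwa [mem_cj, inv_inv] at h3
  · intro e
    have h1 := hZ ⟨0, o.pos⟩
    rw [e, Subgroup.mem_bot] at h1
    exact o.z1 _ h1
  · intro x hx y hy
    exact hZc x hx y (hZle hy)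
  · intro x hx
    have hc : ∀ x ∈ Z, ∀ y ∈ Z, x * y = y * x := fun x hx y hy => hZc x hx y (hZle hy)
    refine Subgroup.closure_induction (p := fun x _ => x * x = 1) ?_ ?_ ?_ ?_ hx
    · rintro _ ⟨i, rfl⟩
      exact (o.isZ i).sq hf
    · exact one_mul 1
    · intro x y hx hy h1 h3
      have e := hc y hy x hx
      calc x * y * (x * y) = x * (y * x) * y := by group
        _ = x * (x * y) * y := by rw [e]
        _ = (x * x) * (y * y) := by group
        _ = 1 := by rw [h1, h3, one_mul]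
    · intro x hx h1
      rw [← mul_inv_rev, h1, inv_one]

end Out

end Cfsg.Agent.H263.FF.OddNat
end

-- part: H263/FF/Coprime
section
/-!
# FF-modules for odd `p`: a normal `p'`-subgroup moves the fixed points of a Sylow subgroup
-/

set_option autoImplicit false
set_option linter.unusedSectionVars false
set_option linter.unusedVariables false

namespace Cfsg.Agent.H263.FF.Coprime

open Cfsg.Agent.H263.FF.Basic Cfsg.Agent.H263.FF.Setup Cfsg.Agent.H263.FF.Chief
open scoped Pointwise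

variable {p : ℕ} [hp : Fact p.Prime]
variable {X : Type*} [Group X] [Finite X]

/-! ### quotients -/

section quot

variable {V : Type*} [AddCommGroup V] [DistribMulAction X V]

/-- the action on a quotient -/
@[reducible] noncomputable def quotAct (W : AddSubgroup V) (hW : ∀ (x : X), ∀ v ∈ W, x • v ∈ W) :
    DistribMulAction X (V ⧸ W) where
  smul x := QuotientAddGroup.map W W (DistribSMul.toAddMonoidHom V x) fun v hv => hW x v hv
  one_smul q := by
    induction q using QuotientAddGroup.induction_on with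
    | H v => exact congrArg QuotientAddGroup.mk (one_smul X v)
  mul_smul x y q := by
    induction q using QuotientAddGroup.induction_on with
    | H v => exact congrArg QuotientAddGroup.mk (mul_smul x y v)
  smul_zero x := map_zero _
  smul_add x v w := map_add _ v w

theorem quot_smul (W : AddSubgroup V) (hW : ∀ (x : X), ∀ v ∈ W, x • v ∈ W) (x : X) (v : V) :
    letI := quotAct W hW
    x • (QuotientAddGroup.mk v : V ⧸ W) = QuotientAddGroup.mk (x • v) := rfl

end quot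

variable {V : Type*} [AddCommGroup V] [Finite V] [DistribMulAction X V]

/-- A nontrivial normal subgroup of order prime to `p` moves a vector fixed by `T`. -/
theorem vec_of_p' (h2 : ∀ v : V, p • v = 0) (hf : ∀ x : X, (∀ v : V, x • v = v) → x = 1)
    {Z : Subgroup X} (hZ : Z.Normal) (hZ1 : Z ≠ ⊥) (hZp : ¬ p ∣ Nat.card Z) (T : Sylow p X) :
    ∃ v : V, v ∈ fx V (T : Subgroup X) ∧ v ∉ fx V Z := by
  classical
  have hft : Fintype Z := Fintype.ofFinite Z
  let σ : V →+ V :=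
    { toFun := fun v => ∑ z : Z, (z : X) • v
      map_zero' := by simp
      map_add' := fun v w => by simp [Finset.sum_add_distrib] }
  have hσ : ∀ (z₀ : Z) (v : V), σ ((z₀ : X) • v) = σ v := by
    intro z₀ v
    show (∑ z : Z, (z : X) • (z₀ : X) • v) = ∑ z : Z, (z : X) • v
    rw [← Equiv.sum_comp (Equiv.mulRight z₀) (fun z : Z => (z : X) • v)]
    refine Finset.sum_congr rfl fun z _ => ?_
    rw [← mul_smul]; rfl
  have hσf : ∀ v ∈ fx V Z, σ v = Nat.card Z • v := by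
    intro v hv
    show (∑ z : Z, (z : X) • v) = _
    rw [Finset.sum_congr rfl fun (z : Z) _ => hv (z : X) z.2, Finset.sum_const, Finset.card_univ,
      Nat.card_eq_fintype_card]
  let N : AddSubgroup V := AddSubgroup.closure {w | ∃ z ∈ Z, ∃ v : V, w = z • v - v}
  have hNσ : ∀ n ∈ N, σ n = 0 := by
    intro n hn
    have h1 : N ≤ σ.ker := by
      rw [AddSubgroup.closure_le]
      rintro _ ⟨z, hz, v, rfl⟩
      rw [SetLike.mem_coe, AddMonoidHom.mem_ker, map_sub, hσ ⟨z, hz⟩, sub_self]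
    exact h1 hn
  have hNinv : ∀ x : X, ∀ n ∈ N, x • n ∈ N := by
    intro x
    have h1 : N ≤ N.comap (DistribSMul.toAddMonoidHom V x) := by
      rw [AddSubgroup.closure_le]
      rintro _ ⟨z, hz, v, rfl⟩
      apply AddSubgroup.subset_closure
      refine ⟨x * z * x⁻¹, hZ.conj_mem z hz x, x • v, ?_⟩
      show x • (z • v - v) = _
      rw [smul_sub, smul_smul, smul_smul, inv_mul_cancel_right]
    exact fun n hn => h1 hn
  have hN0 : ¬ N ≤ ⊥ := by
    intro e
    obtain ⟨z, hz, hz1⟩ : ∃ z ∈ Z, z ≠ 1 := by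
      rw [Ne, Subgroup.eq_bot_iff_forall] at hZ1
      push Not at hZ1
      exact hZ1
    apply hz1
    apply hf
    intro v
    have h1 : z • v - v ∈ N := AddSubgroup.subset_closure ⟨z, hz, v, rfl⟩
    have h3 := e h1
    rw [AddSubgroup.mem_bot, sub_eq_zero] at h3
    exact h3
  obtain ⟨v, hvN, hv0, hvT⟩ := exists_fixed (p := p) T.isPGroup' (H := N) (K := ⊥) h2
    (fun t _ v hv => by rw [AddSubgroup.mem_bot] at hv ⊢; rw [hv, smul_zero]) (fun t _ v hv => hNinv t v hv) bot_le hN0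
  refine ⟨v, ?_, ?_⟩
  · intro t ht
    have := hvT t ht
    rw [AddSubgroup.mem_bot, sub_eq_zero] at this
    exact this
  · intro hvZ
    apply hv0
    rw [AddSubgroup.mem_bot]
    have h1 := hσf v hvZ
    rw [hNσ v hvN] at h1
    exact eq_zero_of_coprime (h2 v) hZp h1.symm

/-- the order of an elementary abelian 2-group is prime to `p` -/
theorem not_dvd_of_sq (hp2 : p ≠ 2) {Z : Subgroup X} (hZ : ∀ x ∈ Z, x * x = 1) : ¬ p ∣ Nat.card Z := by
  intro hd
  obtain ⟨x, hx⟩ := exists_prime_orderOf_dvd_card' p hd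
  have h1 : x ^ 2 = 1 := by
    apply Subtype.ext
    have := hZ x x.2
    rw [← pow_two] at this
    simpa using this
  have h3 : orderOf x ∣ 2 := orderOf_dvd_of_pow_eq_one h1
  rw [hx] at h3
  exact hp2 ((Nat.prime_dvd_prime_iff_eq hp.out Nat.prime_two).1 h3)

/-- the reduction to a quotient -/
theorem quot_data (h2 : ∀ v : V, p • v = 0) (hf : ∀ x : X, (∀ v : V, x • v = v) → x = 1)
    (hcore : ∀ N : Subgroup X, N.Normal → IsPGroup p N → N = ⊥)
    {A₀ : Subgroup X} (hoff : Nat.card V ≤ mm V A₀) (T : Sylow p X)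
    (hT : ∀ v : V, v ∈ fx V (T : Subgroup X) → v ∈ fx V (⊤ : Subgroup X)) [Nontrivial V] :
    ∃ (W : AddSubgroup V) (hW : ∀ (x : X), ∀ v ∈ W, x • v ∈ W), Nat.card (V ⧸ W) < Nat.card V ∧
      (∀ v : V ⧸ W, p • v = 0) ∧
      letI := quotAct W hW
      (∀ x : X, (∀ v : V ⧸ W, x • v = v) → x = 1) ∧ Nat.card (V ⧸ W) ≤ mm (V ⧸ W) A₀ := by
  classical
  set W : AddSubgroup V := fx V (⊤ : Subgroup X) with hWd
  have hWf : ∀ (x : X), ∀ v ∈ W, x • v = v := fun x v hv => hv x trivial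
  have hW : ∀ (x : X), ∀ v ∈ W, x • v ∈ W := fun x v hv => by rw [hWf x v hv]; exact hv
  have hW0 : W ≠ ⊥ := by
    intro e
    have hne : ¬ (⊤ : AddSubgroup V) ≤ ⊥ := by
      intro hle
      obtain ⟨v, hv⟩ := exists_ne (0 : V)
      exact hv ((AddSubgroup.mem_bot).1 (hle trivial))
    obtain ⟨v, -, hv0, hvT⟩ := exists_fixed (p := p) T.isPGroup' (H := (⊤ : AddSubgroup V)) (K := ⊥) h2
      (fun t _ v hv => by rw [AddSubgroup.mem_bot] at hv ⊢; rw [hv, smul_zero]) (fun t _ v hv => trivial) bot_le hne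
    apply hv0
    rw [← e]
    apply hT
    intro t ht
    have := hvT t ht
    rw [AddSubgroup.mem_bot, sub_eq_zero] at this
    exact this
  have hcard : Nat.card (V ⧸ W) * Nat.card W = Nat.card V := (AddSubgroup.card_eq_card_quotient_mul_card_addSubgroup W).symm
  have hW1 : 1 < Nat.card W := by
    rw [Finite.one_lt_card_iff_nontrivial]
    by_contra hcon
    rw [not_nontrivial_iff_subsingleton] at hcon
    apply hW0
    rw [AddSubgroup.eq_bot_iff_forall]
    intro x hx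
    exact congrArg Subtype.val (hcon.elim (⟨x, hx⟩ : W) 0)
  refine ⟨W, hW, ?_, ?_, ?_⟩
  · rw [← hcard]
    exact lt_mul_of_one_lt_right Nat.card_pos hW1
  · intro v
    induction v using QuotientAddGroup.induction_on with
    | H v => rw [← QuotientAddGroup.mk_nsmul, h2]; rfl
  · let _ := quotAct W hW
    refine ⟨?_, ?_⟩
    · -- faithful
      let K : Subgroup X :=
        { carrier := {x | ∀ v : V, x • v - v ∈ W}
          one_mem' := fun v => by rw [one_smul, sub_self]; exact W.zero_mem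
          mul_mem' := fun {x y} hx hy v => by
            have e : (x * y) • v - v = x • (y • v - v) + (x • v - v) := by rw [mul_smul, smul_sub]; abel
            rw [e]; exact W.add_mem (hW x _ (hy v)) (hx v)
          inv_mem' := fun {x} hx v => by
            have h1 := hx (x⁻¹ • v)
            rw [smul_inv_smul] at h1
            have := W.neg_mem h1
            rwa [neg_sub] at this }
      have hKn : K.Normal := by
        constructor
        intro k hk x v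
        have e : (x * k * x⁻¹) • v - v = x • (k • (x⁻¹ • v) - x⁻¹ • v) := by
          rw [smul_sub, smul_inv_smul, mul_smul, mul_smul]
        rw [e]; exact hW x _ (hk _)
      have hKp : IsPGroup p K := by
        rintro ⟨k, hk⟩
        refine ⟨1, Subtype.ext ?_⟩
        rw [pow_one]
        apply hf
        intro v
        have key : ∀ n : ℕ, k ^ n • v = v + n • (k • v - v) := by
          intro n
          induction n with
          | zero => simp
          | succ n ih =>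
            rw [pow_succ', mul_smul, ih, smul_add, smul_comm k n, hWf k _ (hk v), succ_nsmul]
            abel
        have := key p
        rw [h2, add_zero] at this
        simpa using this
      have hK : K = ⊥ := hcore K hKn hKp
      intro x hx
      have : x ∈ K := by
        intro v
        have h1 : (QuotientAddGroup.mk (x • v) : V ⧸ W) = QuotientAddGroup.mk v := hx (QuotientAddGroup.mk v)
        rw [QuotientAddGroup.eq] at h1
        have h3 := W.neg_mem h1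
        convert h3 using 1; abel
      rw [hK, Subgroup.mem_bot] at this
      exact this
    · -- offender
      have h3 : Nat.card (fx V A₀) ≤ Nat.card W * Nat.card (fx (V ⧸ W) A₀) := by
        let f : fx V A₀ →+ fx (V ⧸ W) A₀ :=
          { toFun := fun v => ⟨QuotientAddGroup.mk (v : V), fun a ha => by
              show (QuotientAddGroup.mk (a • (v : V)) : V ⧸ W) = _
              rw [v.2 a ha]⟩
            map_zero' := rfl
            map_add' := fun _ _ => rfl }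
        have e1 : Nat.card f.range * Nat.card f.ker = Nat.card (fx V A₀) := by
          rw [← AddSubgroup.index_ker]; exact AddSubgroup.index_mul_card _
        have e2 : Nat.card f.range ≤ Nat.card (fx (V ⧸ W) A₀) := card_le_top _
        have e3 : Nat.card f.ker ≤ Nat.card W := by
          refine Nat.card_le_card_of_injective (fun x : f.ker => (⟨((x : fx V A₀) : V), ?_⟩ : W)) ?_
          · have h4 : f x = 0 := x.2
            have h5 : (QuotientAddGroup.mk (((x : fx V A₀) : V)) : V ⧸ W) = 0 := congrArg Subtype.val h4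
            exact (QuotientAddGroup.eq_zero_iff _).1 h5
          · intro x y hxy
            exact Subtype.ext (Subtype.ext (congrArg (fun w : W => (w : V)) hxy))
        rw [← e1, mul_comm (Nat.card W)]
        exact Nat.mul_le_mul e2 e3
      apply Nat.le_of_mul_le_mul_right _ (card_pos W)
      rw [hcard]
      refine hoff.trans ?_
      rw [mm, mm]
      calc Nat.card A₀ * Nat.card (fx V A₀) ≤ Nat.card A₀ * (Nat.card W * Nat.card (fx (V ⧸ W) A₀)) :=
            Nat.mul_le_mul_left _ h3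
        _ = _ := by ring

/-- **odd `p`: a `p`-minimal group with offenders has a nontrivial normal elementary abelian 2-subgroup** -/
theorem exists_normal (hp2 : p ≠ 2) (hX : Cfsg.IsPMinimal p X)
    (hcore : ∀ N : Subgroup X, N.Normal → IsPGroup p N → N = ⊥) {A₀ : Subgroup X} (h0 : EA p A₀) (hne : A₀ ≠ ⊥) :
    ∀ (n : ℕ) (V : Type*) [AddCommGroup V] [Finite V] [DistribMulAction X V], Nat.card V = n →
      (∀ v : V, p • v = 0) → (∀ x : X, (∀ v : V, x • v = v) → x = 1) → Nat.card V ≤ mm V A₀ →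
      ∃ Z : Subgroup X, Z.Normal ∧ Z ≠ ⊥ ∧ (∀ x ∈ Z, ∀ y ∈ Z, x * y = y * x) ∧ ∀ x ∈ Z, x * x = 1 := by
  intro n
  induction n using Nat.strong_induction_on with
  | _ n ih =>
    intro V _ _ _ hn h2 hf hoff
    obtain ⟨T⟩ : Nonempty (Sylow p X) := inferInstance
    by_cases hvec : ∃ v : V, v ∈ fx V (T : Subgroup X) ∧ v ∉ fx V (⊤ : Subgroup X)
    · obtain ⟨𝒟, h⟩ := PMin.exists_hyp hX h2 hf hcore ⟨T, hvec⟩ h0 hne hoff
      obtain ⟨r, A, L, z, o⟩ := OddNat.exists_out h hp2 T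
      exact o.exists_normal_p' hf (PMin.max_mx hX T)
    · push Not at hvec
      have hnt : Nontrivial V := by
        by_contra hcon
        rw [not_nontrivial_iff_subsingleton] at hcon
        apply hne
        rw [Subgroup.eq_bot_iff_forall]
        intro x _
        exact hf x fun v => Subsingleton.elim _ _
      obtain ⟨W, hW, h1, h3, h4, h5⟩ := quot_data h2 hf hcore hoff T hvec
      let _ := quotAct W hW
      exact ih _ (hn ▸ h1) (V ⧸ W) rfl h3 h4 h5

/-- **odd `p`: in a `p`-minimal group with offenders, `T` fixes a vector moved by `X`** -/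
theorem exists_vec (hp2 : p ≠ 2) (hX : Cfsg.IsPMinimal p X)
    (hcore : ∀ N : Subgroup X, N.Normal → IsPGroup p N → N = ⊥) {A₀ : Subgroup X} (h0 : EA p A₀) (hne : A₀ ≠ ⊥)
    (h2 : ∀ v : V, p • v = 0) (hf : ∀ x : X, (∀ v : V, x • v = v) → x = 1) (hoff : Nat.card V ≤ mm V A₀)
    (T : Sylow p X) : ∃ v : V, v ∈ fx V (T : Subgroup X) ∧ v ∉ fx V (⊤ : Subgroup X) := by
  obtain ⟨Z, hZ, hZ1, -, hZ2⟩ := exists_normal hp2 hX hcore h0 hne _ V rfl h2 hf hoff
  obtain ⟨v, hv, hv'⟩ := vec_of_p' h2 hf hZ hZ1 (not_dvd_of_sq hp2 hZ2) T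
  exact ⟨v, hv, fun e => hv' (fx_anti le_top e)⟩

end Cfsg.Agent.H263.FF.Coprime
end

-- part: H263/FF/Trans
section
/-!
# FF-modules: translation from an action to subgroups of a group
-/

set_option autoImplicit false
set_option linter.unusedSectionVars false
set_option linter.unusedVariables false

namespace Cfsg.Agent.H263.FF.Trans

open Cfsg.Agent.H263.FF.Basic Cfsg.Agent.H263.FF.Setup
open scoped commutatorElement

variable {G : Type*} [Group G]

/-- `V` as an additive group -/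
@[reducible] def acg (V : Subgroup G) (hV : ∀ a ∈ V, ∀ b ∈ V, a * b = b * a) : AddCommGroup (Additive ↥V) :=
  { (inferInstance : AddGroup (Additive ↥V)) with
    add_comm := fun a b => congrArg Additive.ofMul (Subtype.ext (hV (Additive.toMul a : ↥V) (Additive.toMul a).2
      (Additive.toMul b : ↥V) (Additive.toMul b).2)) }

variable {V P : Subgroup G}

theorem conj_mem (hPV : P ≤ Subgroup.normalizer (V : Set G)) {x v : G} (hx : x ∈ P) (hv : v ∈ V) : x * v * x⁻¹ ∈ V :=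
  (Subgroup.mem_normalizer_iff.1 (hPV hx) v).1 hv

/-- the conjugation action -/
@[reducible] def actn (hV : ∀ a ∈ V, ∀ b ∈ V, a * b = b * a) (hPV : P ≤ Subgroup.normalizer (V : Set G)) :
    @DistribMulAction ↥P (Additive ↥V) _ (acg V hV).toAddMonoid :=
  letI := acg V hV
  { smul := fun x v => Additive.ofMul ⟨(x : G) * (Additive.toMul v : ↥V) * (x : G)⁻¹, conj_mem hPV x.2 (Additive.toMul v).2⟩
    one_smul := fun v => congrArg Additive.ofMul (Subtype.ext (by
      show ((1 : ↥P) : G) * (Additive.toMul v : ↥V) * ((1 : ↥P) : G)⁻¹ = ((Additive.toMul v : ↥V) : G)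
      simp))
    mul_smul := fun x y v => congrArg Additive.ofMul (Subtype.ext (by
      show ((x * y : ↥P) : G) * (Additive.toMul v : ↥V) * ((x * y : ↥P) : G)⁻¹ =
        (x : G) * ((y : G) * (Additive.toMul v : ↥V) * (y : G)⁻¹) * (x : G)⁻¹
      rw [Subgroup.coe_mul]; group))
    smul_zero := fun x => congrArg Additive.ofMul (Subtype.ext (by
      show (x : G) * ((1 : ↥V) : G) * (x : G)⁻¹ = ((1 : ↥V) : G)
      simp))
    smul_add := fun x v w => congrArg Additive.ofMul (Subtype.ext (by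
      show (x : G) * ((Additive.toMul v * Additive.toMul w : ↥V) : G) * (x : G)⁻¹ =
        ((x : G) * (Additive.toMul v : ↥V) * (x : G)⁻¹) * ((x : G) * (Additive.toMul w : ↥V) * (x : G)⁻¹)
      rw [Subgroup.coe_mul]; group)) }

/-- the underlying element of `G` -/
def val (v : Additive ↥V) : G := ((Additive.toMul v : ↥V) : G)

theorem val_mem (v : Additive ↥V) : val v ∈ V := (Additive.toMul v).2

theorem val_inj {v w : Additive ↥V} (h : val v = val w) : v = w :=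
  congrArg Additive.ofMul (Subtype.ext h : (Additive.toMul v : ↥V) = Additive.toMul w)

/-- the element of the module -/
def mk {g : G} (hg : g ∈ V) : Additive ↥V := Additive.ofMul ⟨g, hg⟩

theorem val_mk {g : G} (hg : g ∈ V) : val (mk hg) = g := rfl

theorem mk_val (v : Additive ↥V) : mk (val_mem v) = v := rfl

section

variable (hV : ∀ a ∈ V, ∀ b ∈ V, a * b = b * a) (hPV : P ≤ Subgroup.normalizer (V : Set G))

theorem val_add (v w : Additive ↥V) : letI := acg V hV; val (v + w) = val v * val w := rfl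
theorem val_neg (v : Additive ↥V) : letI := acg V hV; val (-v) = (val v)⁻¹ := rfl
theorem val_sub (v w : Additive ↥V) : letI := acg V hV; val (v - w) = val v / val w := rfl
theorem val_zero : letI := acg V hV; val (0 : Additive ↥V) = 1 := rfl
theorem val_smul (x : ↥P) (v : Additive ↥V) : letI := acg V hV; letI := actn hV hPV; val (x • v) = x * val v * (x : G)⁻¹ := rfl

theorem smul_eq_iff (x : ↥P) (v : Additive ↥V) : letI := acg V hV; letI := actn hV hPV
    x • v = v ↔ (x : G) * val v = val v * x := by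
  letI := acg V hV
  letI := actn hV hPV
  constructor
  · intro h
    have h1 := congrArg val h
    rw [val_smul, mul_inv_eq_iff_eq_mul] at h1
    exact h1
  · intro h
    apply val_inj
    rw [val_smul, mul_inv_eq_iff_eq_mul]
    exact h

theorem mem_fx_iff (A : Subgroup ↥P) (v : Additive ↥V) : letI := acg V hV; letI := actn hV hPV
    v ∈ fx (Additive ↥V) A ↔ val v ∈ Subgroup.centralizer ((A.map P.subtype : Subgroup G) : Set G) := by
  letI := acg V hV
  letI := actn hV hPV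
  rw [mem_fx, Subgroup.mem_centralizer_iff]
  constructor
  · rintro h _ ⟨a, ha, rfl⟩
    exact (smul_eq_iff hV hPV a v).1 (h a ha)
  · intro h a ha
    exact (smul_eq_iff hV hPV a v).2 (h a ⟨a, ha, rfl⟩)

theorem card_fx (A : Subgroup ↥P) : letI := acg V hV; letI := actn hV hPV
    Nat.card (fx (Additive ↥V) A) =
      Nat.card ↥(V ⊓ Subgroup.centralizer ((A.map P.subtype : Subgroup G) : Set G)) := by
  letI := acg V hV
  letI := actn hV hPV
  exact Nat.card_congr ⟨fun v => ⟨val v.1, val_mem v.1, (mem_fx_iff hV hPV A v.1).1 v.2⟩,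
    fun v => ⟨mk v.2.1, (mem_fx_iff hV hPV A _).2 v.2.2⟩, fun _ => rfl, fun _ => rfl⟩

theorem faithful (hfaith : P ⊓ Subgroup.centralizer (V : Set G) = ⊥) : letI := acg V hV; letI := actn hV hPV
    ∀ x : ↥P, (∀ v : Additive ↥V, x • v = v) → x = 1 := by
  letI := acg V hV
  letI := actn hV hPV
  intro x hx
  have h1 : (x : G) ∈ P ⊓ Subgroup.centralizer (V : Set G) := by
    refine Subgroup.mem_inf.2 ⟨x.2, ?_⟩
    rw [Subgroup.mem_centralizer_iff]
    intro v hv
    exact ((smul_eq_iff hV hPV x (mk hv)).1 (hx _)).symm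
  rw [hfaith, Subgroup.mem_bot] at h1
  exact Subtype.ext h1

end

theorem nsmul_eq_zero {p : ℕ} (hV : ∀ a ∈ V, ∀ b ∈ V, a * b = b * a) (hVp : ∀ a ∈ V, a ^ p = 1) :
    letI := acg V hV; ∀ v : Additive ↥V, p • v = 0 := by
  letI := acg V hV
  intro v
  apply val_inj
  show ((Additive.toMul v ^ p : ↥V) : G) = 1
  rw [Subgroup.coe_pow]
  exact hVp _ (Additive.toMul v).2

/-- the subgroup of `G` belonging to a submodule -/
def toG (hV : ∀ a ∈ V, ∀ b ∈ V, a * b = b * a) : letI := acg V hV; AddSubgroup (Additive ↥V) → Subgroup G :=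
  letI := acg V hV
  fun N =>
  { carrier := {g | ∃ v ∈ N, val v = g}
    one_mem' := ⟨0, zero_mem _, rfl⟩
    mul_mem' := by
      rintro _ _ ⟨v, hv, rfl⟩ ⟨w, hw, rfl⟩
      exact ⟨v + w, add_mem hv hw, rfl⟩
    inv_mem' := by
      rintro _ ⟨v, hv, rfl⟩
      exact ⟨-v, neg_mem hv, rfl⟩ }

theorem mem_toG (hV : ∀ a ∈ V, ∀ b ∈ V, a * b = b * a) : letI := acg V hV; ∀ (N : AddSubgroup (Additive ↥V)) (g : G),
    g ∈ toG hV N ↔ ∃ v ∈ N, val v = g := fun N g => Iff.rfl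

theorem val_mem_toG (hV : ∀ a ∈ V, ∀ b ∈ V, a * b = b * a) : letI := acg V hV; ∀ (N : AddSubgroup (Additive ↥V))
    (v : Additive ↥V), val v ∈ toG hV N ↔ v ∈ N := by
  letI := acg V hV
  intro N v
  constructor
  · rintro ⟨w, hw, e⟩
    rw [← val_inj e]; exact hw
  · intro h; exact ⟨v, h, rfl⟩

theorem toG_le (hV : ∀ a ∈ V, ∀ b ∈ V, a * b = b * a) : letI := acg V hV; ∀ (N : AddSubgroup (Additive ↥V)),
    toG hV N ≤ V := by
  letI := acg V hV
  rintro N _ ⟨v, -, rfl⟩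
  exact val_mem v

theorem toG_mono (hV : ∀ a ∈ V, ∀ b ∈ V, a * b = b * a) : letI := acg V hV; ∀ {N N' : AddSubgroup (Additive ↥V)},
    N ≤ N' → toG hV N ≤ toG hV N' := by
  letI := acg V hV
  rintro N N' h _ ⟨v, hv, rfl⟩
  exact ⟨v, h hv, rfl⟩

/-- the offender in `P` -/
theorem offender {p : ℕ} [Finite G] (hV : ∀ a ∈ V, ∀ b ∈ V, a * b = b * a)
    (hPV : P ≤ Subgroup.normalizer (V : Set G)) (hfaith : P ⊓ Subgroup.centralizer (V : Set G) = ⊥)
    {A : Subgroup G} (hAP : A ≤ P) (hA : ¬ A ≤ Subgroup.centralizer (V : Set G)) (hb : Cfsg.IsBestOffenderOn p V A) :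
    letI := acg V hV; letI := actn hV hPV
    EA p (A.subgroupOf P) ∧ A.subgroupOf P ≠ ⊥ ∧ Nat.card (Additive ↥V) ≤ mm (Additive ↥V) (A.subgroupOf P) := by
  letI := acg V hV
  letI := actn hV hPV
  have hbot : ∀ x ∈ A, x ∈ Subgroup.centralizer (V : Set G) → x = 1 := by
    intro x hx hxC
    have : x ∈ P ⊓ Subgroup.centralizer (V : Set G) := ⟨hAP hx, hxC⟩
    rwa [hfaith, Subgroup.mem_bot] at this
  refine ⟨⟨?_, ?_⟩, ?_, ?_⟩
  · intro a ha b hb'
    rw [Subgroup.mem_subgroupOf] at ha hb'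
    apply Subtype.ext
    have h1 : ⁅(a : G), (b : G)⁆ ∈ A := by
      rw [commutatorElement_def]
      exact mul_mem (mul_mem (mul_mem ha hb') (inv_mem ha)) (inv_mem hb')
    have h2 := hbot _ h1 (hb.2.1 (Subgroup.commutator_mem_commutator ha hb'))
    exact commutatorElement_eq_one_iff_mul_comm.1 h2
  · intro a ha
    rw [Subgroup.mem_subgroupOf] at ha
    apply Subtype.ext
    have h2 := hbot _ (pow_mem ha p) (hb.2.2 a ha)
    simpa using h2
  · intro e
    apply hA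
    intro a ha
    have h1 : (⟨a, hAP ha⟩ : ↥P) ∈ A.subgroupOf P := Subgroup.mem_subgroupOf.2 ha
    rw [e, Subgroup.mem_bot] at h1
    have h2 : a = 1 := congrArg Subtype.val h1
    rw [h2]; exact one_mem _
  · have h1 := hb.1 ⊥ bot_le
    have e1 : V ⊓ Subgroup.centralizer ((⊥ : Subgroup G) : Set G) = V := by
      rw [inf_eq_left]
      intro v _
      rw [Subgroup.mem_centralizer_iff]
      intro x hx
      rw [SetLike.mem_coe, Subgroup.mem_bot] at hx
      rw [hx, one_mul, mul_one]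
    rw [Subgroup.card_bot, one_mul, e1] at h1
    have e2 : (A.subgroupOf P).map P.subtype = A := by
      rw [Subgroup.subgroupOf_map_subtype, inf_eq_left.2 hAP]
    rw [mm, card_fx hV hPV, e2]
    have e3 : Nat.card (A.subgroupOf P) = Nat.card A := Nat.card_congr (Subgroup.subgroupOfEquivOfLe hAP).toEquiv
    rw [e3]
    exact h1

end Cfsg.Agent.H263.FF.Trans
end

-- part: H263/FF/OddMain
section
/-!
# `p`-minimal groups with offenders, odd `p`: the statements about subgroups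
-/

set_option autoImplicit false
set_option linter.unusedSectionVars false
set_option linter.unusedVariables false
set_option linter.style.haveILetI false

namespace Cfsg.Agent.H263.FF.OddMain

open Cfsg.Agent.H263.FF.Basic Cfsg.Agent.H263.FF.Setup Cfsg.Agent.H263.FF.Trans Cfsg.Agent.H263.FF.Odd
open Cfsg.Agent.H263.FF.OddNat
open scoped commutatorElement

variable {G : Type*} [Group G] {V P : Subgroup G}

theorem core_of {p : ℕ} {H : Type*} [Group H] (h : Cfsg.pCore p H = ⊥) (N : Subgroup H) (hN : N.Normal)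
    (hp : IsPGroup p N) : N = ⊥ := by
  rw [eq_bot_iff, ← h]
  exact le_sSup ⟨hN, hp⟩

theorem comm_of {p : ℕ} (hV : Cfsg.IsElementaryAbelian p V) : ∀ a ∈ V, ∀ b ∈ V, a * b = b * a := fun a ha b hb =>
  congrArg Subtype.val (hV.1.is_comm.comm (⟨a, ha⟩ : ↥V) ⟨b, hb⟩)

/-- if `P` moves a vector of `C_V(T)` then `[C_V(T), P] ≠ 1` -/
theorem commutator_ne (hV : ∀ a ∈ V, ∀ b ∈ V, a * b = b * a) (hPV : P ≤ Subgroup.normalizer (V : Set G))
    (T : Subgroup ↥P) : letI := acg V hV; letI := actn hV hPV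
    (∃ v : Additive ↥V, v ∈ fx (Additive ↥V) T ∧ v ∉ fx (Additive ↥V) (⊤ : Subgroup ↥P)) →
    ⁅(V ⊓ Subgroup.centralizer (((T.map P.subtype) : Subgroup G) : Set G)), P⁆ ≠ ⊥ := by
  letI := acg V hV
  letI := actn hV hPV
  rintro ⟨v, hv, hv'⟩ e
  apply hv'
  intro x _
  rw [smul_eq_iff]
  have h1 : ⁅val v, (x : G)⁆ ∈ ⁅(V ⊓ Subgroup.centralizer (((T.map P.subtype) : Subgroup G) : Set G)), P⁆ :=
    Subgroup.commutator_mem_commutator ⟨val_mem v, (mem_fx_iff hV hPV T v).1 hv⟩ x.2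
  rw [e, Subgroup.mem_bot] at h1
  exact (commutatorElement_eq_one_iff_mul_comm.1 h1).symm

/-- S3001 for odd `p` -/
theorem s3001_odd [Finite G] {p : ℕ} [Fact p.Prime] (hp2 : p ≠ 2) (hV : Cfsg.IsElementaryAbelian p V)
    (hPV : P ≤ Subgroup.normalizer (V : Set G)) (hfaith : P ⊓ Subgroup.centralizer (V : Set G) = ⊥)
    (hmin : Cfsg.IsPMinimal p ↥P) (hOp : Cfsg.pCore p ↥P = ⊥)
    (hoff : ∃ A : Subgroup G, A ≤ P ∧ ¬ A ≤ Subgroup.centralizer (V : Set G) ∧ Cfsg.IsBestOffenderOn p V A)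
    (T : Sylow p ↥P) :
    ⁅(V ⊓ Subgroup.centralizer ((((T : Subgroup ↥P).map P.subtype) : Subgroup G) : Set G)), P⁆ ≠ ⊥ := by
  have hc := comm_of hV
  obtain ⟨A, hAP, hA, hb⟩ := hoff
  obtain ⟨h1, h2, h3⟩ := offender hc hPV hfaith hAP hA hb
  letI := acg V hc
  letI := actn hc hPV
  apply commutator_ne hc hPV
  exact Coprime.exists_vec hp2 hmin (core_of hOp) h1 h2 (nsmul_eq_zero hc hV.2) (faithful hc hPV hfaith) h3 T

/-! ### the structure theorem -/

/-- the action on a natural module, in subgroup language -/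
theorem actsAs (hV : ∀ a ∈ V, ∀ b ∈ V, a * b = b * a) (hPV : P ≤ Subgroup.normalizer (V : Set G)) :
    letI := acg V hV; letI := actn hV hPV
    ∀ (F : Type) [Field F] (L : Subgroup ↥P) (N : AddSubgroup (Additive ↥V))
      (ρ : ↥L ≃* Matrix.SpecialLinearGroup (Fin 2) F) (e : ↥N ≃+ (Fin 2 → F)), IsNat F L N ρ e →
      (∀ v ∈ N, v ∈ fx (Additive ↥V) L → v = 0) →
      Cfsg.ActsAsSL2OnSection F ⊤ (L.map P.subtype) (toG hV N)
        (toG hV N ⊓ Subgroup.centralizer ((L.map P.subtype : Subgroup G) : Set G)) := by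
  letI := acg V hV
  letI := actn hV hPV
  intro F _ L N ρ e hn h0
  refine ⟨?_, inf_le_left, ?_⟩
  · rintro _ ⟨l, hl, rfl⟩
    rw [Subgroup.mem_normalizer_iff]
    have key : ∀ l ∈ L, ∀ g ∈ toG hV N, (l : G) * g * (l : G)⁻¹ ∈ toG hV N := by
      rintro l hl _ ⟨v, hv, rfl⟩
      exact ⟨l • v, hn.inv l hl v hv, rfl⟩
    intro g
    show g ∈ toG hV N ↔ (l : G) * g * (l : G)⁻¹ ∈ toG hV N
    constructor
    · exact key l hl g
    · intro h1
      have h2 := key l⁻¹ (inv_mem hl) _ h1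
      have e1 : ((l⁻¹ : ↥P) : G) * ((l : G) * g * (l : G)⁻¹) * ((l⁻¹ : ↥P) : G)⁻¹ = g := by
        rw [Subgroup.coe_inv]; group
      rwa [e1] at h2
  · let ε : ↥(L.map P.subtype) ≃* ↥L := (L.equivMapOfInjective P.subtype P.subtype_injective).symm
    have hε : ∀ x : ↥(L.map P.subtype), (((ε x : ↥L) : ↥P) : G) = (x : G) := by
      intro x
      have h1 := (L.coe_equivMapOfInjective_apply P.subtype P.subtype_injective (ε x))
      rw [MulEquiv.apply_symm_apply] at h1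
      exact h1.symm
    have hu : ∀ u : ↥(toG hV N), (mk (toG_le hV N u.2) : Additive ↥V) ∈ N := by
      rintro ⟨_, v, hv, rfl⟩
      exact hv
    let ψ : ↥(toG hV N) →* Multiplicative (Fin 2 → F) :=
      { toFun := fun u => Multiplicative.ofAdd (e ⟨mk (toG_le hV N u.2), hu u⟩)
        map_one' := by
          have : (⟨mk (toG_le hV N (1 : ↥(toG hV N)).2), hu 1⟩ : ↥N) = 0 := Subtype.ext rfl
          rw [this, map_zero]; rfl
        map_mul' := fun u w => by
          have : (⟨mk (toG_le hV N (u * w).2), hu (u * w)⟩ : ↥N) =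
              ⟨mk (toG_le hV N u.2), hu u⟩ + ⟨mk (toG_le hV N w.2), hu w⟩ := Subtype.ext rfl
          rw [this, map_add]; rfl }
    have hψ : ∀ u, Multiplicative.toAdd (ψ u) = e ⟨mk (toG_le hV N u.2), hu u⟩ := fun u => rfl
    refine ⟨ρ.toMonoidHom.comp ε.toMonoidHom, ψ, ?_, ?_, ?_, ?_⟩
    · rw [MonoidHom.range_eq_top]
      exact ρ.surjective.comp ε.surjective
    · intro x
      obtain ⟨⟨v, hv⟩, hx⟩ := e.surjective (Multiplicative.toAdd x)
      exact ⟨⟨val v, v, hv, rfl⟩, congrArg Multiplicative.ofAdd hx⟩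
    · intro u
      constructor
      · intro h1
        have h2 : e ⟨mk (toG_le hV N u.2), hu u⟩ = 0 := by
          rw [← hψ, h1]; rfl
        have h3 := congrArg Subtype.val (e.injective (h2.trans (map_zero e).symm))
        have h4 : (u : G) = 1 := congrArg val h3
        rw [h4]; exact one_mem _
      · rintro ⟨-, h1⟩
        have h2 : mk (toG_le hV N u.2) ∈ fx (Additive ↥V) L := (mem_fx_iff hV hPV L _).2 h1
        have h3 := h0 _ (hu u) h2
        have h4 : (⟨mk (toG_le hV N u.2), hu u⟩ : ↥N) = 0 := Subtype.ext h3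
        show Multiplicative.ofAdd (e ⟨mk (toG_le hV N u.2), hu u⟩) = 1
        rw [h4, map_zero]; rfl
    · intro x u
      have hxL : (ε x : ↥P) ∈ L := (ε x).2
      refine ⟨⟨(x : G) * u * (x : G)⁻¹, ?_⟩, rfl, ?_⟩
      · refine ⟨(ε x : ↥P) • mk (toG_le hV N u.2), hn.inv _ hxL _ (hu u), ?_⟩
        rw [val_smul, hε]; rfl
      · rw [hψ, hψ]
        apply hn.act (ε x)
        apply val_inj
        show (x : G) * (u : G) * (x : G)⁻¹ = ((ε x : ↥P) : G) * (u : G) * ((ε x : ↥P) : G)⁻¹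
        rw [hε]

theorem commutator_toG (hV : ∀ a ∈ V, ∀ b ∈ V, a * b = b * a) (hPV : P ≤ Subgroup.normalizer (V : Set G)) {p : ℕ}
    [hp : Fact p.Prime] (hp2 : p ≠ 2) (hVp : ∀ a ∈ V, a ^ p = 1) [Finite G] : letI := acg V hV; letI := actn hV hPV
    ∀ (L : Subgroup ↥P) (z : ↥P), z ∈ L → (∀ l ∈ L, ∀ v : Additive ↥V, l • v - v ∈ ng (Additive ↥V) z) →
      ⁅V, L.map P.subtype⁆ = toG hV (ng (Additive ↥V) z) := by
  letI := acg V hV
  letI := actn hV hPV
  intro L z hz hL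
  have key : ∀ (w : Additive ↥V) (l : ↥P), ⁅val w, (l : G)⁆ = val (w - l • w) := by
    intro w l
    show val w * (l : G) * (val w)⁻¹ * (l : G)⁻¹ = val w / ((l : G) * val w * (l : G)⁻¹)
    rw [div_eq_mul_inv]
    group
  apply le_antisymm
  · rw [Subgroup.commutator_le]
    rintro v hv _ ⟨l, hl, rfl⟩
    have e : ⁅v, P.subtype l⁆ = val (mk hv - l • mk hv : Additive ↥V) := key (mk hv) l
    rw [e, val_mem_toG]
    have h1 := neg_mem (hL l hl (mk hv))
    rwa [neg_sub] at h1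
  · rintro _ ⟨n, hn, rfl⟩
    obtain ⟨w, hw⟩ := exists_half (p := p) (nsmul_eq_zero hV hVp) hp2 n
    have hw' : w ∈ ng (Additive ↥V) z := half_mem (p := p) (nsmul_eq_zero hV hVp) hp2 (by rw [hw]; exact hn)
    have e : n = w - z • w := by rw [mem_ng.1 hw', sub_neg_eq_add, hw]
    rw [e, ← key]
    exact Subgroup.commutator_mem_commutator (val_mem w) ⟨z, hz, rfl⟩

theorem map_cj (s : ↥P) (L : Subgroup ↥P) :
    (L.map P.subtype).map (MulAut.conj (s : G)).toMonoidHom = (cj s L).map P.subtype := by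
  ext x
  constructor
  · rintro ⟨_, ⟨l, hl, rfl⟩, rfl⟩
    exact ⟨s * l * s⁻¹, mem_cj_of hl, rfl⟩
  · rintro ⟨l, hl, rfl⟩
    rw [SetLike.mem_coe, mem_cj] at hl
    refine ⟨_, ⟨_, hl, rfl⟩, ?_⟩
    show (s : G) * ((s⁻¹ * l * s : ↥P) : G) * (s : G)⁻¹ = l
    simp [mul_assoc]

/-- S3000 for odd `p` -/
theorem s3000_odd [Finite G] {p : ℕ} [hp : Fact p.Prime] (hp2 : p ≠ 2) (hVe : Cfsg.IsElementaryAbelian p V)
    (hPV : P ≤ Subgroup.normalizer (V : Set G)) (hfaith : P ⊓ Subgroup.centralizer (V : Set G) = ⊥)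
    (hmin : Cfsg.IsPMinimal p ↥P) (T : Sylow p ↥P) (hOp : Cfsg.pCore p ↥P = ⊥)
    (hoff : ∃ A : Subgroup G, A ≤ P ∧ ¬ A ≤ Subgroup.centralizer (V : Set G) ∧ Cfsg.IsBestOffenderOn p V A) :
    ∃ (r : ℕ) (E : Fin r → Subgroup G), 1 ≤ r ∧ (∀ i, E i ≤ P) ∧ (∀ i j, i ≠ j → ⁅E i, E j⁆ = ⊥) ∧
      (∀ i, E i ⊓ (⨆ j ∈ {j | j ≠ i}, E j) = ⊥) ∧ (⨆ i, E i) ⊔ ((T : Subgroup ↥P).map P.subtype) = P ∧
      (∀ i j, ∃ t ∈ ((T : Subgroup ↥P).map P.subtype), (E i).map (MulAut.conj t).toMonoidHom = E j) ∧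
      (V ⊓ Subgroup.centralizer (((⨆ i, E i) : Subgroup G) : Set G)) ⊔ (⨆ i, ⁅V, E i⁆) = V ∧
      (∀ i j, i ≠ j → ⁅⁅V, E i⁆, E j⁆ = ⊥) ∧
      ∀ i, ∃ n : ℕ, 1 ≤ n ∧ ((∃ (F : Type) (_ : Field F) (_ : Fintype F), Fintype.card F = p ^ n ∧
        Nonempty (↥(E i) ≃* Matrix.SpecialLinearGroup (Fin 2) F) ∧
        Cfsg.ActsAsSL2OnSection F ⊤ (E i) ⁅V, E i⁆ (⁅V, E i⁆ ⊓ Subgroup.centralizer ((E i : Subgroup G) : Set G))) ∨
        (p = 2 ∧ Nonempty (↥(E i) ≃* Equiv.Perm (Fin (2 ^ n + 1))) ∧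
          Cfsg.ActsAsOddPermModuleOnSection (2 ^ n + 1) ⊤ (E i) ⁅V, E i⁆
            (⁅V, E i⁆ ⊓ Subgroup.centralizer ((E i : Subgroup G) : Set G)))) := by
  have hc := comm_of hVe
  obtain ⟨A₀, hAP, hA, hb⟩ := hoff
  obtain ⟨h1, h2, h3⟩ := offender hc hPV hfaith hAP hA hb
  letI := acg V hc
  letI := actn hc hPV
  have hV2 : ∀ v : Additive ↥V, p • v = 0 := nsmul_eq_zero hc hVe.2
  have hf := faithful hc hPV hfaith
  have hcore := core_of hOp
  have hvec := Coprime.exists_vec hp2 hmin hcore h1 h2 hV2 hf h3 T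
  obtain ⟨𝒟, h⟩ := PMin.exists_hyp hmin hV2 hf hcore ⟨T, hvec⟩ h1 h2 h3
  obtain ⟨r, A, L, z, o⟩ := OddNat.exists_out h hp2 T
  have hcomm : ∀ i, ⁅V, (L i).map P.subtype⁆ = toG hc (ng (Additive ↥V) (z i)) := fun i =>
    commutator_toG hc hPV hp2 hVe.2 (L i) (z i) (o.isZ i).mem (o.dl i)
  have hsup : (⨆ i, (L i).map P.subtype) = (⨆ i, L i).map P.subtype := (Subgroup.map_iSup _ _).symm
  have hle : ∀ i, ⁅V, (L i).map P.subtype⁆ ≤ V := fun i => by rw [hcomm]; exact toG_le hc _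
  refine ⟨r, fun i => (L i).map P.subtype, o.pos, ?_, ?_, ?_, ?_, ?_, ?_, ?_, ?_⟩
  · rintro i _ ⟨x, -, rfl⟩; exact x.2
  · intro i j hij
    rw [Subgroup.commutator_eq_bot_iff_le_centralizer]
    rintro _ ⟨x, hx, rfl⟩
    rw [Subgroup.mem_centralizer_iff]
    rintro _ ⟨y, hy, rfl⟩
    exact (congrArg Subtype.val (o.comm i j hij x hx y hy)).symm
  · intro i
    have e : (⨆ j ∈ {j | j ≠ i}, (L j).map P.subtype) = (⨆ j ∈ {j | j ≠ i}, L j).map P.subtype := by
      rw [Subgroup.map_iSup]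
      refine iSup_congr fun j => ?_
      rw [Subgroup.map_iSup]
    show (L i).map P.subtype ⊓ (⨆ j ∈ {j | j ≠ i}, (L j).map P.subtype) = ⊥
    rw [e, ← Subgroup.map_inf _ _ _ P.subtype_injective, o.inf_eq hf hV2 hp2 i, Subgroup.map_bot]
  · rw [hsup, ← Subgroup.map_sup, o.sup_eq (PMin.max_mx hmin T)]
    rw [← MonoidHom.range_eq_map, Subgroup.range_subtype]
  · intro i j
    obtain ⟨t, ht, -, e, -⟩ := o.trans i j
    refine ⟨t, ⟨t, ht, rfl⟩, ?_⟩
    show ((L i).map P.subtype).map (MulAut.conj (t : G)).toMonoidHom = (L j).map P.subtype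
    rw [map_cj, e]
  · apply le_antisymm (sup_le inf_le_left (iSup_le hle))
    intro g hg
    have h4 : (mk hg : Additive ↥V) ∈ fx (Additive ↥V) (⨆ i, L i) ⊔ (⨆ i, ng (Additive ↥V) (z i)) := by
      rw [o.decomp hV2 hp2]; trivial
    obtain ⟨u, hu, n, hn, e⟩ := mem_sup h4
    have e1 : g = val u * val n := by rw [← val_mk hg, ← e]; rfl
    rw [e1]
    refine Subgroup.mul_mem_sup ⟨val_mem u, ?_⟩ ?_
    · rw [hsup]; exact (mem_fx_iff hc hPV _ u).1 hu
    · let S : AddSubgroup (Additive ↥V) :=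
        { carrier := {v | val v ∈ ⨆ i, ⁅V, (L i).map P.subtype⁆}
          zero_mem' := by
            show (1 : G) ∈ ⨆ i, ⁅V, (L i).map P.subtype⁆
            exact one_mem _
          add_mem' := by
            intro v w hv hw
            show val v * val w ∈ ⨆ i, ⁅V, (L i).map P.subtype⁆
            exact mul_mem hv hw
          neg_mem' := by
            intro v hv
            show (val v)⁻¹ ∈ ⨆ i, ⁅V, (L i).map P.subtype⁆
            exact inv_mem hv }
      have h5 : (⨆ i, ng (Additive ↥V) (z i)) ≤ S := by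
        refine iSup_le fun i v hv => ?_
        show val v ∈ ⨆ i, ⁅V, (L i).map P.subtype⁆
        apply (le_iSup (fun i => ⁅V, (L i).map P.subtype⁆) i)
        rw [hcomm, val_mem_toG]; exact hv
      exact h5 hn
  · intro i j hij
    rw [Subgroup.commutator_eq_bot_iff_le_centralizer, hcomm]
    rintro _ ⟨n, hn, rfl⟩
    exact (mem_fx_iff hc hPV _ n).1 (o.ngfx i j hij hn)
  · intro i
    obtain ⟨F, hF, hFt, hcard, ρ, e, hn, -⟩ := o.nat i
    have hEA := h.ea _ (o.memD i)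
    obtain ⟨n, hn'⟩ := IsPGroup.iff_card.1 hEA.isPGroup
    have hn1 : 1 ≤ n := by
      by_contra hcon
      have hn0 : n = 0 := by omega
      rw [hn0, pow_zero] at hn'
      have := h.two_le (o.memD i)
      omega
    refine ⟨n, hn1, Or.inl ⟨F, hF, hFt, hcard.trans hn', ?_, ?_⟩⟩
    · exact ⟨((L i).equivMapOfInjective P.subtype P.subtype_injective).symm.trans ρ⟩
    · show Cfsg.ActsAsSL2OnSection F ⊤ ((L i).map P.subtype) ⁅V, (L i).map P.subtype⁆
        (⁅V, (L i).map P.subtype⁆ ⊓ Subgroup.centralizer (((L i).map P.subtype : Subgroup G) : Set G))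
      rw [hcomm]
      exact actsAs hc hPV F (L i) _ ρ e hn fun v hv hv' => (o.isZ i).inf hV2 hp2 hv' hv

end Cfsg.Agent.H263.FF.OddMain
end
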